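import Mathlib.RingTheory.Flat.FaithfullyFlat.Algebra
import Mathlib.LinearAlgebra.TensorProduct.Tower
import Mathlib.AlgebraicGeometry.Morphisms.Flat

/-!
# Flatness descends along faithfully flat maps on the source
-/

universe u

open TensorProduct AlgebraicGeometry CategoryTheory

namespace Groth.FlatMor2

theorem flat_of_tower {Q R S : Type u} [CommRing Q] [CommRing R] [CommRing S] [Algebra Q R] [Algebra R S]
    [Algebra Q S] [IsScalarTower Q R S] [Module.Flat Q S] [Module.FaithfullyFlat R S] : Module.Flat Q R := by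
  rw [Module.Flat.iff_lTensor_preserves_injective_linearMap]
  intro M N _ _ _ _ f hf
  let fR : R ⊗[Q] M →ₗ[R] R ⊗[Q] N := TensorProduct.AlgebraTensorModule.map LinearMap.id f
  suffices Function.Injective fR from this
  rw [← Module.FaithfullyFlat.lTensor_injective_iff_injective R S]
  have e : fR.lTensor S = (AlgebraTensorModule.cancelBaseChange Q R R S N).symm.toLinearMap ∘ₗ (AlgebraTensorModule.map LinearMap.id f : S ⊗[Q] M →ₗ[R] S ⊗[Q] N) ∘ₗ (AlgebraTensorModule.cancelBaseChange Q R R S M).toLinearMap := by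
    ext s m; simp [fR]
  rw [e]
  simp only [LinearMap.coe_comp, LinearEquiv.coe_coe, EquivLike.comp_injective, EquivLike.injective_comp]
  exact Module.Flat.lTensor_preserves_injective_linearMap f hf

/-- If `a` is flat and surjective and `a ≫ g` is flat then `g` is flat. -/
theorem flat_of_comp_surjective {X Y Z : Scheme.{u}} (a : X ⟶ Y) (g : Y ⟶ Z) [Flat a] [Surjective a]
    [Flat (a ≫ g)] : Flat g := by
  rw [Flat.iff_flat_stalkMap]
  intro y
  obtain ⟨x, rfl⟩ := a.surjective y
  have h1 := Flat.stalkMap a x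
  have h2 := Flat.stalkMap (a ≫ g) x
  rw [Scheme.Hom.stalkMap_comp] at h2
  letI := (g.stalkMap (a x)).hom.toAlgebra
  letI := (a.stalkMap x).hom.toAlgebra
  letI : Algebra (Z.presheaf.stalk (g (a x))) (X.presheaf.stalk x) :=
    ((a.stalkMap x).hom.comp (g.stalkMap (a x)).hom).toAlgebra
  haveI : IsScalarTower (Z.presheaf.stalk (g (a x))) (Y.presheaf.stalk (a x)) (X.presheaf.stalk x) :=
    .of_algebraMap_eq' rfl
  haveI : Module.Flat (Y.presheaf.stalk (a x)) (X.presheaf.stalk x) := h1
  haveI : Module.Flat (Z.presheaf.stalk (g (a x))) (X.presheaf.stalk x) := h2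
  haveI : IsLocalHom (algebraMap (Y.presheaf.stalk (a x)) (X.presheaf.stalk x)) :=
    inferInstanceAs (IsLocalHom (a.stalkMap x).hom)
  haveI : Module.FaithfullyFlat (Y.presheaf.stalk (a x)) (X.presheaf.stalk x) :=
    Module.FaithfullyFlat.of_flat_of_isLocalHom
  exact flat_of_tower (Q := Z.presheaf.stalk (g (a x))) (S := X.presheaf.stalk x)

end Groth.FlatMor2
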