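import Groth.Prelude.Def_MoreMor
import Mathlib.AlgebraicGeometry.Morphisms.Integral
import Mathlib.AlgebraicGeometry.Morphisms.UniversallyOpen
import Mathlib.AlgebraicGeometry.Morphisms.UniversallyInjective
import Mathlib.AlgebraicGeometry.Morphisms.QuasiSeparated
import Mathlib.AlgebraicGeometry.PullbackCarrier

/-!
# Topological properties of morphisms of thickenings
-/

universe u

open AlgebraicGeometry CategoryTheory Limits

namespace Groth.FlatMor2

variable {X Y Z : Scheme.{u}}

/-- A surjective closed immersion is universally open. -/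
lemma universallyOpen_of_closedImmersion_surjective (i : X ⟶ Y) [IsClosedImmersion i] [Surjective i] :
    UniversallyOpen i := by
  rw [UniversallyOpen.eq]
  intro X' Y' i₁ i₂ f' hf
  have h1 : IsClosedImmersion f' := MorphismProperty.of_isPullback hf.flip inferInstance
  have h2 : Surjective f' := MorphismProperty.of_isPullback hf.flip inferInstance
  have he := f'.isClosedEmbedding
  exact ((isHomeomorph_iff_continuous_isClosedMap_bijective).mpr
    ⟨he.continuous, he.isClosedMap, he.injective, f'.surjective⟩).isOpenMap

lemma quasiCompact_of_comp_surjective (a : X ⟶ Y) (g : Y ⟶ Z) [Surjective a] [QuasiCompact (a ≫ g)] :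
    QuasiCompact g := by
  rw [quasiCompact_iff]
  intro U hU hU'
  have h := (QuasiCompact.isCompact_preimage (f := a ≫ g) U hU hU').image a.continuous
  rwa [Scheme.Hom.comp_base, TopCat.coe_comp, Set.preimage_comp,
    Set.image_preimage_eq _ a.surjective] at h

lemma universallyOpen_of_comp_surjective (a : X ⟶ Y) (g : Y ⟶ Z) [Surjective a]
    [h : UniversallyOpen (a ≫ g)] : UniversallyOpen g := by
  rw [UniversallyOpen.eq] at h ⊢
  intro Y' Z' i₁ i₂ g' hg
  have hpb := (IsPullback.of_hasPullback a i₁).flip.paste_horiz hg
  have h' : IsOpenMap ⇑(pullback.snd a i₁ ≫ g') := h _ _ _ hpb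
  intro U hU
  have := h' _ (hU.preimage (pullback.snd a i₁).continuous)
  rwa [Scheme.Hom.comp_base, TopCat.coe_comp, Set.image_comp,
    Set.image_preimage_eq _ (pullback.snd a i₁).surjective] at this

lemma universallyInjective_of_comp_surjective (a : X ⟶ Y) (g : Y ⟶ Z) [Surjective a]
    [h : UniversallyInjective (a ≫ g)] : UniversallyInjective g := by
  rw [universallyInjective_eq] at h ⊢
  intro Y' Z' i₁ i₂ g' hg
  have hpb := (IsPullback.of_hasPullback a i₁).flip.paste_horiz hg
  have h' : Function.Injective ⇑(pullback.snd a i₁ ≫ g') := h _ _ _ hpb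
  exact Function.Injective.of_comp_right (by simpa using h') (pullback.snd a i₁).surjective

lemma quasiSeparated_of_comp_surjective (a : X ⟶ Y) (g : Y ⟶ Z) [Surjective a]
    [QuasiCompact a] [QuasiSeparated (a ≫ g)] : QuasiSeparated g := by
  constructor
  have : QuasiCompact (pullback.map (a ≫ g) (a ≫ g) g g a a (𝟙 Z) (by simp) (by simp)) :=
    MorphismProperty.pullbackMap ‹_› ‹_› rfl rfl
  have h : a ≫ pullback.diagonal g = pullback.diagonal (a ≫ g) ≫
      pullback.map (a ≫ g) (a ≫ g) g g a a (𝟙 Z) (by simp) (by simp) := by
    apply pullback.hom_ext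
    · rw [Category.assoc, Category.assoc, pullback.lift_fst,
        pullback.diagonal_fst, pullback.diagonal_fst_assoc, Category.comp_id]
    · rw [Category.assoc, Category.assoc, pullback.lift_snd,
        pullback.diagonal_snd, pullback.diagonal_snd_assoc, Category.comp_id]
  have : QuasiCompact (a ≫ pullback.diagonal g) := by rw [h]; infer_instance
  exact quasiCompact_of_comp_surjective a _

section thickening

variable {X' S S' : Scheme.{u}} {iX : X ⟶ X'} {iS : S ⟶ S'} {f : X ⟶ S} {f' : X' ⟶ S'}

lemma quasiCompact_iff_of_thickening (hX : MoreMor.IsThickening iX) (hS : MoreMor.IsThickening iS)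
    (w : iX ≫ f' = f ≫ iS) : QuasiCompact f ↔ QuasiCompact f' := by
  obtain ⟨_, _⟩ := hX; obtain ⟨_, _⟩ := hS
  constructor <;> intro h
  · have : QuasiCompact (iX ≫ f') := by rw [w]; infer_instance
    exact quasiCompact_of_comp_surjective iX f'
  · have : QuasiCompact (f ≫ iS) := by rw [← w]; infer_instance
    exact QuasiCompact.of_comp f iS

lemma quasiSeparated_iff_of_thickening (hX : MoreMor.IsThickening iX) (hS : MoreMor.IsThickening iS)
    (w : iX ≫ f' = f ≫ iS) : QuasiSeparated f ↔ QuasiSeparated f' := by
  obtain ⟨_, _⟩ := hX; obtain ⟨_, _⟩ := hS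
  constructor <;> intro h
  · have : QuasiSeparated (iX ≫ f') := by rw [w]; infer_instance
    exact quasiSeparated_of_comp_surjective iX f'
  · have : QuasiSeparated (f ≫ iS) := by rw [← w]; infer_instance
    exact QuasiSeparated.of_comp f iS

lemma universallyClosed_iff_of_thickening (hX : MoreMor.IsThickening iX) (hS : MoreMor.IsThickening iS)
    (w : iX ≫ f' = f ≫ iS) : UniversallyClosed f ↔ UniversallyClosed f' := by
  obtain ⟨_, _⟩ := hX; obtain ⟨_, _⟩ := hS
  constructor <;> intro h
  · have : UniversallyClosed (iX ≫ f') := by rw [w]; infer_instance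
    exact UniversallyClosed.of_comp_surjective iX f'
  · have : UniversallyClosed (f ≫ iS) := by rw [← w]; infer_instance
    exact UniversallyClosed.of_comp_of_isSeparated f iS

lemma universallyInjective_iff_of_thickening (hX : MoreMor.IsThickening iX) (hS : MoreMor.IsThickening iS)
    (w : iX ≫ f' = f ≫ iS) : UniversallyInjective f ↔ UniversallyInjective f' := by
  obtain ⟨_, _⟩ := hX; obtain ⟨_, _⟩ := hS
  constructor <;> intro h
  · have : UniversallyInjective (iX ≫ f') := by rw [w]; exact MorphismProperty.comp_mem _ _ _ h inferInstance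
    exact universallyInjective_of_comp_surjective iX f'
  · have hc : UniversallyInjective (iX ≫ f') := MorphismProperty.comp_mem _ _ _ inferInstance h
    rw [w] at hc
    rw [universallyInjective_eq]
    intro P Q i₁ i₂ g hg
    rw [universallyInjective_eq] at hc
    have hQ : IsPullback (𝟙 Q) i₂ (i₂ ≫ iS) iS := IsPullback.of_horiz_isIso_mono ⟨by simp⟩
    simpa using hc _ _ _ (hg.paste_horiz hQ)

lemma universallyOpen_iff_of_thickening (hX : MoreMor.IsThickening iX) (hS : MoreMor.IsThickening iS)
    (w : iX ≫ f' = f ≫ iS) : UniversallyOpen f ↔ UniversallyOpen f' := by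
  obtain ⟨_, _⟩ := hX; obtain ⟨_, _⟩ := hS
  have := universallyOpen_of_closedImmersion_surjective iX
  have := universallyOpen_of_closedImmersion_surjective iS
  constructor <;> intro h
  · have : UniversallyOpen (iX ≫ f') := by rw [w]; infer_instance
    exact universallyOpen_of_comp_surjective iX f'
  · let l : X ⟶ pullback f' iS := pullback.lift iX f w
    have : IsClosedImmersion (l ≫ pullback.fst f' iS) := by simp only [l, pullback.lift_fst]; infer_instance
    have hl : IsClosedImmersion l := IsClosedImmersion.of_comp l (pullback.fst f' iS)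
    have hls : Surjective l := ⟨fun p => by
      obtain ⟨x, hx⟩ := iX.surjective (pullback.fst f' iS p)
      refine ⟨x, (pullback.fst f' iS).isClosedEmbedding.injective ?_⟩
      simp only [← hx, l, ← Scheme.Hom.comp_apply, pullback.lift_fst]⟩
    have := universallyOpen_of_closedImmersion_surjective l
    have e : f = l ≫ pullback.snd f' iS := (pullback.lift_snd _ _ _).symm
    rw [e]; infer_instance

end thickening

end Groth.FlatMor2
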