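import Mathlib.AlgebraicGeometry.Morphisms.Affine
import Mathlib.AlgebraicGeometry.Morphisms.ClosedImmersion
import Mathlib.AlgebraicGeometry.Morphisms.UnderlyingMap

/-!
# A square zero thickening of an affine scheme is affine

Global sections lift along a square zero thickening of an affine scheme: the obstruction
cocycle is trivialised by a partition of unity.
-/

universe u

open AlgebraicGeometry CategoryTheory TopologicalSpace Opposite

namespace Groth.FlatMor2

namespace SquareZero

variable {X X' : Scheme.{u}}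

/-- Restriction of sections, as a ring map. -/
noncomputable abbrev res (X : Scheme.{u}) {U V : X.Opens} (h : U ≤ V) : Γ(X, V) →+* Γ(X, U) :=
  (X.presheaf.map (homOfLE h).op).hom

lemma res_res {U V W : X.Opens} (h : U ≤ V) (h' : V ≤ W) (x : Γ(X, W)) :
    res X h (res X h' x) = res X (h.trans h') x := by
  simp [res, ← CommRingCat.comp_apply, ← Functor.map_comp, ← op_comp, -CommRingCat.hom_comp]

@[simp] lemma res_self {U : X.Opens} (h : U ≤ U) (x : Γ(X, U)) : res X h x = x := by
  simp [res]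

lemma eq_of_res {ι : Type*} {U : ι → X.Opens} {V : X.Opens} (hle : ∀ i, U i ≤ V) (hcov : V ≤ iSup U)
    {s t : Γ(X, V)} (h : ∀ i, res X (hle i) s = res X (hle i) t) : s = t :=
  X.sheaf.eq_of_locally_eq' U V (fun i => homOfLE (hle i)) hcov s t h

variable (i : X ⟶ X')

lemma app_res {U V : X'.Opens} (h : U ≤ V) (x : Γ(X', V)) :
    i.app U (res X' h x) = res X (i.preimage_mono h) (i.app V x) :=
  congr($(i.naturality (homOfLE h).op) x)

variable {i}

lemma eq_of_preimage_eq [Surjective i] {U V : X'.Opens} (h : i ⁻¹ᵁ U = i ⁻¹ᵁ V) : U = V :=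
  Opens.ext (i.surjective.preimage_injective congr(($h : Set X)))

/-- Elements of an affine open killed on a basic open are killed by a power. -/
lemma exists_pow_mul_eq_zero {U : X'.Opens} (hU : IsAffineOpen U) (a : Γ(X', U)) {V : X'.Opens}
    (hV : V = X'.basicOpen a) {z : Γ(X', U)}
    (hz : res X' (hV.le.trans (X'.basicOpen_le a)) z = 0) : ∃ n, a ^ n * z = 0 := by
  subst hV
  have := hU.isLocalization_basicOpen a
  obtain ⟨n, hn⟩ := IsLocalization.Away.exists_of_eq (S := Γ(X', X'.basicOpen a)) a (a := z) (b := 0)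
    (by simpa [RingHom.algebraMap_toAlgebra] using hz)
  exact ⟨n, by simpa using hn⟩

/-- Sections on a basic open of an affine open are fractions. -/
lemma exists_pow_mul_eq {U : X'.Opens} (hU : IsAffineOpen U) (a : Γ(X', U)) {V : X'.Opens}
    (hV : V = X'.basicOpen a) (c : Γ(X', V)) :
    ∃ (n : ℕ) (d : Γ(X', U)), res X' (hV.le.trans (X'.basicOpen_le a)) d =
      res X' (hV.le.trans (X'.basicOpen_le a)) a ^ n * c := by
  subst hV
  have := hU.isLocalization_basicOpen a
  obtain ⟨n, d, hd⟩ := IsLocalization.Away.surj a c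
  exact ⟨n, d, by simpa [RingHom.algebraMap_toAlgebra, mul_comm] using hd.symm⟩

variable [IsClosedImmersion i] [Surjective i] [IsAffine X]

lemma exists_chart (x : X') : ∃ (a : Γ(X, ⊤)) (D : X'.Opens),
    x ∈ D ∧ IsAffineOpen D ∧ i ⁻¹ᵁ D = X.basicOpen a := by
  obtain ⟨_, ⟨W, hW, rfl⟩, hxW, -⟩ :=
    X'.isBasis_affineOpens.exists_subset_of_mem_open (Set.mem_univ x) isOpen_univ
  obtain ⟨y, rfl⟩ := i.surjective x
  obtain ⟨a, haW, hya⟩ := (isAffineOpen_top X).exists_basicOpen_le (V := i ⁻¹ᵁ W) ⟨y, hxW⟩ trivial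
  obtain ⟨a', ha'⟩ := i.app_surjective W hW (res X le_top a)
  have h : i ⁻¹ᵁ X'.basicOpen a' = X.basicOpen a := by
    rw [i.preimage_basicOpen, ha', Scheme.basicOpen_res]
    exact inf_eq_right.mpr haW
  exact ⟨a, X'.basicOpen a', (h.ge hya :), hW.basicOpen a', h⟩

variable (hsq : ∀ (U : X'.Opens) (x y : Γ(X', U)), i.app U x = 0 → i.app U y = 0 → x * y = 0)
include hsq

omit [IsAffine X] [IsClosedImmersion i] [Surjective i] in
lemma lift_mul_eq {U : X'.Opens} {p q c : Γ(X', U)} (h : i.app U p = i.app U q) (hc : i.app U c = 0) :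
    p * c = q * c := by
  rw [← sub_eq_zero, ← sub_mul]
  exact hsq U _ _ (by rw [map_sub, h, sub_self]) hc

set_option maxHeartbeats 800000 in
/-- Global sections lift along square zero thickenings of affine schemes. -/
lemma appTop_surjective : Function.Surjective i.appTop := by
  classical
  intro f
  have hchart := fun x => exists_chart (i := i) x
  choose a0 D0 hxD0 hD0 hpre0 using hchart
  have : CompactSpace X' := ⟨by
    rw [← Set.image_univ_of_surjective i.surjective]; exact isCompact_univ.image i.continuous⟩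
  obtain ⟨t, ht⟩ := isCompact_univ.elim_finite_subcover (fun x => (D0 x : Set X')) (fun x => (D0 x).2)
    (fun x _ => Set.mem_iUnion.mpr ⟨x, hxD0 x⟩)
  let ι := {x // x ∈ t}
  let a : ι → Γ(X, ⊤) := fun α => a0 α
  let D : ι → X'.Opens := fun α => D0 α
  have hD : ∀ α, IsAffineOpen (D α) := fun α => hD0 α
  have hpre : ∀ α, i ⁻¹ᵁ D α = X.basicOpen (a α) := fun α => hpre0 α
  have hcov : (⊤ : X'.Opens) ≤ iSup D := fun x _ => by
    obtain ⟨y, hy, hxy⟩ := Set.mem_iUnion₂.mp (ht (Set.mem_univ x))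
    exact Opens.mem_iSup.mpr ⟨⟨y, hy⟩, hxy⟩
  -- lifts of `f` and of the functions `a α`
  have hlift : ∀ (z : Γ(X, ⊤)) (β : ι), ∃ z' : Γ(X', D β), i.app (D β) z' = res X le_top z :=
    fun z β => i.app_surjective (D β) (hD β) _
  choose L hL using hlift
  -- intersections are basic opens
  have hbo : ∀ α β, D α ⊓ D β = X'.basicOpen (L (a α) β) := fun α β =>
    eq_of_preimage_eq (i := i) (by
      rw [i.preimage_inf, i.preimage_basicOpen, hL, Scheme.basicOpen_res, hpre α, inf_comm])
  have hLres : ∀ z {β} {U : X'.Opens} (h : U ≤ D β),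
      i.app U (res X' h (L z β)) = res X le_top z := by
    intro z β U h; rw [app_res, hL, res_res]
  let c : ∀ α β, Γ(X', D α ⊓ D β) := fun α β =>
    res X' inf_le_left (L f α) - res X' inf_le_right (L f β)
  have hc : ∀ α β, i.app _ (c α β) = 0 := by
    intro α β; simp only [c, map_sub, hLres, sub_self]
  -- extend `a α ^ n * c α β` to `D β`
  have hd : ∀ α β, ∃ (n : ℕ) (d : Γ(X', D β)), i.app _ d = 0 ∧
      res X' (inf_le_right (a := D α)) d = res X' (inf_le_right (a := D α)) (L (a α) β) ^ n * c α β := by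
    intro α β
    obtain ⟨n, d, hd⟩ := exists_pow_mul_eq (hD β) (L (a α) β) (hbo α β) (c α β)
    have h0 : res X (i.preimage_mono (inf_le_right (a := D α))) (i.app _ d) = 0 := by
      rw [← app_res i (inf_le_right (a := D α)) d, hd, map_mul, hc, mul_zero]
    have : IsAffineOpen (i ⁻¹ᵁ D β) := by rw [hpre]; exact (isAffineOpen_top X).basicOpen _
    obtain ⟨m, hm⟩ := exists_pow_mul_eq_zero this (res X le_top (a α)) (V := i ⁻¹ᵁ (D α ⊓ D β))
      (by rw [Scheme.basicOpen_res, i.preimage_inf, hpre α, inf_comm]) h0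
    refine ⟨m + n, L (a α) β ^ m * d, by rw [map_mul, map_pow, hL, hm], ?_⟩
    rw [map_mul, map_pow, hd, pow_add, mul_assoc]
  choose n0 d0 hd0 hd0' using hd
  -- make the exponent uniform
  let N := (Finset.univ : Finset (ι × ι)).sup fun p => n0 p.1 p.2
  have hN : ∀ α β, n0 α β ≤ N := fun α β => Finset.le_sup (f := fun p : ι × ι => n0 p.1 p.2) (Finset.mem_univ (α, β))
  let d1 : ∀ α β, Γ(X', D β) := fun α β => L (a α) β ^ (N - n0 α β) * d0 α β
  have hd1 : ∀ α β, i.app _ (d1 α β) = 0 := fun α β => by simp only [d1, map_mul, hd0, mul_zero]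
  have hd1' : ∀ α β {U : X'.Opens} (hU : U ≤ D α ⊓ D β),
      res X' (hU.trans inf_le_right) (d1 α β) =
        res X' (hU.trans inf_le_right) (L (a α) β) ^ N * res X' hU (c α β) := by
    intro α β U hU
    rw [← res_res hU inf_le_right, ← res_res hU inf_le_right, ← map_pow, ← map_mul]
    congr 1
    simp only [d1, map_mul, map_pow, hd0']
    rw [← mul_assoc, ← pow_add, Nat.sub_add_cancel (hN α β)]
  let c' : ∀ β γ, Γ(X', D β ⊓ D γ) := fun β γ =>
    res X' (U := D β ⊓ D γ) (V := D γ ⊓ D β) (inf_comm _ _).le (c γ β)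
  -- the cocycle identity holds up to a power of `a α`
  have he : ∀ α β γ, ∃ M, res X' (inf_le_left (b := D γ)) (L (a α) β) ^ M *
      (res X' (inf_le_left (b := D γ)) (d1 α β) - res X' inf_le_right (d1 α γ)
        - res X' inf_le_left (L (a α) β) ^ N * c' β γ) = (0 : Γ(X', D β ⊓ D γ)) := by
    intro α β γ
    have hA : IsAffineOpen (D β ⊓ D γ) := by rw [hbo]; exact (hD γ).basicOpen _
    refine exists_pow_mul_eq_zero hA _ (V := D α ⊓ (D β ⊓ D γ))
      (eq_of_preimage_eq (i := i) (by
        rw [i.preimage_inf, i.preimage_basicOpen, hLres, Scheme.basicOpen_res, hpre α, inf_comm])) ?_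
    have l1 : D α ⊓ (D β ⊓ D γ) ≤ D α ⊓ D β := inf_le_inf_left _ inf_le_left
    have l2 : D α ⊓ (D β ⊓ D γ) ≤ D α ⊓ D γ := inf_le_inf_left _ inf_le_right
    simp only [c', map_sub, map_mul, map_pow, res_res]
    rw [hd1' α β l1, hd1' α γ l2,
      lift_mul_eq hsq (p := res X' (l2.trans inf_le_right) (L (a α) γ) ^ N)
        (q := res X' (l1.trans inf_le_right) (L (a α) β) ^ N) (by simp only [map_pow, hLres])
        (by rw [app_res, hc, map_zero]), ← mul_sub, ← mul_sub]
    simp only [c', c, map_sub, res_res]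
    ring
  choose M0 hM0 using he
  let M := (Finset.univ : Finset (ι × ι × ι)).sup fun p => M0 p.1 p.2.1 p.2.2
  have hspan : Ideal.span (Set.range fun α => a α ^ (M + N)) = ⊤ := by
    have h1 : Ideal.span (Set.range a) = ⊤ := by
      rw [← (isAffineOpen_top X).iSup_basicOpen_eq_self_iff]
      refine top_le_iff.mp fun x _ => ?_
      obtain ⟨α, hα⟩ := Opens.mem_iSup.mp (hcov (Set.mem_univ (i x)))
      exact Opens.mem_iSup.mpr ⟨⟨a α, α, rfl⟩, (hpre α).le hα⟩
    have := Ideal.span_pow_eq_top _ h1 (M + N)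
    rwa [← Set.range_comp] at this
  obtain ⟨v, hv⟩ := (Submodule.mem_span_range_iff_exists_fun _).mp
    (hspan.ge (Submodule.mem_top (x := (1 : Γ(X, ⊤)))))
  let s : ∀ β, Γ(X', D β) := fun β => L f β + ∑ α, L (v α) β * (L (a α) β ^ M * d1 α β)
  have hs : TopCat.Presheaf.IsCompatible X'.sheaf.obj D s := by
    intro β γ
    show res X' inf_le_left (s β) = res X' inf_le_right (s γ)
    have hterm : ∀ α, res X' (inf_le_left (b := D γ)) (L (v α) β * (L (a α) β ^ M * d1 α β)) -
        res X' (inf_le_right (a := D β)) (L (v α) γ * (L (a α) γ ^ M * d1 α γ)) =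
        res X' inf_le_left (L (v α) β) * res X' inf_le_left (L (a α) β) ^ (M + N) * c' β γ := by
      intro α
      simp only [map_mul, map_pow]
      rw [← mul_assoc, ← mul_assoc, lift_mul_eq hsq
        (p := res X' inf_le_right (L (v α) γ) * res X' inf_le_right (L (a α) γ) ^ M)
        (q := res X' (inf_le_left (b := D γ)) (L (v α) β) * res X' inf_le_left (L (a α) β) ^ M)
        (by simp only [map_mul, map_pow, hLres]) (by rw [app_res, hd1, map_zero]), ← mul_sub]
      obtain ⟨k, hk⟩ := Nat.exists_eq_add_of_le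
        (Finset.le_sup (f := fun p : ι × ι × ι => M0 p.1 p.2.1 p.2.2) (Finset.mem_univ (α, β, γ)))
      have hM : res X' inf_le_left (L (a α) β) ^ M * (res X' inf_le_left (d1 α β) -
          res X' inf_le_right (d1 α γ) - res X' inf_le_left (L (a α) β) ^ N * c' β γ) =
          (0 : Γ(X', D β ⊓ D γ)) := by
        rw [show M = k + M0 α β γ by rw [add_comm]; exact hk, pow_add, mul_assoc, hM0, mul_zero]
      rw [← sub_eq_zero]
      linear_combination (res X' inf_le_left (L (v α) β)) * hM
    have hsum : (∑ α, res X' (inf_le_left (a := D β) (b := D γ)) (L (v α) β) *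
        res X' inf_le_left (L (a α) β) ^ (M + N)) * c' β γ = c' β γ := by
      conv_rhs => rw [← one_mul (c' β γ)]
      refine lift_mul_eq hsq ?_ ?_
      · simp only [map_sum, map_mul, map_pow, hLres, map_one]
        rw [← map_one (res X (le_top : i ⁻¹ᵁ (D β ⊓ D γ) ≤ ⊤)), ← hv]
        simp [smul_eq_mul]
      · simp only [c', c, map_sub, res_res, hLres, sub_self]
    rw [Finset.sum_mul] at hsum
    rw [← sub_eq_zero]
    simp only [s, map_add, map_sum]
    rw [add_sub_add_comm, ← Finset.sum_sub_distrib, Finset.sum_congr rfl fun α _ => hterm α, hsum]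
    simp only [c', c, map_sub, res_res]
    ring
  obtain ⟨g, hg, -⟩ := X'.sheaf.existsUnique_gluing' D ⊤ (fun α => homOfLE le_top) hcov s hs
  refine ⟨g, eq_of_res (U := fun α => i ⁻¹ᵁ D α) (fun α => le_top) ?_ fun α => ?_⟩
  · intro x _
    obtain ⟨α, hα⟩ := Opens.mem_iSup.mp (hcov (Set.mem_univ (i x)))
    exact Opens.mem_iSup.mpr ⟨α, hα⟩
  · refine (app_res i (le_top : D α ≤ ⊤) g).symm.trans ?_
    have : res X' (le_top : D α ≤ ⊤) g = s α := hg α
    rw [this]
    simp only [s, map_add, map_sum, map_mul, hd1, mul_zero, Finset.sum_const_zero, add_zero, hL]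

theorem isAffine : IsAffine X' := by
  classical
  have hsurj := appTop_surjective hsq
  let s : Set Γ(X', ⊤) := {g | IsAffineOpen (X'.basicOpen g)}
  refine isAffine_of_isAffineOpen_basicOpen s ?_ fun g hg => hg
  have hmap : (Ideal.span s).map i.appTop.hom = ⊤ := by
    rw [Ideal.map_span, ← (isAffineOpen_top X).iSup_basicOpen_eq_self_iff]
    refine top_le_iff.mp fun x _ => ?_
    obtain ⟨a, D, hxD, hD, hpre⟩ := exists_chart (i := i) (i x)
    obtain ⟨g, rfl⟩ := hsurj a
    have : X'.basicOpen g = D := eq_of_preimage_eq (i := i) (by rw [i.preimage_basicOpen, hpre]; rfl)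
    exact Opens.mem_iSup.mpr ⟨⟨i.appTop g, g, by simp only [s]; show IsAffineOpen _; rwa [this], rfl⟩,
      (hpre.le hxD :)⟩
  obtain ⟨y, hy, hy1⟩ := (Ideal.mem_map_iff_of_surjective _ hsurj).mp (hmap.ge (Submodule.mem_top (x := (1 : Γ(X, ⊤)))))
  refine Ideal.eq_top_of_isUnit_mem _ hy ?_
  have h0 : (1 - y) * (1 - y) = 0 := hsq ⊤ _ _
    (show i.appTop _ = 0 by rw [map_sub, map_one, hy1, sub_self])
    (show i.appTop _ = 0 by rw [map_sub, map_one, hy1, sub_self])
  exact IsUnit.of_mul_eq_one (2 - y) (by linear_combination -h0)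

end SquareZero

end Groth.FlatMor2
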