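import Groth.Prelude.Def_MoreMor
import Groth.Agent.FlatMor2.Thickening
import Groth.Agent.FlatMor2.SquareZero
import Mathlib.AlgebraicGeometry.AffineTransitionLimit
import Mathlib.AlgebraicGeometry.IdealSheaf.Functorial

/-!
# A scheme with an affine thickening-subscheme is affine

* `isAffine_of_ker_pow_eq_bot`: finite order case;
* `exists_le_fg`: on a qcqs scheme a section of an ideal sheaf `J` lies in a finite type ideal
  sheaf contained in `J`;
* `isAffine_of_surjective_closedImmersion`: the general case, by passage to the limit.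
-/

universe u

open AlgebraicGeometry CategoryTheory Limits TopologicalSpace Opposite

namespace Groth.FlatMor2

variable {X X' : Scheme.{u}}

lemma eq_zero_of_res_affine {U : X.Opens} {z : Γ(X, U)}
    (h : ∀ (W : X.Opens) (hW : W ≤ U), IsAffineOpen W → X.presheaf.map (homOfLE hW).op z = 0) :
    z = 0 := by
  apply X.IsSheaf.section_ext
  intro p hp
  obtain ⟨_, ⟨W, hW, rfl⟩, hpW, hWle⟩ := X.isBasis_affineOpens.exists_subset_of_mem_open hp U.2
  exact ⟨W, hWle, hpW, by rw [map_zero]; exact h W hWle hW⟩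

lemma isAffine_of_ker_sq_eq_bot (i : X ⟶ X') [IsClosedImmersion i] [Surjective i] [IsAffine X]
    (h : i.ker * i.ker = ⊥) : IsAffine X' := by
  refine SquareZero.isAffine (i := i) fun U x y hx hy => eq_zero_of_res_affine fun W hW hWa => ?_
  have hk : ∀ z : Γ(X', U), i.app U z = 0 →
      X'.presheaf.map (homOfLE hW).op z ∈ i.ker.ideal ⟨W, hWa⟩ := fun z hz => by
    rw [Scheme.Hom.ker_apply, RingHom.mem_ker]
    exact (congr($(i.naturality (homOfLE hW).op) z)).trans
      ((congrArg (X.presheaf.map _).hom hz).trans (map_zero _))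
  have hbot : i.ker.ideal ⟨W, hWa⟩ * i.ker.ideal ⟨W, hWa⟩ = ⊥ := by
    rw [← Pi.mul_apply (f := i.ker.ideal), ← Scheme.IdealSheafData.ideal_mul, h]
    simp
  have := Ideal.mul_mem_mul (hk x hx) (hk y hy)
  rw [hbot, Ideal.mem_bot] at this
  rw [map_mul]
  exact this

lemma isAffine_of_ker_pow_eq_bot (n : ℕ) : ∀ {X : Scheme.{u}} (i : X ⟶ X') [IsClosedImmersion i]
    [Surjective i] [IsAffine X], i.ker ^ (2 ^ n) = ⊥ → IsAffine X' := by
  induction n generalizing X' with
  | zero =>
    intro X i _ _ _ h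
    apply isAffine_of_ker_sq_eq_bot i
    rw [pow_zero, pow_one] at h
    ext U
    simp [h]
  | succ n ih =>
    intro X i _ _ _ h
    let K := i.ker
    let L := K ^ (2 ^ n)
    have hle : L.subschemeι.ker ≤ i.ker := by
      rw [Scheme.IdealSheafData.ker_subschemeι]
      intro U
      show (K.ideal ^ 2 ^ n) U ≤ K.ideal U
      rw [Pi.pow_apply]
      exact Ideal.pow_le_self (by positivity)
    let j := IsClosedImmersion.lift L.subschemeι i hle
    have hj : j ≫ L.subschemeι = i := IsClosedImmersion.lift_fac _ _ hle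
    have : IsClosedImmersion (j ≫ L.subschemeι) := by rw [hj]; infer_instance
    have : IsClosedImmersion j := IsClosedImmersion.of_comp j L.subschemeι
    have : Surjective L.subschemeι := by
      have : Surjective (j ≫ L.subschemeι) := by rw [hj]; infer_instance
      exact Surjective.of_comp j _
    have : Surjective j := ⟨fun y => by
      obtain ⟨x, hx⟩ := i.surjective (L.subschemeι y)
      refine ⟨x, L.subschemeι.isClosedEmbedding.injective ?_⟩
      rw [← hx, ← Scheme.Hom.comp_apply, hj]⟩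
    -- the kernel of `j` has `2 ^ n`-th power zero
    have hjn : j.ker ^ (2 ^ n) = ⊥ := by
      refine Scheme.IdealSheafData.ext_of_iSup_eq_top
        (fun W : X'.affineOpens => ⟨L.subschemeι ⁻¹ᵁ W.1, W.2.preimage _⟩) ?_ fun W => ?_
      · exact IsOpenCover.comap (iSup_affineOpens_eq_top X') _
      have hsub : j.ker.ideal ⟨L.subschemeι ⁻¹ᵁ W.1, W.2.preimage _⟩ ≤
          (K.ideal W).map (L.subschemeι.app W.1).hom := by
        intro z hz
        rw [Scheme.Hom.ker_apply, RingHom.mem_ker] at hz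
        obtain ⟨w, rfl⟩ := L.subschemeι.app_surjective W.1 W.2 z
        refine Ideal.mem_map_of_mem _ ?_
        rw [Scheme.Hom.ker_apply, RingHom.mem_ker]
        have := congr($(Scheme.Hom.congr_app hj.symm W.1) w)
        refine this.trans ?_
        rw [Scheme.Hom.comp_app]
        exact (congrArg (X.presheaf.map _).hom hz).trans (map_zero _)
      rw [Scheme.IdealSheafData.ideal_pow, Pi.pow_apply, Scheme.IdealSheafData.ideal_bot, Pi.bot_apply,
        eq_bot_iff]
      refine (Ideal.pow_right_mono hsub _).trans ?_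
      rw [← Ideal.map_pow, Ideal.map_le_iff_le_comap]
      intro w hw
      rw [Ideal.mem_comap, Ideal.mem_bot, ← RingHom.mem_ker, ← Scheme.Hom.ker_apply,
        Scheme.IdealSheafData.ker_subschemeι]
      exact hw
    have : IsAffine L.subscheme := ih (X' := L.subscheme) j hjn
    apply isAffine_of_ker_sq_eq_bot L.subschemeι
    rw [Scheme.IdealSheafData.ker_subschemeι, ← pow_add, ← two_mul, ← pow_succ']
    exact h

/-- Modify an ideal sheaf `K` to be finitely generated on one more affine open. -/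
lemma exists_le_fg_step [QuasiSeparatedSpace X] (K : X.IdealSheafData) (s : Finset X.affineOpens)
    (hs : ∀ V ∈ s, (K.ideal V).FG) (U : X.affineOpens) (T : Finset Γ(X, U.1))
    (hT : (T : Set Γ(X, U.1)) ⊆ K.ideal U) :
    ∃ K' : X.IdealSheafData, K' ≤ K ∧ (∀ V ∈ s, K'.ideal V = K.ideal V) ∧
      (K'.ideal U).FG ∧ (T : Set Γ(X, U.1)) ⊆ K'.ideal U := by
  classical
  -- numerators of the generators of `K` on the neighbouring opens
  have key : ∀ (V : s) (y : Γ(X, V.1.1)), y ∈ K.ideal V.1 → ∃ S : Finset Γ(X, U.1),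
      (S : Set Γ(X, U.1)) ⊆ K.ideal U ∧ ∀ x ∈ U.1 ⊓ V.1.1, ∃ (h : Γ(X, U.1)) (hle : X.basicOpen h ≤ V.1.1),
        x ∈ X.basicOpen h ∧ X.presheaf.map (homOfLE hle).op y ∈
          (Ideal.span (S : Set Γ(X, U.1))).map (X.presheaf.map (homOfLE (X.basicOpen_le h)).op).hom := by
    intro V y hy
    have hloc : ∀ x : ↥(U.1 ⊓ V.1.1), ∃ (h : Γ(X, U.1)) (hle : X.basicOpen h ≤ V.1.1) (n : Γ(X, U.1)),
        x.1 ∈ X.basicOpen h ∧ n ∈ K.ideal U ∧ X.presheaf.map (homOfLE hle).op y ∈
          (Ideal.span {n}).map (X.presheaf.map (homOfLE (X.basicOpen_le h)).op).hom := by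
      rintro ⟨x, hxU, hxV⟩
      obtain ⟨h, hle, hxh⟩ := U.2.exists_basicOpen_le (V := V.1.1) ⟨x, hxV⟩ hxU
      have := U.2.isLocalization_basicOpen h
      have hy' : X.presheaf.map (homOfLE hle).op y ∈ K.ideal (X.affineBasicOpen h) := by
        rw [← K.map_ideal (U := X.affineBasicOpen h) (V := V.1) hle]
        exact Ideal.mem_map_of_mem _ hy
      rw [← K.map_ideal (U := X.affineBasicOpen h) (V := U) (X.basicOpen_le h)] at hy'
      obtain ⟨⟨⟨n, hn⟩, ⟨_, k, rfl⟩⟩, hk⟩ :=
        (IsLocalization.mem_map_algebraMap_iff (Submonoid.powers h) Γ(X, X.basicOpen h)).mp hy'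
      refine ⟨h, hle, n, hxh, hn, ?_⟩
      have hu : IsUnit (algebraMap Γ(X, U.1) Γ(X, X.basicOpen h) (h ^ k)) :=
        IsLocalization.map_units _ (⟨h ^ k, k, rfl⟩ : Submonoid.powers h)
      exact (Ideal.mul_unit_mem_iff_mem _ hu).mp
        (by rw [hk]; exact Ideal.mem_map_of_mem _ (Ideal.mem_span_singleton_self n))
    choose h hle n hxh hn hny using hloc
    obtain ⟨t, ht⟩ := (QuasiSeparatedSpace.inter_isCompact U.1.1 V.1.1.1 U.1.2 U.2.isCompact V.1.1.2
      V.1.2.isCompact).elim_finite_subcover (fun x : ↥(U.1 ⊓ V.1.1) => (X.basicOpen (h x) : Set X))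
      (fun x => (X.basicOpen _).2) (fun x hx => Set.mem_iUnion.mpr ⟨⟨x, hx⟩, hxh _⟩)
    refine ⟨t.image n, fun m hm => ?_, fun x hx => ?_⟩
    · obtain ⟨p, -, rfl⟩ := Finset.mem_image.mp hm
      exact hn p
    obtain ⟨p, hp, hxp⟩ := Set.mem_iUnion₂.mp (ht hx)
    refine ⟨h p, hle p, hxp, Ideal.map_mono (Ideal.span_mono ?_) (hny p)⟩
    simp only [Finset.coe_image, Set.singleton_subset_iff]
    exact ⟨p, hp, rfl⟩
  choose S hS hSx using key
  choose G hG using hs
  let N₀ : Finset Γ(X, U.1) := T ∪ s.attach.biUnion fun V =>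
    (G V.1 V.2).attach.biUnion fun y => S V y.1 ((hG V.1 V.2).le (Ideal.subset_span y.2))
  let N : Ideal Γ(X, U.1) := Ideal.span N₀
  have hNK : N ≤ K.ideal U := by
    simp only [N, N₀, Ideal.span_le, Finset.coe_union, Finset.coe_biUnion, Set.union_subset_iff,
      Set.iUnion_subset_iff]
    exact ⟨hT, fun V _ y _ => hS _ _ _⟩
  have hU : IsAffineOpen U.1 := U.2
  let g : Spec (.of (Γ(X, U.1) ⧸ N)) ⟶ X :=
    Spec.map (CommRingCat.ofHom (Ideal.Quotient.mk N)) ≫ hU.fromSpec
  have hgU : RingHom.ker (g.app U.1).hom = N := by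
    ext z
    rw [RingHom.mem_ker, Scheme.Hom.comp_app]
    have hinj : ∀ {A B : CommRingCat.{u}} (e : A ⟶ B) [IsIso e] (a : A), e a = 0 ↔ a = 0 :=
      fun e _ a => map_eq_zero_iff _ (ConcreteCategory.bijective_of_isIso e).1
    rw [IsAffineOpen.fromSpec_app_self, Category.assoc, Scheme.Hom.naturality, ← Scheme.Hom.appTop]
    erw [← Scheme.ΓSpecIso_inv_naturality_assoc]
    refine (@hinj _ _ ((Scheme.ΓSpecIso (.of (Γ(X, U.1) ⧸ N))).inv ≫ (Spec (.of (Γ(X, U.1) ⧸ N))).presheaf.map _)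
      ?_ (Ideal.Quotient.mk N z)).trans Ideal.Quotient.eq_zero_iff_mem
    have hiso : ∀ {A B : (Spec (.of (Γ(X, U.1) ⧸ N))).Opensᵒᵖ} (m : A ⟶ B), A = B → IsIso m := by
      rintro A _ m rfl
      rw [show m = 𝟙 A from Quiver.Hom.unop_inj (Subsingleton.elim _ _)]
      infer_instance
    exact IsIso.comp_isIso' inferInstance
      (@Functor.map_isIso _ _ _ _ _ _ _ _ (hiso _ (congrArg op (by rw [hU.fromSpec_preimage_self]; rfl))))
  have : QuasiCompact g := inferInstance
  refine ⟨K ⊓ g.ker, inf_le_left, fun V hV => ?_, ?_, ?_⟩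
  · rw [Scheme.IdealSheafData.ideal_inf, Pi.inf_apply, inf_eq_left, ← hG V hV, Ideal.span_le,
      Scheme.Hom.ker_apply]
    intro y hy
    rw [SetLike.mem_coe, RingHom.mem_ker]
    -- check vanishing locally on `g ⁻¹ᵁ V`
    apply (Spec (.of (Γ(X, U.1) ⧸ N))).IsSheaf.section_ext
    intro q hq
    have hqU : g q ∈ U.1 := by
      have h := Set.mem_range_self (f := hU.fromSpec) (Spec.map (CommRingCat.ofHom (Ideal.Quotient.mk N)) q)
      rw [hU.range_fromSpec] at h
      exact h
    obtain ⟨h, hle, hxh, hmem⟩ := hSx ⟨V, hV⟩ y ((hG V hV).le (Ideal.subset_span hy)) (g q) ⟨hqU, hq⟩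
    refine ⟨g ⁻¹ᵁ X.basicOpen h, g.preimage_mono hle, hxh, ?_⟩
    rw [map_zero]
    refine (congr($(g.naturality (homOfLE hle).op) y)).symm.trans ?_
    have hN' : (Ideal.span (S ⟨V, hV⟩ y ((hG V hV).le (Ideal.subset_span hy)) : Set Γ(X, U.1))).map
        (X.presheaf.map (homOfLE (X.basicOpen_le h)).op).hom ≤ RingHom.ker (g.app (X.basicOpen h)).hom := by
      rw [Ideal.map_le_iff_le_comap, Ideal.span_le]
      intro m hm
      have hmN : m ∈ N := Ideal.subset_span (by
        simp only [N₀, Finset.coe_union, Finset.coe_biUnion]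
        exact Or.inr (Set.mem_biUnion (x := (⟨V, hV⟩ : s)) (Finset.mem_attach _ _)
          (Set.mem_biUnion (x := (⟨y, hy⟩ : (G V hV : Finset _))) (Finset.mem_attach _ _) hm)))
      rw [← hgU, RingHom.mem_ker] at hmN
      rw [SetLike.mem_coe, Ideal.mem_comap, RingHom.mem_ker]
      refine (congr($(g.naturality (homOfLE (X.basicOpen_le h)).op) m)).trans ?_
      exact (congrArg ((Spec (.of (Γ(X, U.1) ⧸ N))).presheaf.map _).hom hmN).trans (map_zero _)
    exact hN' hmem
  · rw [Scheme.IdealSheafData.ideal_inf, Pi.inf_apply, Scheme.Hom.ker_apply, hgU, inf_eq_right.mpr hNK]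
    exact ⟨N₀, rfl⟩
  · rw [Scheme.IdealSheafData.ideal_inf, Pi.inf_apply, Scheme.Hom.ker_apply, hgU, inf_eq_right.mpr hNK]
    exact fun z hz => Ideal.subset_span (Finset.mem_union_left _ hz)

/-- A section of an ideal sheaf lies in a finite type ideal sheaf contained in it. -/
lemma exists_le_fg [QuasiSeparatedSpace X] (J : X.IdealSheafData) (W : X.affineOpens) (z : Γ(X, W.1))
    (hz : z ∈ J.ideal W) (s : Finset X.affineOpens) :
    ∃ K : X.IdealSheafData, K ≤ J ∧ z ∈ K.ideal W ∧ ∀ V ∈ s, (K.ideal V).FG := by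
  classical
  suffices ∃ K : X.IdealSheafData, K ≤ J ∧ z ∈ K.ideal W ∧ ∀ V ∈ insert W s, (K.ideal V).FG by
    obtain ⟨K, h1, h2, h3⟩ := this
    exact ⟨K, h1, h2, fun V hV => h3 V (Finset.mem_insert_of_mem hV)⟩
  induction s using Finset.induction with
  | empty =>
    obtain ⟨K, h1, -, h3, h4⟩ := exists_le_fg_step J ∅ (by simp) W {z} (by simpa using hz)
    exact ⟨K, h1, h4 (by simp), by simpa using h3⟩
  | insert U s _ ih =>
    obtain ⟨K, h1, h2, h3⟩ := ih
    obtain ⟨K', h1', h2', h3', -⟩ := exists_le_fg_step K (insert W s) h3 U ∅ (by simp)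
    refine ⟨K', h1'.trans h1, (h2' W (Finset.mem_insert_self ..)).ge h2, fun V hV => ?_⟩
    rw [Finset.insert_comm] at hV
    rcases Finset.mem_insert.mp hV with rfl | hV
    · exact h3'
    · rw [h2' V hV]; exact h3 V hV

/-- A section of the kernel of a surjective closed immersion of a qcqs scheme lies in a nilpotent
ideal sheaf contained in the kernel. -/
lemma exists_nilpotent_le_ker [CompactSpace X'] [QuasiSeparatedSpace X'] (i : X ⟶ X')
    [IsClosedImmersion i] [Surjective i] (W : X'.affineOpens) (z : Γ(X', W.1)) (hz : z ∈ i.ker.ideal W) :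
    ∃ K : X'.IdealSheafData, K ≤ i.ker ∧ (∃ n, K ^ (2 ^ n) = ⊥) ∧ z ∈ K.ideal W := by
  classical
  obtain ⟨t, ht⟩ := isCompact_univ.elim_finite_subcover (fun V : X'.affineOpens => (V.1 : Set X'))
    (fun V => V.1.2) (fun x _ => by
      obtain ⟨_, ⟨V, hV, rfl⟩, hx, -⟩ :=
        X'.isBasis_affineOpens.exists_subset_of_mem_open (Set.mem_univ x) isOpen_univ
      exact Set.mem_iUnion.mpr ⟨⟨V, hV⟩, hx⟩)
  obtain ⟨K, hK, hzK, hfg⟩ := exists_le_fg i.ker W z hz t
  have hnil : ∀ V ∈ t, IsNilpotent (K.ideal V) := fun V hV => by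
    rw [(hfg V hV).isNilpotent_iff_le_nilradical]
    intro y hy
    have hy0 : y ∈ i.ker.ideal V := Scheme.IdealSheafData.ideal_mono hK V hy
    rw [Scheme.Hom.ker_apply, RingHom.mem_ker] at hy0
    rw [mem_nilradical, Scheme.isNilpotent_iff_basicOpen_eq_bot_of_isCompact V.2.isCompact]
    refine SquareZero.eq_of_preimage_eq (i := i) ?_
    rw [i.preimage_basicOpen, hy0, Scheme.basicOpen_zero]; rfl
  choose n hn using hnil
  let M := t.attach.sup fun V => n V.1 V.2
  refine ⟨K, hK, ⟨M, ?_⟩, hzK⟩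
  refine Scheme.IdealSheafData.ext_of_iSup_eq_top (fun V : t => V.1) ?_ fun V => ?_
  · refine top_le_iff.mp fun x _ => ?_
    obtain ⟨V, hV, hx⟩ := Set.mem_iUnion₂.mp (ht (Set.mem_univ x))
    exact Opens.mem_iSup.mpr ⟨⟨V, hV⟩, hx⟩
  · rw [Scheme.IdealSheafData.ideal_pow, Pi.pow_apply, Scheme.IdealSheafData.ideal_bot, Pi.bot_apply]
    exact pow_eq_zero_of_le ((Finset.le_sup (f := fun V : t => n V.1 V.2)
      (Finset.mem_attach t V)).trans Nat.lt_two_pow_self.le) (hn V.1 V.2)

/-- If `i : X ⟶ X'` is a surjective closed immersion and `X` is affine, then so is `X'`. -/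
theorem isAffine_of_surjective_closedImmersion (i : X ⟶ X') [IsClosedImmersion i] [Surjective i]
    [IsAffine X] : IsAffine X' := by
  have : CompactSpace X' := ⟨by
    rw [← Set.image_univ_of_surjective i.surjective]; exact isCompact_univ.image i.continuous⟩
  have : QuasiSeparatedSpace X' := by
    rw [quasiSeparatedSpace_iff_quasiSeparated]
    have : QuasiSeparated (i ≫ terminal.from X') := by
      rw [terminal.comp_from, ← quasiSeparatedSpace_iff_quasiSeparated]; infer_instance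
    exact quasiSeparated_of_comp_surjective i _
  let Λ := {K : X'.IdealSheafData // K ≤ i.ker ∧ ∃ n, K ^ (2 ^ n) = ⊥}
  have : Nonempty Λ := ⟨⟨⊥, bot_le, 0, pow_one _⟩⟩
  have : IsDirected Λ (· ≤ ·) := ⟨fun K L => by
    obtain ⟨m, hm⟩ := K.2.2
    obtain ⟨n, hn⟩ := L.2.2
    refine ⟨⟨K.1 ⊔ L.1, sup_le K.2.1 L.2.1, 2 ^ m + 2 ^ n, ?_⟩, (le_sup_left : K.1 ≤ _), (le_sup_right : L.1 ≤ _)⟩
    ext U : 2
    rw [Scheme.IdealSheafData.ideal_pow, Pi.pow_apply, Scheme.IdealSheafData.ideal_sup, Pi.sup_apply,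
      Scheme.IdealSheafData.ideal_bot, Pi.bot_apply, eq_bot_iff]
    have hm' : K.1.ideal U ^ 2 ^ m = ⊥ := congr(($hm).ideal U)
    have hn' : L.1.ideal U ^ 2 ^ n = ⊥ := congr(($hn).ideal U)
    refine (Ideal.pow_le_pow_right Nat.lt_two_pow_self.le).trans ?_
    refine Ideal.sup_pow_add_le_pow_sup_pow.trans ?_
    rw [hm', hn', sup_idem]⟩
  let D : Λᵒᵖ ⥤ Scheme.{u} :=
    { obj := fun K => K.unop.1.subscheme
      map := fun f => Scheme.IdealSheafData.inclusion f.unop.le
      map_id := fun K => Scheme.IdealSheafData.inclusion_id _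
      map_comp := fun f g => (Scheme.IdealSheafData.inclusion_comp _ _).symm }
  let c : Cone D :=
    { pt := X
      π :=
        { app := fun K => IsClosedImmersion.lift K.unop.1.subschemeι i
            (by rw [Scheme.IdealSheafData.ker_subschemeι]; exact K.unop.2.1)
          naturality := fun K L f => by
            rw [← cancel_mono L.unop.1.subschemeι]
            simp [D] } }
  have hb : ∀ (s : Cone D) (K : Λᵒᵖ), s.π.app K ≫ K.unop.1.subschemeι =
      s.π.app (op ⟨⊥, bot_le, 0, pow_one _⟩) ≫ (⊥ : X'.IdealSheafData).subschemeι := fun s K => by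
    rw [← s.w (homOfLE (bot_le : (⊥ : X'.IdealSheafData) ≤ K.unop.1) :
      (⟨⊥, bot_le, 0, pow_one _⟩ : Λ) ⟶ K.unop).op]
    simp [D]
  let b : ∀ s : Cone D, s.pt ⟶ X' := fun s =>
    s.π.app (op ⟨⊥, bot_le, 0, pow_one _⟩) ≫ (⊥ : X'.IdealSheafData).subschemeι
  have hker : ∀ s : Cone D, i.ker ≤ (b s).ker := fun s W z hz => by
    obtain ⟨K, hK, hn, hzK⟩ := exists_nilpotent_le_ker i W z hz
    have h1 : K ≤ (b s).ker := by
      rw [show b s = s.π.app (op ⟨K, hK, hn⟩) ≫ K.subschemeι from (hb s (op ⟨K, hK, hn⟩)).symm]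
      exact K.ker_subschemeι.ge.trans (Scheme.Hom.le_ker_comp _ _)
    exact h1 W hzK
  let hc : IsLimit c :=
    { lift := fun s => IsClosedImmersion.lift i (b s) (hker s)
      fac := fun s K => by
        rw [← cancel_mono K.unop.1.subschemeι]
        simp [c, hb s K, b]
      uniq := fun s m hm => by
        rw [← cancel_mono i, IsClosedImmersion.lift_fac]
        simp only [b, ← hm, c, Category.assoc, IsClosedImmersion.lift_fac] }
  have : ∀ {K L : Λᵒᵖ} (f : K ⟶ L), IsAffineHom (D.map f) := fun {K L} f => by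
    have : IsClosedImmersion (D.map f ≫ L.unop.1.subschemeι) := by simp [D]; infer_instance
    have : IsClosedImmersion (D.map f) := IsClosedImmersion.of_comp _ L.unop.1.subschemeι
    infer_instance
  have : ∀ K : Λᵒᵖ, CompactSpace (D.obj K) := fun K =>
    QuasiCompact.compactSpace_of_compactSpace K.unop.1.subschemeι
  have : ∀ K : Λᵒᵖ, QuasiSeparatedSpace (D.obj K) := fun K =>
    quasiSeparatedSpace_of_quasiSeparated K.unop.1.subschemeι
  have : IsAffine c.pt := ‹_›
  obtain ⟨K, hK⟩ := Scheme.exists_isAffine_of_isLimit D c hc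
  obtain ⟨n, hn⟩ := K.unop.2.2
  have : Surjective K.unop.1.subschemeι := by
    have : Surjective (c.π.app K ≫ K.unop.1.subschemeι) := by simp [c]; infer_instance
    exact Surjective.of_comp (c.π.app K) _
  have : IsAffine K.unop.1.subscheme := hK
  exact isAffine_of_ker_pow_eq_bot n K.unop.1.subschemeι (by rwa [Scheme.IdealSheafData.ker_subschemeι])

/-- A morphism of thickenings is affine if and only if it is affine on the thin schemes. -/
lemma isAffineHom_iff_of_thickening {S S' : Scheme.{u}} {iX : X ⟶ X'} {iS : S ⟶ S'} {f : X ⟶ S} {f' : X' ⟶ S'}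
    (hX : MoreMor.IsThickening iX) (hS : MoreMor.IsThickening iS)
    (w : iX ≫ f' = f ≫ iS) : IsAffineHom f ↔ IsAffineHom f' := by
  obtain ⟨_, _⟩ := hX; obtain ⟨_, _⟩ := hS
  constructor <;> intro h
  · refine ⟨fun V hV => ?_⟩
    have : IsAffine (f ⁻¹ᵁ (iS ⁻¹ᵁ V) : Scheme.{u}) := (hV.preimage iS).preimage f
    have e : iX ⁻¹ᵁ (f' ⁻¹ᵁ V) = f ⁻¹ᵁ (iS ⁻¹ᵁ V) := by
      rw [← Scheme.Hom.comp_preimage, ← Scheme.Hom.comp_preimage, w]
    have : IsAffine (iX ⁻¹ᵁ (f' ⁻¹ᵁ V) : Scheme.{u}) := by rw [e]; infer_instance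
    have : Surjective (iX ∣_ (f' ⁻¹ᵁ V)) := IsZariskiLocalAtTarget.restrict ‹_› _
    exact isAffine_of_surjective_closedImmersion (iX ∣_ (f' ⁻¹ᵁ V))
  · have : IsAffineHom (f ≫ iS) := by rw [← w]; infer_instance
    exact IsAffineHom.of_comp f iS

end Groth.FlatMor2
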