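import Mathlib.AlgebraicGeometry.Noetherian
import Mathlib.AlgebraicGeometry.Fiber
import Mathlib.AlgebraicGeometry.Morphisms.Flat
import Mathlib.AlgebraicGeometry.Morphisms.UniversallyOpen
import Mathlib.AlgebraicGeometry.Morphisms.FiniteType
import Mathlib.RingTheory.Flat.FaithfullyFlat.Algebra
import Groth.Agent.Hensel1.Transfer

/-!
# Locally Noetherian schemes: descent, and field extensions essentially of finite type
-/

universe u

open AlgebraicGeometry CategoryTheory Limits TopologicalSpace TensorProduct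

namespace Groth.FlatMor2

lemma isLocallyNoetherian_of_flat_surjective {W Z : Scheme.{u}} (a : W ⟶ Z) [Flat a] [Surjective a]
    [UniversallyOpen a] [IsLocallyNoetherian W] : IsLocallyNoetherian Z := by
  classical
  refine ⟨fun U => ?_⟩
  have hU : IsAffineOpen U.1 := U.2
  have key : ∀ z : U.1, ∃ (V : W.affineOpens), V.1 ≤ a ⁻¹ᵁ U.1 ∧ z.1 ∈ a '' (V.1 : Set W) := by
    rintro ⟨z, hz⟩
    obtain ⟨w, rfl⟩ := a.surjective z
    obtain ⟨_, ⟨V, hV, rfl⟩, hwV, hVU⟩ :=
      W.isBasis_affineOpens.exists_subset_of_mem_open (a := w) hz (a.continuous.isOpen_preimage _ U.1.2)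
    exact ⟨⟨V, hV⟩, hVU, w, hwV, rfl⟩
  choose V hVU hzV using key
  obtain ⟨t, ht⟩ := U.2.isCompact.elim_finite_subcover (fun z : U.1 => a '' ((V z).1 : Set W))
    (fun z => a.isOpenMap _ (V z).1.2) fun z hz => Set.mem_iUnion.mpr ⟨⟨z, hz⟩, hzV _⟩
  let B : t → Type u := fun i => Γ(W, (V i.1).1)
  let : ∀ i : t, Algebra Γ(Z, U.1) (B i) := fun i => (a.appLE U.1 (V i.1).1 (hVU i.1)).hom.toAlgebra
  have : ∀ i : t, IsNoetherianRing (B i) := fun i => IsLocallyNoetherian.component_noetherian (V i.1)
  have : ∀ i : t, Module.Flat Γ(Z, U.1) (B i) := fun i =>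
    HasRingHomProperty.appLE (P := @Flat) a inferInstance U (V i.1) (hVU i.1)
  have : Module.Flat Γ(Z, U.1) (∀ i : t, B i) :=
    Module.Flat.of_linearEquiv DFinsupp.linearEquivFunOnFintype.symm
  have : Module.FaithfullyFlat Γ(Z, U.1) (∀ i : t, B i) := by
    refine Module.FaithfullyFlat.of_comap_surjective fun p => ?_
    obtain ⟨i, w, hwV, hw⟩ : ∃ i : t, ∃ w ∈ (V i.1).1, a w = U.2.fromSpec p := by
      obtain ⟨i, hi, hw⟩ := Set.mem_iUnion₂.mp (ht (U.2.range_fromSpec ▸ ⟨p, rfl⟩ : U.2.fromSpec p ∈ (U.1 : Set Z)))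
      exact ⟨⟨i, hi⟩, hw⟩
    refine ⟨PrimeSpectrum.comap (Pi.evalRingHom B i) ((V i.1).2.primeIdealOf ⟨w, hwV⟩), ?_⟩
    refine hU.fromSpec.isOpenEmbedding.injective ?_
    have h := IsAffineOpen.comap_primeIdealOf_appLE U.1 U.2 (V i.1).1 (V i.1).2 (hVU i.1) hwV
    have h2 : U.2.fromSpec (PrimeSpectrum.comap (a.appLE U.1 (V i.1).1 (hVU i.1)).hom ((V i.1).2.primeIdealOf ⟨w, hwV⟩)) = a w := by
      rw [h]; exact U.2.fromSpec_primeIdealOf _
    exact h2.trans hw
  exact Groth.Hensel1.isNoetherianRing_of_faithfullyFlat' Γ(Z, U.1) (∀ i : t, B i)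

lemma essFiniteType_residueFieldMap {Y' Y : Scheme.{u}} (g : Y' ⟶ Y) [LocallyOfFiniteType g] (y : Y') :
    (g.residueFieldMap y).hom.EssFiniteType := by
  have h1 : (g.stalkMap y ≫ Y'.residue y).hom.EssFiniteType := by
    rw [CommRingCat.hom_comp]
    exact RingHom.EssFiniteType.stableUnderComposition _ _ (LocallyOfFiniteType.stalkMap g y)
      (RingHom.FiniteType.essFiniteType (RingHom.FiniteType.of_surjective _ (Y'.residue_surjective y)))
  rw [← Scheme.residue_residueFieldMap, CommRingCat.hom_comp] at h1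
  algebraize [(Y.residue (g y)).hom, (g.residueFieldMap y).hom,
    (g.residueFieldMap y).hom.comp (Y.residue (g y)).hom]
  exact Algebra.EssFiniteType.of_comp (Y.presheaf.stalk (g y)) (Y.residueField (g y)) (Y'.residueField y)

lemma isLocallyNoetherian_of_isPullback_SpecMap {K L B : CommRingCat.{u}} {φ : K ⟶ L} (hφ : φ.hom.EssFiniteType)
    {ψ : K ⟶ B} [IsLocallyNoetherian (Spec B)] {P : Scheme.{u}} {a : P ⟶ Spec B} {b : P ⟶ Spec L}
    (h : IsPullback a b (Spec.map ψ) (Spec.map φ)) : IsLocallyNoetherian P := by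
  algebraize [φ.hom, ψ.hom]
  have : Algebra.EssFiniteType K L := hφ
  have : IsNoetherianRing B := isLocallyNoetherian_Spec.mp ‹_›
  have : IsNoetherianRing (B ⊗[K] L) := Algebra.EssFiniteType.isNoetherianRing B _
  have : IsNoetherianRing (CommRingCat.of (B ⊗[K] L)) := this
  have hb := isPullback_SpecMap_of_isPushout _ _ _ _ (CommRingCat.isPushout_tensorProduct K B L)
  exact isLocallyNoetherian_of_isOpenImmersion (h.isoIsPullback _ _ hb).hom

lemma isLocallyNoetherian_of_isPullback_essFiniteType {K L : CommRingCat.{u}} {φ : K ⟶ L} (hφ : φ.hom.EssFiniteType)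
    {Z P : Scheme.{u}} [IsLocallyNoetherian Z] {a : P ⟶ Z} {b : P ⟶ Spec L} {z : Z ⟶ Spec K}
    (h : IsPullback a b z (Spec.map φ)) : IsLocallyNoetherian P := by
  rw [isLocallyNoetherian_iff_openCover (Z.affineCover.pullback₁ a)]
  intro (i : Z.affineCover.I₀)
  obtain ⟨ψ, hψ⟩ := Spec.map_surjective (Z.affineCover.f i ≫ z)
  have hs := (IsPullback.of_hasPullback a (Z.affineCover.f i)).flip.paste_vert h
  have h0 : IsLocallyNoetherian (Z.affineCover.X i) := isLocallyNoetherian_of_isOpenImmersion (Z.affineCover.f i)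
  exact @isLocallyNoetherian_of_isPullback_SpecMap _ _ _ φ hφ ψ h0 _ _ _ (by convert! hs)

lemma fibres_baseChange_iff {X Y X' Y' : Scheme.{u}} (f : X ⟶ Y) (f' : X' ⟶ Y') (g' : X' ⟶ X) (g : Y' ⟶ Y)
    [LocallyOfFiniteType g] [Surjective g] (hc : IsPullback g' f' f g) :
    (∀ y : Y, IsLocallyNoetherian (f.fiber y)) ↔ ∀ y' : Y', IsLocallyNoetherian (f'.fiber y') := by
  refine ⟨fun H y' => ?_, fun H y => ?_⟩
  · have : IsLocallyNoetherian (pullback f (Y.fromSpecResidueField (g y'))) := H (g y')
    exact isLocallyNoetherian_of_isPullback_essFiniteType (essFiniteType_residueFieldMap g y')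
      (isPullback_fiberToSpecResidueField_of_isPullback hc y')
  · obtain ⟨y', rfl⟩ := g.surjective y
    have := H y'
    have hb := isPullback_fiberToSpecResidueField_of_isPullback hc y'
    have hflat : Flat (Spec.map (g.residueFieldMap y')) := by
      rw [HasRingHomProperty.Spec_iff (P := @Flat)]
      algebraize [(g.residueFieldMap y').hom]
      exact (inferInstance : Module.Flat (Y.residueField (g y')) (Y'.residueField y'))
    have hsurj : Surjective (Spec.map (g.residueFieldMap y')) :=
      ⟨fun p => ⟨default, Subsingleton.elim _ _⟩⟩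
    let M : f'.fiber y' ⟶ f.fiber (g y') := pullback.map f' (Y'.fromSpecResidueField y') f
      (Y.fromSpecResidueField (g y')) g' (Spec.map (g.residueFieldMap y')) g hc.w.symm (by simp)
    have : Flat M := MorphismProperty.of_isPullback (P := @Flat) hb.flip hflat
    have : Surjective M := MorphismProperty.of_isPullback (P := @Surjective) hb.flip hsurj
    have : UniversallyOpen M := MorphismProperty.of_isPullback (P := @UniversallyOpen) hb.flip inferInstance
    exact isLocallyNoetherian_of_flat_surjective M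

lemma fibres_source_iff {X X' Y : Scheme.{u}} (f : X ⟶ Y) (a : X' ⟶ X) [Flat a]
    [LocallyOfFinitePresentation a] [Surjective a] :
    (∀ y : Y, IsLocallyNoetherian (f.fiber y)) ↔ ∀ y : Y, IsLocallyNoetherian ((a ≫ f).fiber y) := by
  refine forall_congr' fun y => ?_
  let b : (a ≫ f).fiber y ⟶ f.fiber y :=
    pullback.lift ((a ≫ f).fiberι y ≫ a) ((a ≫ f).fiberToSpecResidueField y)
      (by rw [Category.assoc]; exact pullback.condition)
  have e : b ≫ f.fiberToSpecResidueField y = (a ≫ f).fiberToSpecResidueField y := pullback.lift_snd _ _ _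
  have hb : IsPullback ((a ≫ f).fiberι y) b a (f.fiberι y) := by
    refine IsPullback.of_bot (v₂₁ := f.fiberToSpecResidueField y) ?_ (pullback.lift_fst _ _ _).symm
      (IsPullback.of_hasPullback f (Y.fromSpecResidueField y))
    rw [e]
    exact IsPullback.of_hasPullback _ _
  have : Flat b := MorphismProperty.of_isPullback hb inferInstance
  have : Surjective b := MorphismProperty.of_isPullback hb inferInstance
  have : LocallyOfFinitePresentation b := MorphismProperty.of_isPullback hb inferInstance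
  exact ⟨fun _ => LocallyOfFiniteType.isLocallyNoetherian b, fun _ => isLocallyNoetherian_of_flat_surjective b⟩

end Groth.FlatMor2
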