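import Groth.Agent.FlatMor2.CechOne
import Mathlib.AlgebraicGeometry.Morphisms.Integral
import Mathlib.AlgebraicGeometry.Morphisms.Affine
import Mathlib.RingTheory.Localization.Integral

/-!
# Chevalley's theorem for quasi-affine schemes

A quasi-compact open of an affine scheme which receives an integral surjective morphism from an
affine scheme is affine.
-/

set_option autoImplicit false

universe u

open CategoryTheory CategoryTheory.Limits AlgebraicGeometry TopologicalSpace Opposite

namespace Groth.FlatMor2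

/-- Elements integral over a localization become integral after multiplying by a power. -/
lemma exists_pow_mul_isIntegral {R C R' C' : Type u} [CommRing R] [CommRing C] [Algebra R C]
    [CommRing R'] [CommRing C'] [Algebra R R'] [Algebra C C'] (a : R) [IsLocalization.Away a R']
    [IsLocalization.Away (algebraMap R C a) C'] (ψ : R' →+* C')
    (hψ : ψ.comp (algebraMap R R') = (algebraMap C C').comp (algebraMap R C)) (hint : ψ.IsIntegral)
    (c : C) : ∃ N, IsIntegral R (algebraMap R C a ^ N * c) := by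
  let := ψ.toAlgebra
  let : Algebra R C' := ((algebraMap C C').comp (algebraMap R C)).toAlgebra
  have : IsScalarTower R R' C' := IsScalarTower.of_algebraMap_eq' hψ.symm
  have : IsScalarTower R C C' := IsScalarTower.of_algebraMap_eq' rfl
  have : IsLocalization (Algebra.algebraMapSubmonoid C (Submonoid.powers a)) C' := by
    rw [show Algebra.algebraMapSubmonoid C (Submonoid.powers a) =
      Submonoid.powers (algebraMap R C a) from Submonoid.map_powers _ a]
    infer_instance
  obtain ⟨⟨_, k, rfl⟩, hk⟩ := IsIntegral.exists_multiple_integral_of_isLocalization (R := R) (Rₘ := R')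
    (Submonoid.powers a) (algebraMap C C' c) (hint (algebraMap C C' c))
  have hk' : IsIntegral R (algebraMap C C' (algebraMap R C a ^ k * c)) := by
    rw [map_mul, map_pow, ← IsScalarTower.algebraMap_apply]
    simpa [Submonoid.smul_def, Algebra.smul_def] using hk
  obtain ⟨_, ⟨m, rfl⟩, hm⟩ := IsLocalization.exists_isIntegral_smul_of_isIntegral_map
    (Submonoid.powers a) hk'
  refine ⟨m + k, ?_⟩
  rw [pow_add, mul_assoc]
  simpa [Algebra.smul_def] using hm

/-- The open covered by `basicOpen (a i)` is affine given affine data. -/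
lemma isAffineOpen_of_affData {Y : Scheme.{u}} [IsAffine Y] {n : ℕ} (a : Fin n → Γ(Y, ⊤))
    (h : AffData a) (U : Y.Opens) (hU : U = ⨆ i, Y.basicOpen (a i)) : IsAffineOpen U := by
  classical
  obtain ⟨N, x, hx, hsum⟩ := h
  let res (W : Y.Opens) : Γ(Y, ⊤) →+* Γ(Y, W) := (Y.presheaf.map (homOfLE le_top).op).hom
  have hres : ∀ {W W' : Y.Opens} (e : W' ≤ W) (z : Γ(Y, ⊤)),
      Y.presheaf.map (homOfLE e).op (res W z) = res W' z := fun e z => by
    change (Y.presheaf.map _ ≫ Y.presheaf.map _) z = _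
    rw [← Functor.map_comp]
    rfl
  have hunit : ∀ i {W : Y.Opens} (_ : W ≤ Y.basicOpen (a i)), IsUnit (res W (a i)) := fun i W e => by
    rw [← hres e (a i)]
    exact (IsLocalization.Away.algebraMap_isUnit (S := Γ(Y, Y.basicOpen (a i))) (a i)).map _
  have hle : ∀ i, Y.basicOpen (a i) ≤ U := fun i => hU ▸ le_iSup (fun i => Y.basicOpen (a i)) i
  choose u hu using fun i => ((hunit i le_rfl).pow N)
  have hr : ∀ l, ∃ r : Γ(Y, U), ∀ i, Y.presheaf.map (homOfLE (hle i)).op r =
      res (Y.basicOpen (a i)) (x l i) * (↑((u i)⁻¹) : Γ(Y, Y.basicOpen (a i))) := by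
    intro l
    refine (Y.sheaf.existsUnique_gluing' (fun i => Y.basicOpen (a i)) U (fun i => homOfLE (hle i))
      hU.le _ fun i j => ?_).exists
    set W := Y.basicOpen (a i) ⊓ Y.basicOpen (a j)
    show Y.presheaf.map (homOfLE inf_le_left).op _ = Y.presheaf.map (homOfLE inf_le_right).op _
    rw [← ((hunit i (W := W) inf_le_left).pow N).mul_right_inj, ← ((hunit j (W := W) inf_le_right).pow N).mul_right_inj]
    simp only [map_mul, hres]
    have e1 : res W (a i) ^ N * Y.presheaf.map (homOfLE (inf_le_left : W ≤ Y.basicOpen (a i))).op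
        ((u i)⁻¹ : Γ(Y, Y.basicOpen (a i))ˣ).1 = 1 := by
      rw [← hres inf_le_left (a i), ← map_pow, ← hu, ← map_mul, Units.mul_inv, map_one]
    have e2 : res W (a j) ^ N * Y.presheaf.map (homOfLE (inf_le_right : W ≤ Y.basicOpen (a j))).op
        ((u j)⁻¹ : Γ(Y, Y.basicOpen (a j))ˣ).1 = 1 := by
      rw [← hres inf_le_right (a j), ← map_pow, ← hu, ← map_mul, Units.mul_inv, map_one]
    have e3 := congrArg (res W) (hx l i j)
    simp only [map_mul, map_pow] at e3
    linear_combination e3 + res W (a j) ^ N * res W (x l i) * e1 -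
      res W (a i) ^ N * res W (x l j) * e2
  choose r hr using hr
  have h1 : ∑ l, res U (a l) * r l = 1 := by
    refine Y.sheaf.eq_of_locally_eq' (fun i => Y.basicOpen (a i)) U (fun i => homOfLE (hle i)) hU.le _ _
      fun i => ?_
    show Y.presheaf.map (homOfLE (hle i)).op _ = Y.presheaf.map (homOfLE (hle i)).op _
    simp only [map_sum, map_one, map_mul, hres, hr, ← mul_assoc, ← Finset.sum_mul]
    rw [Finset.sum_congr rfl (g := fun l => res _ (a l ^ 1 * x l i))
      (fun l _ => by rw [pow_one, map_mul]), ← map_sum, hsum i, map_pow, ← hu, Units.mul_inv]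
  have : IsAffine U.toScheme := by
    refine isAffine_of_isAffineOpen_basicOpen (Set.range fun l => U.ι.appTop (a l)) ?_ ?_
    · rw [Ideal.eq_top_iff_one]
      have := congrArg U.topIso.inv h1
      rw [map_one, map_sum] at this
      rw [← this]
      refine Ideal.sum_mem _ fun l _ => ?_
      rw [map_mul]
      refine Ideal.mul_mem_right _ _ (Ideal.subset_span ⟨l, ?_⟩)
      show U.ι.appTop (a l) = U.topIso.inv (res U (a l))
      simp only [res, Scheme.Opens.topIso_inv, Scheme.Opens.ι_appTop]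
      refine Eq.trans ?_ (congrArg (fun m => m.hom (a l)) (Y.presheaf.map_comp _ _))
      rfl
    · rintro _ ⟨l, rfl⟩
      rw [← Scheme.preimage_basicOpen_top]
      exact ((isAffineOpen_top Y).basicOpen (a l)).preimage_of_isOpenImmersion U.ι
        ((Scheme.Opens.opensRange_ι U).symm ▸ hle l)
  exact this

/-- Chevalley's theorem for quasi-compact opens of affine schemes. -/
theorem isAffineOpen_of_integral_surjective {Y Z : Scheme.{u}} [IsAffine Y] [IsAffine Z] (g : Z ⟶ Y)
    (U : Y.Opens) (hUc : IsCompact (U : Set Y)) (hrange : Set.range g = (U : Set Y))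
    (hint : IsIntegralHom (g ∣_ U)) : IsAffineOpen U := by
  classical
  obtain ⟨s, hsfin, hs⟩ := isCompact_and_isOpen_iff_finite_and_eq_biUnion_basicOpen.mp ⟨hUc, U.2⟩
  obtain ⟨n, a, rfl⟩ := hsfin.fin_embedding
  have hU : U = ⨆ i, Y.basicOpen (a i) := by
    refine Opens.ext ?_
    rw [hs, Opens.coe_iSup]
    simp
  let := g.appTop.hom.toAlgebra
  let φ := algebraMap Γ(Y, ⊤) Γ(Z, ⊤)
  have hpre : ∀ r, g ⁻¹ᵁ Y.basicOpen r = Z.basicOpen (φ r) := fun r => Scheme.preimage_basicOpen_top g r
  have hspan : Ideal.span (Set.range fun l => φ (a l)) = ⊤ := by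
    rw [← (isAffineOpen_top Z).self_le_iSup_basicOpen_iff]
    intro z _
    have hz : g z ∈ U := (hrange.le ⟨z, rfl⟩ :)
    rw [hU, Opens.mem_iSup] at hz
    obtain ⟨l, hl⟩ := hz
    exact Opens.mem_iSup.mpr ⟨⟨_, l, rfl⟩, (hpre (a l)).le hl⟩
  obtain ⟨c, hc⟩ := Submodule.mem_span_range_iff_exists_fun Γ(Z, ⊤) |>.mp ((Ideal.eq_top_iff_one _).mp hspan)
  have hint' : ∀ i (z : Γ(Z, ⊤)), ∃ N, IsIntegral Γ(Y, ⊤) (φ (a i) ^ N * z) := by
    intro i z
    set D := Y.basicOpen (a i)
    have hDU : D ≤ U := hU ▸ le_iSup (fun i => Y.basicOpen (a i)) i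
    have hD : IsAffineOpen D := (isAffineOpen_top Y).basicOpen (a i)
    have hintD : (g.app D).hom.IsIntegral := by
      have : IsIntegralHom (g ∣_ D) := by
        rw [← (MorphismProperty.arrow_mk_iso_iff @IsIntegralHom
          (morphismRestrictRestrict g U (U.ι ⁻¹ᵁ D))).trans
          (MorphismProperty.arrow_mk_iso_iff @IsIntegralHom (morphismRestrictEq g (by
            rw [Scheme.Hom.image_preimage_eq_opensRange_inf, Scheme.Opens.opensRange_ι]
            exact inf_eq_right.mpr hDU)))]
        exact IsZariskiLocalAtTarget.restrict hint _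
      have : IsAffine D.toScheme := hD
      have h := (g ∣_ D).isIntegral_app ⊤ (isAffineOpen_top _)
      rw [morphismRestrict_app] at h
      have key : ∀ W, W = D → (g.app W).hom.IsIntegral → (g.app D).hom.IsIntegral := by
        rintro W rfl h; exact h
      have hi : ∀ {P Q : Z.Opens} (e : P = Q), Function.Injective (Z.presheaf.map (eqToHom e).op).hom := by
        rintro P Q rfl; simp [Function.Injective]
      obtain ⟨T, m, hinj, h⟩ : ∃ (T : CommRingCat.{u}) (m : Γ(Z, g ⁻¹ᵁ D.ι ''ᵁ ⊤) ⟶ T),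
          Function.Injective m.hom ∧ (g.app (D.ι ''ᵁ ⊤) ≫ m).hom.IsIntegral :=
        ⟨_, _, hi _, h⟩
      refine key (D.ι ''ᵁ ⊤) D.ι_image_top fun z => ?_
      obtain ⟨q, hm, hq⟩ := h (m.hom z)
      refine ⟨q, hm, hinj ?_⟩
      rw [map_zero, Polynomial.hom_eval₂]
      exact hq
    let : Algebra Γ(Z, ⊤) Γ(Z, g ⁻¹ᵁ D) := (Z.presheaf.map (homOfLE le_top).op).hom.toAlgebra
    have : IsLocalization.Away (φ (a i)) Γ(Z, g ⁻¹ᵁ D) :=
      (isAffineOpen_top Z).isLocalization_of_eq_basicOpen _ (homOfLE le_top) (hpre (a i))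
    exact exists_pow_mul_isIntegral (R' := Γ(Y, D)) (C' := Γ(Z, g ⁻¹ᵁ D)) (a i) (g.app D).hom (by
      ext r
      exact ConcreteCategory.congr_hom (g.naturality (homOfLE (le_top : D ≤ ⊤)).op) r) hintD z
  choose Nf hNf using fun l i => hint' i (c l)
  let N := Finset.univ.sup fun p : Fin n × Fin n => Nf p.1 p.2
  let x : Fin n → Fin n → Γ(Z, ⊤) := fun l i => φ (a i) ^ N * c l
  refine isAffineOpen_of_affData a (affData_of_subalgebra (Finset.univ.image fun p : Fin n × Fin n => x p.1 p.2)
    ?_ N x (fun l i => Finset.mem_image.mpr ⟨(l, i), Finset.mem_univ _, rfl⟩)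
    (fun l i j => by simp only [x, φ]; ring) (fun i => ?_) ?_) U hU
  · intro g' hg'
    obtain ⟨⟨l, i⟩, -, rfl⟩ := Finset.mem_image.mp hg'
    have hle : Nf l i ≤ N := Finset.le_sup (f := fun p : Fin n × Fin n => Nf p.1 p.2) (Finset.mem_univ (l, i))
    have : x l i = φ (a i) ^ (N - Nf l i) * (φ (a i) ^ Nf l i * c l) := by
      simp only [x]
      rw [← mul_assoc, ← pow_add, Nat.sub_add_cancel hle]
    rw [this]
    exact (isIntegral_algebraMap.pow _).mul (hNf l i)
  · calc ∑ l, φ (a l) * x l i = φ (a i) ^ N * ∑ l, c l * φ (a l) := by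
          rw [Finset.mul_sum]; exact Finset.sum_congr rfl fun l _ => by simp only [x]; ring
      _ = φ (a i) ^ N := by rw [show ∑ l, c l * φ (a l) = 1 from hc, mul_one]
  · intro p hp ⟨i, hi⟩
    let y : Y := (isAffineOpen_top Y).fromSpec ⟨p, hp⟩
    have hy : y ∈ U := by
      rw [hU, Opens.mem_iSup]
      refine ⟨i, ?_⟩
      show (⟨p, hp⟩ : PrimeSpectrum _) ∈ (isAffineOpen_top Y).fromSpec ⁻¹ᵁ Y.basicOpen (a i)
      rw [(isAffineOpen_top Y).fromSpec_preimage_basicOpen]
      exact hi
    obtain ⟨z, hz⟩ := hrange.ge hy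
    refine ⟨((isAffineOpen_top Z).primeIdealOf ⟨z, trivial⟩).asIdeal, inferInstance, ⟨?_⟩⟩
    have h2 : Spec.map g.appTop ((isAffineOpen_top Z).primeIdealOf ⟨z, trivial⟩) = ⟨p, hp⟩ := by
      apply (isAffineOpen_top Y).fromSpec.isOpenEmbedding.injective
      change _ = y
      rw [← hz, ← Scheme.Hom.comp_apply,
        show Spec.map g.appTop ≫ (isAffineOpen_top Y).fromSpec = (isAffineOpen_top Z).fromSpec ≫ g by
          rw [← IsAffineOpen.SpecMap_appLE_fromSpec g (isAffineOpen_top Y) (isAffineOpen_top Z) le_top]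
          congr 2
          simp [Scheme.Hom.appLE],
        Scheme.Hom.comp_apply, IsAffineOpen.fromSpec_primeIdealOf]
    exact congrArg PrimeSpectrum.asIdeal h2.symm

end Groth.FlatMor2
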