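import Groth.Prelude.Def_MoreMor
import Groth.Agent.FlatMor2.Thickening
import Groth.Agent.FlatMor2.AffineThickening
import Mathlib.AlgebraicGeometry.Morphisms.FormallyUnramified
import Mathlib.AlgebraicGeometry.Morphisms.Flat
import Mathlib.RingTheory.Kaehler.TensorProduct
import Mathlib.AlgebraicGeometry.ZariskisMainTheorem

/-!
# Base change along (finite order) thickenings

Ring level description of a base change along a surjective closed immersion, and the descent
of `finite type`, `formally unramified`, `monomorphism`, `closed immersion`.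
-/

universe u

open AlgebraicGeometry CategoryTheory Limits TopologicalSpace TensorProduct

namespace Groth.FlatMor2

variable {A B C D : CommRingCat.{u}} {φ : A ⟶ B} {π : A ⟶ C} {ρ : B ⟶ D} {ψ : C ⟶ D}

lemma surjective_of_isPushout (H : IsPushout φ π ρ ψ) (hπ : Function.Surjective π) :
    Function.Surjective ρ := by
  intro d
  have hd : d ∈ Subring.closure (Set.range ρ ∪ Set.range ψ) := by
    rw [CommRingCat.closure_range_union_range_eq_top_of_isPushout H]; trivial
  refine (Subring.closure_le (t := ρ.hom.range)).mpr ?_ hd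
  rintro _ (⟨b, rfl⟩ | ⟨c, rfl⟩)
  · exact ⟨b, rfl⟩
  · obtain ⟨a, rfl⟩ := hπ c
    exact ⟨φ a, congr($(H.w) a)⟩

lemma ker_eq_map_of_isPushout (H : IsPushout φ π ρ ψ) (hπ : Function.Surjective π) :
    RingHom.ker ρ.hom = (RingHom.ker π.hom).map φ.hom := by
  apply le_antisymm
  · intro b hb
    let q : B ⟶ CommRingCat.of (B ⧸ (RingHom.ker π.hom).map φ.hom) :=
      CommRingCat.ofHom (Ideal.Quotient.mk _)
    let g0 : {g : A →+* (B ⧸ (RingHom.ker π.hom).map φ.hom) // RingHom.ker π.hom ≤ RingHom.ker g} :=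
      ⟨q.hom.comp φ.hom, fun a ha => by
        rw [RingHom.mem_ker, RingHom.comp_apply]
        exact Ideal.Quotient.eq_zero_iff_mem.mpr (Ideal.mem_map_of_mem _ ha)⟩
    let c : C ⟶ CommRingCat.of (B ⧸ (RingHom.ker π.hom).map φ.hom) :=
      CommRingCat.ofHom (RingHom.liftOfSurjective π.hom hπ g0)
    have h : φ ≫ q = π ≫ c := by
      ext a
      exact (RingHom.liftOfRightInverse_comp_apply π.hom (Function.surjInv hπ) (Function.rightInverse_surjInv hπ) g0 a).symm
    have h' := congr($(H.inl_desc q c h) b)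
    rw [CommRingCat.comp_apply, show ρ b = 0 from hb, map_zero] at h'
    exact Ideal.Quotient.eq_zero_iff_mem.mp h'.symm
  · rw [Ideal.map_le_iff_le_comap]
    intro a ha
    rw [Ideal.mem_comap, RingHom.mem_ker]
    exact (congr($(H.w) a)).trans (by rw [CommRingCat.comp_apply, show π a = 0 from ha, map_zero])

variable {X X' Y Y' : Scheme.{u}} {iX : X ⟶ X'} {iY : Y ⟶ Y'} {f : X ⟶ Y} {f' : X' ⟶ Y'}

lemma isClosedImmersion_of_isPullback (hc : IsPullback iX f f' iY) [IsClosedImmersion iY] :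
    IsClosedImmersion iX := MorphismProperty.of_isPullback hc.flip inferInstance

lemma isThickening_of_isPullback (hY : MoreMor.IsThickening iY) (hc : IsPullback iX f f' iY) :
    MoreMor.IsThickening iX :=
  ⟨MorphismProperty.of_isPullback hc.flip hY.1, MorphismProperty.of_isPullback hc.flip hY.2⟩

/-- The square of section rings of a base change of affine opens is a pushout. -/
lemma isPushout_app (hc : IsPullback iX f f' iY) {V : Y'.Opens} (hV : IsAffineOpen V)
    [IsAffineHom iY] {U : X'.Opens} (hU : IsAffineOpen U) (hUV : U ≤ f' ⁻¹ᵁ V) :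
    IsPushout (f'.appLE V U hUV) (iY.app V) (iX.app U)
      (f.appLE (iY ⁻¹ᵁ V) (iX ⁻¹ᵁ U)
        (by rw [← Scheme.Hom.comp_preimage, ← hc.w, Scheme.Hom.comp_preimage]; exact iX.preimage_mono hUV)) := by
  have hle : iX ⁻¹ᵁ U ≤ f ⁻¹ᵁ (iY ⁻¹ᵁ V) := by
    rw [← Scheme.Hom.comp_preimage, ← hc.w, Scheme.Hom.comp_preimage]; exact iX.preimage_mono hUV
  have h := (isIso_pushoutSection_iff hc (UY := iX ⁻¹ᵁ U) (UX := U) (US := V) (UT := iY ⁻¹ᵁ V) le_rfl hUV
    (inf_eq_left.mpr hle).symm).mp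
    (isIso_pushoutSection_of_isAffineOpen hc le_rfl hUV (inf_eq_left.mpr hle).symm hV (hV.preimage iY) hU)
  simpa [Scheme.Hom.app_eq_appLE] using h

lemma ker_ideal_eq_map (hc : IsPullback iX f f' iY) [IsClosedImmersion iY]
    {V : Y'.Opens} (hV : IsAffineOpen V)
    {U : X'.Opens} (hU : IsAffineOpen U) (hUV : U ≤ f' ⁻¹ᵁ V) :
    iX.ker.ideal ⟨U, hU⟩ = (iY.ker.ideal ⟨V, hV⟩).map (f'.appLE V U hUV).hom := by
  have := isClosedImmersion_of_isPullback hc
  rw [Scheme.Hom.ker_apply, Scheme.Hom.ker_apply]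
  exact ker_eq_map_of_isPushout (isPushout_app hc hV hU hUV) (iY.app_surjective V hV)

lemma iSup_affine_le (f' : X' ⟶ Y') :
    (⨆ p : {p : Y'.affineOpens × X'.affineOpens // p.2.1 ≤ f' ⁻¹ᵁ p.1.1}, p.1.2.1) = ⊤ := by
  refine top_le_iff.mp fun x _ => ?_
  obtain ⟨_, ⟨V, hV, rfl⟩, hxV, -⟩ :=
    Y'.isBasis_affineOpens.exists_subset_of_mem_open (Set.mem_univ (f' x)) isOpen_univ
  obtain ⟨_, ⟨U, hU, rfl⟩, hxU, hUV⟩ :=
    X'.isBasis_affineOpens.exists_subset_of_mem_open (a := x) hxV (f'.continuous.isOpen_preimage _ V.2)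
  exact Opens.mem_iSup.mpr ⟨⟨(⟨V, hV⟩, ⟨U, hU⟩), hUV⟩, hxU⟩

lemma isFiniteOrderThickening_of_isPullback (hY : MoreMor.IsFiniteOrderThickening iY)
    (hc : IsPullback iX f f' iY) : MoreMor.IsFiniteOrderThickening iX := by
  refine ⟨isThickening_of_isPullback hY.1 hc, ?_⟩
  obtain ⟨⟨_, -⟩, n, hn⟩ := hY
  refine ⟨n, Scheme.IdealSheafData.ext_of_iSup_eq_top _ (iSup_affine_le f') fun p => ?_⟩
  have h0 : iY.ker.ideal p.1.1 ^ n = ⊥ := congr(($hn).ideal p.1.1)
  rw [Scheme.IdealSheafData.ideal_pow, Pi.pow_apply,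
    ker_ideal_eq_map hc p.1.1.2 p.1.2.2 p.2, ← Ideal.map_pow, h0, Ideal.map_bot]
  rfl

lemma ker_le_nilradical (hY : MoreMor.IsThickening iY) (V : Y'.affineOpens) :
    iY.ker.ideal V ≤ nilradical Γ(Y', V.1) := by
  obtain ⟨_, _⟩ := hY
  intro y hy
  rw [Scheme.Hom.ker_apply, RingHom.mem_ker] at hy
  rw [mem_nilradical, Scheme.isNilpotent_iff_basicOpen_eq_bot_of_isCompact V.2.isCompact]
  refine SquareZero.eq_of_preimage_eq (i := iY) ?_
  rw [iY.preimage_basicOpen, hy, Scheme.basicOpen_zero]; rfl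

/-- Descend a ring hom property along a base change by a thickening, by a ring level statement. -/
lemma of_isPullback_thickening {P : MorphismProperty Scheme.{u}}
    {Q : ∀ {R S : Type u} [CommRing R] [CommRing S], (R →+* S) → Prop}
    [HasRingHomProperty P Q] (hY : MoreMor.IsThickening iY) (hc : IsPullback iX f f' iY) (hf : P f)
    (hring : ∀ (V : Y'.affineOpens) (U : X'.affineOpens) (h : U.1 ≤ f' ⁻¹ᵁ V.1)
      (ψ : Γ(Y, iY ⁻¹ᵁ V.1) ⟶ Γ(X, iX ⁻¹ᵁ U.1)),
      IsPushout (f'.appLE V.1 U.1 h) (iY.app V.1) (iX.app U.1) ψ → Q ψ.hom →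
        Q (f'.appLE V.1 U.1 h).hom) : P f' := by
  have := hY.1
  have hiX := isClosedImmersion_of_isPullback hc
  rw [HasRingHomProperty.iff_appLE (P := P)]
  intro V U hUV
  exact hring V U hUV _ (isPushout_app hc V.2 U.2 hUV)
    (HasRingHomProperty.appLE (P := P) f hf ⟨_, V.2.preimage iY⟩ ⟨_, U.2.preimage iX⟩ _)

/-- Finite type lifts along nilpotent surjections. -/
lemma finiteType_of_isPushout (H : IsPushout φ π ρ ψ) (hπ : Function.Surjective π)
    (hnil : IsNilpotent (RingHom.ker π.hom)) (hψ : ψ.hom.FiniteType) : φ.hom.FiniteType := by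
  classical
  algebraize [φ.hom]
  have hρ := surjective_of_isPushout H hπ
  have hker := ker_eq_map_of_isPushout H hπ
  obtain ⟨n, hn⟩ := hnil
  algebraize [ψ.hom]
  obtain ⟨s, hs⟩ := (hψ : Algebra.FiniteType C D).out
  choose l hl using hρ
  let S := Algebra.adjoin A ((s.image l : Finset B) : Set B)
  let I := RingHom.ker π.hom
  have h1 : ∀ b : B, ∃ c ∈ S, b - c ∈ I.map φ.hom := by
    intro b
    obtain ⟨c, hc, hc'⟩ : ∃ c ∈ S, ρ c = ρ b := by
      have hb : ρ b ∈ Algebra.adjoin C (s : Set D) := hs ▸ Algebra.mem_top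
      generalize ρ b = d at hb ⊢
      induction hb using Algebra.adjoin_induction with
      | mem x hx => exact ⟨l x, Algebra.subset_adjoin (by simp; exact ⟨x, hx, rfl⟩), hl x⟩
      | algebraMap r =>
        obtain ⟨a, rfl⟩ := hπ r
        exact ⟨φ a, S.algebraMap_mem a, congr($(H.w) a)⟩
      | add x y _ _ hx hy =>
        obtain ⟨c, hc, rfl⟩ := hx; obtain ⟨d, hd, rfl⟩ := hy
        exact ⟨c + d, S.add_mem hc hd, map_add _ _ _⟩
      | mul x y _ _ hx hy =>
        obtain ⟨c, hc, rfl⟩ := hx; obtain ⟨d, hd, rfl⟩ := hy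
        exact ⟨c * d, S.mul_mem hc hd, map_mul _ _ _⟩
    exact ⟨c, hc, hker ▸ by rw [RingHom.mem_ker]; exact (map_sub ρ.hom b c).trans (sub_eq_zero.mpr hc'.symm)⟩
  have h2 : ∀ k, ∀ b : B, ∃ c ∈ S, b - c ∈ (I.map φ.hom) ^ k := by
    intro k
    induction k with
    | zero => exact fun b => ⟨0, S.zero_mem, by simp⟩
    | succ k ih =>
      have h3 : ∀ x ∈ I.map φ.hom, ∃ c ∈ S, x - c ∈ (I.map φ.hom) ^ (k + 1) := by
        intro x hx
        induction hx using Submodule.span_induction with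
        | mem y hy =>
          obtain ⟨a, ha, rfl⟩ := hy
          exact ⟨φ a, S.algebraMap_mem a, by simp⟩
        | zero => exact ⟨0, S.zero_mem, by simp⟩
        | add x y _ _ hx hy =>
          obtain ⟨c, hc, hc'⟩ := hx; obtain ⟨d, hd, hd'⟩ := hy
          exact ⟨c + d, S.add_mem hc hd, by rw [add_sub_add_comm]; exact add_mem hc' hd'⟩
        | smul r x hx0 hx =>
          obtain ⟨c, hc, hc'⟩ := hx; obtain ⟨d, hd, hd'⟩ := ih r
          refine ⟨d * c, S.mul_mem hd hc, ?_⟩
          have hcI : c ∈ I.map φ.hom := by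
            have := sub_mem hx0 (Ideal.pow_le_self k.succ_ne_zero hc')
            rwa [sub_sub_cancel] at this
          have e : r • x - d * c = r * (x - c) + (r - d) * c := by rw [smul_eq_mul]; ring
          rw [e]
          refine add_mem (Ideal.mul_mem_left _ _ hc') ?_
          rw [pow_succ]
          exact Ideal.mul_mem_mul hd' hcI
      intro b
      obtain ⟨c, hc, hc'⟩ := h1 b
      obtain ⟨d, hd, hd'⟩ := h3 _ hc'
      exact ⟨c + d, S.add_mem hc hd, by rwa [← sub_sub]⟩
  refine ⟨⟨s.image l, eq_top_iff.mpr fun b _ => ?_⟩⟩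
  obtain ⟨c, hc, hc'⟩ := h2 n b
  rw [← Ideal.map_pow, hn, Ideal.zero_eq_bot, Ideal.map_bot, Ideal.mem_bot, sub_eq_zero] at hc'
  exact hc' ▸ hc

/-- If the reduction is formally unramified then `Ω = I Ω`. -/
lemma kaehler_eq_smul_of_isPushout (H : IsPushout φ π ρ ψ) (hπ : Function.Surjective π)
    (hψ : ψ.hom.FormallyUnramified) :
    letI := φ.hom.toAlgebra
    (⊤ : Submodule B (Ω[B⁄A])) = ((RingHom.ker π.hom).map φ.hom) • ⊤ := by
  algebraize [φ.hom, π.hom, ρ.hom, ψ.hom, ψ.hom.comp π.hom]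
  have : IsScalarTower A B D := .of_algebraMap_eq fun a => (congr($(H.w) a)).symm
  have : IsScalarTower A C D := .of_algebraMap_eq fun a => rfl
  have hp : Algebra.IsPushout A C B D :=
    Algebra.IsPushout.symm (CommRingCat.isPushout_iff_isPushout.mp H)
  have : Algebra.FormallyUnramified C D := hψ
  have h0 : Subsingleton (D ⊗[B] Ω[B⁄A]) :=
    (KaehlerDifferential.tensorKaehlerEquiv A C B D).subsingleton
  rw [← ker_eq_map_of_isPushout H hπ]
  symm
  rw [← Submodule.Quotient.subsingleton_iff]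
  let e : (B ⧸ RingHom.ker ρ.hom) ≃ₐ[B] D :=
    Ideal.quotientKerAlgEquivOfSurjective (f := Algebra.ofId B D) (surjective_of_isPushout H hπ)
  exact ((TensorProduct.congr e.toLinearEquiv (LinearEquiv.refl B (Ω[B⁄A]))).symm.trans
    (TensorProduct.quotTensorEquivQuotSMul (Ω[B⁄A]) (RingHom.ker ρ.hom))).symm.subsingleton

lemma formallyUnramified_of_isPushout (H : IsPushout φ π ρ ψ) (hπ : Function.Surjective π)
    (hnil : IsNilpotent (RingHom.ker π.hom)) (hψ : ψ.hom.FormallyUnramified) :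
    φ.hom.FormallyUnramified := by
  have h := kaehler_eq_smul_of_isPushout H hπ hψ
  algebraize [φ.hom]
  obtain ⟨n, hn⟩ := hnil
  let J := (RingHom.ker π.hom).map φ.hom
  have hk : ∀ k, (⊤ : Submodule B (Ω[B⁄A])) = J ^ k • ⊤ := by
    intro k
    induction k with
    | zero => simp
    | succ k ih =>
      nth_rw 1 [ih]
      nth_rw 1 [h]
      rw [← Submodule.mul_smul, ← pow_succ]
  refine ⟨(Submodule.subsingleton_iff B).mp (subsingleton_iff_bot_eq_top.mp ?_)⟩
  rw [hk n, ← Ideal.map_pow, hn, Ideal.zero_eq_bot, Ideal.map_bot, Submodule.bot_smul]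

lemma formallyUnramified_of_isPushout_of_finiteType (H : IsPushout φ π ρ ψ) (hπ : Function.Surjective π)
    (hnil : RingHom.ker π.hom ≤ nilradical A) (hφ : φ.hom.FiniteType) (hψ : ψ.hom.FormallyUnramified) :
    φ.hom.FormallyUnramified := by
  have h := kaehler_eq_smul_of_isPushout H hπ hψ
  algebraize [φ.hom]
  refine ⟨(Submodule.subsingleton_iff B).mp (subsingleton_iff_bot_eq_top.mp ?_)⟩
  refine (Submodule.eq_bot_of_le_smul_of_le_jacobson_bot _ ⊤ Module.Finite.fg_top h.le ?_).symm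
  rw [Ideal.map_le_iff_le_comap]
  refine hnil.trans fun a ha => ?_
  rw [Ideal.mem_comap]
  rw [Ideal.jacobson_bot]
  exact nilradical_le_jacobson B ((mem_nilradical.mp ha).map φ.hom)

section morphism

lemma locallyOfFiniteType_iff_of_finiteOrder (hY : MoreMor.IsFiniteOrderThickening iY)
    (hc : IsPullback iX f f' iY) : LocallyOfFiniteType f ↔ LocallyOfFiniteType f' := by
  refine ⟨fun hf => ?_, fun hf => MorphismProperty.of_isPullback hc inferInstance⟩
  have := hY.1.1
  refine of_isPullback_thickening hY.1 hc hf fun V U h ψ H hψ =>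
    finiteType_of_isPushout H (iY.app_surjective V.1 V.2) ?_ hψ
  obtain ⟨n, hn⟩ := hY.2
  refine ⟨n, ?_⟩
  rw [← Scheme.Hom.ker_apply]
  exact congr(($hn).ideal V)

lemma formallyUnramified_iff_of_finiteOrder (hY : MoreMor.IsFiniteOrderThickening iY)
    (hc : IsPullback iX f f' iY) : FormallyUnramified f ↔ FormallyUnramified f' := by
  refine ⟨fun hf => ?_, fun hf => MorphismProperty.of_isPullback hc inferInstance⟩
  have := hY.1.1
  refine of_isPullback_thickening hY.1 hc hf fun V U h ψ H hψ =>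
    formallyUnramified_of_isPushout H (iY.app_surjective V.1 V.2) ?_ hψ
  obtain ⟨n, hn⟩ := hY.2
  refine ⟨n, ?_⟩
  rw [← Scheme.Hom.ker_apply]
  exact congr(($hn).ideal V)

lemma formallyUnramified_iff_of_lft (hY : MoreMor.IsThickening iY)
    (hc : IsPullback iX f f' iY) [LocallyOfFiniteType f'] :
    FormallyUnramified f ↔ FormallyUnramified f' := by
  refine ⟨fun hf => ?_, fun hf => MorphismProperty.of_isPullback hc inferInstance⟩
  have := hY.1
  refine of_isPullback_thickening hY hc hf fun V U hUV ψ H hψ => ?_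
  exact formallyUnramified_of_isPushout_of_finiteType H (iY.app_surjective V.1 V.2)
    (by rw [← Scheme.Hom.ker_apply]; exact ker_le_nilradical hY V)
    (HasRingHomProperty.appLE (P := @LocallyOfFiniteType) f' inferInstance V U hUV) hψ

lemma mono_of_isPullback (hc : IsPullback iX f f' iY) [Mono f'] : Mono f :=
  MorphismProperty.of_isPullback (P := MorphismProperty.monomorphisms Scheme) hc ‹_›

lemma formallyUnramified_of_mono {X Y : Scheme.{u}} (f : X ⟶ Y) [Mono f] : FormallyUnramified f := by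
  infer_instance

lemma mono_iff_of_finiteOrder (hY : MoreMor.IsFiniteOrderThickening iY)
    (hc : IsPullback iX f f' iY) : Mono f ↔ Mono f' := by
  refine ⟨fun hf => ?_, fun hf => mono_of_isPullback hc⟩
  have hu : FormallyUnramified f' := (formallyUnramified_iff_of_finiteOrder hY hc).mp inferInstance
  let g := pullback.fst f' f' ≫ f'
  have hpb : IsPullback (pullback.fst g iY) (pullback.snd g iY) g iY := .of_hasPullback _ _
  have hj := isFiniteOrderThickening_of_isPullback hY hpb
  have := hj.1.1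
  have hcond : pullback.fst f' f' ≫ f' = pullback.snd f' f' ≫ f' := pullback.condition
  let a := hc.lift (pullback.fst g iY ≫ pullback.fst f' f') (pullback.snd g iY)
    (by rw [Category.assoc]; exact pullback.condition)
  let b := hc.lift (pullback.fst g iY ≫ pullback.snd f' f') (pullback.snd g iY)
    (by rw [Category.assoc, ← hcond]; exact pullback.condition)
  have hab : a = b := by rw [← cancel_mono f, hc.lift_snd, hc.lift_snd]
  have hkey : pullback.fst g iY ≫ pullback.fst f' f' = pullback.fst g iY ≫ pullback.snd f' f' := by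
    simpa [a, b] using congr($hab ≫ iX)
  have := FormallyUnramified.hom_ext (pullback.fst g iY) hj.2 f' hkey hcond
  exact ⟨fun {Z} p q hpq => by
    simpa only [pullback.lift_fst, pullback.lift_snd] using congr(pullback.lift p q hpq ≫ $this)⟩

lemma mono_iff_of_lft (hY : MoreMor.IsThickening iY) (hc : IsPullback iX f f' iY)
    [LocallyOfFiniteType f'] : Mono f ↔ Mono f' := by
  refine ⟨fun hf => ?_, fun hf => mono_of_isPullback hc⟩
  have hu : FormallyUnramified f' := (formallyUnramified_iff_of_lft hY hc).mp inferInstance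
  have hi : UniversallyInjective f' :=
    (universallyInjective_iff_of_thickening (isThickening_of_isPullback hY hc) hY hc.w).mp inferInstance
  have : Surjective (pullback.diagonal f') := (UniversallyInjective.iff_diagonal f').mp hi
  have : IsOpenImmersion (pullback.diagonal f') := inferInstance
  have : IsIso (pullback.diagonal f') :=
    (isIso_iff_isOpenImmersion_and_surjective _).mpr ⟨inferInstance, inferInstance⟩
  exact (pullback.isIso_diagonal_iff f').mp inferInstance

lemma locallyQuasiFinite_iff_of_lft (hY : MoreMor.IsThickening iY) (hc : IsPullback iX f f' iY)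
    [LocallyOfFiniteType f] [LocallyOfFiniteType f'] : LocallyQuasiFinite f ↔ LocallyQuasiFinite f' := by
  have := hY.1
  have := hY.2
  have hX := isThickening_of_isPullback hY hc
  have := hX.1
  have := hX.2
  refine ⟨fun hf => ?_, fun hf => MorphismProperty.of_isPullback hc inferInstance⟩
  rw [locallyQuasiFinite_iff_isDiscrete_preimage_singleton]
  intro y'
  obtain ⟨y, rfl⟩ := iY.surjective y'
  have h : iX '' (f ⁻¹' {y}) = f' ⁻¹' {iY y} := by
    ext x'
    obtain ⟨x, rfl⟩ := iX.surjective x'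
    have hw : f' (iX x) = iY (f x) := congr(($(hc.w) : X ⟶ Y') x)
    simp only [iX.isClosedEmbedding.injective.mem_set_image, Set.mem_preimage, Set.mem_singleton_iff, hw]
    exact iY.isClosedEmbedding.injective.eq_iff.symm
  rw [← h]
  exact (f.isDiscrete_preimage_singleton y).image iX.isEmbedding.isInducing

lemma isIntegralHom_iff_of_thickening {S S' : Scheme.{u}} {iS : S ⟶ S'} {g : X ⟶ S} {g' : X' ⟶ S'}
    (hX : MoreMor.IsThickening iX) (hS : MoreMor.IsThickening iS)
    (w : iX ≫ g' = g ≫ iS) : IsIntegralHom g ↔ IsIntegralHom g' := by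
  rw [IsIntegralHom.iff_universallyClosed_and_isAffineHom, IsIntegralHom.iff_universallyClosed_and_isAffineHom,
    universallyClosed_iff_of_thickening hX hS w, isAffineHom_iff_of_thickening hX hS w]

lemma isClosedImmersion_iff_of_lft (hY : MoreMor.IsThickening iY) (hc : IsPullback iX f f' iY)
    [LocallyOfFiniteType f'] : IsClosedImmersion f ↔ IsClosedImmersion f' := by
  refine ⟨fun hf => ?_, fun hf => MorphismProperty.of_isPullback hc inferInstance⟩
  have : IsIntegralHom f' :=
    (isIntegralHom_iff_of_thickening (isThickening_of_isPullback hY hc) hY hc.w).mp inferInstance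
  have : Mono f' := (mono_iff_of_lft hY hc).mp inferInstance
  have : IsFinite f' := (IsFinite.iff_isIntegralHom_and_locallyOfFiniteType _).mpr ⟨‹_›, ‹_›⟩
  exact (IsClosedImmersion.iff_isFinite_and_mono _).mpr ⟨‹_›, ‹_›⟩

lemma isImmersion_iff_of_lft (hY : MoreMor.IsThickening iY) (hc : IsPullback iX f f' iY)
    [LocallyOfFiniteType f'] : IsImmersion f ↔ IsImmersion f' := by
  refine ⟨fun hf => ?_, fun hf => MorphismProperty.of_isPullback hc inferInstance⟩
  have := hY.1
  have := hY.2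
  have hX := isThickening_of_isPullback hY hc
  have := hX.2
  have hr : Set.range f' = iY '' Set.range f := by
    rw [← Set.range_comp, ← TopCat.coe_comp, ← Scheme.Hom.comp_base, ← hc.w, Scheme.Hom.comp_base,
      TopCat.coe_comp, Set.range_comp, iX.surjective.range_eq, Set.image_univ]
  have hlc : IsLocallyClosed (Set.range f') :=
    hr ▸ f.isLocallyClosed_range.image iY.isClosedEmbedding.isInducing iY.isClosedEmbedding.isClosed_range.isLocallyClosed
  obtain ⟨U, Z, hU, hZ, e⟩ := hlc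
  let U' : Y'.Opens := ⟨U, hU⟩
  have htop : f' ⁻¹ᵁ U' = ⊤ := top_le_iff.mp fun x _ => ((Set.ext_iff.mp e (f' x)).mp ⟨x, rfl⟩).1
  have hres : IsClosedImmersion (f ∣_ iY ⁻¹ᵁ U') := by
    have : IsImmersion (f ∣_ iY ⁻¹ᵁ U') := IsZariskiLocalAtTarget.restrict hf _
    refine IsClosedImmersion.iff_isPreimmersion.mpr ⟨inferInstance, ?_⟩
    have : Set.range (f ∣_ iY ⁻¹ᵁ U') = (iY ⁻¹ᵁ U').ι ⁻¹' Set.range f := by
      rw [morphismRestrict_base]; exact Set.range_restrictPreimage _ _
    rw [this]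
    have hfr : Set.range f = iY ⁻¹' (U ∩ Z) := by
      rw [← e, hr, Set.preimage_image_eq _ iY.isClosedEmbedding.injective]
    have : (iY ⁻¹ᵁ U').ι ⁻¹' Set.range f = (iY ⁻¹ᵁ U').ι ⁻¹' (iY ⁻¹' Z) := by
      ext ⟨p, hp⟩
      rw [hfr]
      exact ⟨fun h => h.2, fun h => ⟨hp, h⟩⟩
    rw [this]
    exact (hZ.preimage iY.continuous).preimage (iY ⁻¹ᵁ U').ι.continuous
  have hY' : MoreMor.IsThickening (iY ∣_ U') :=
    ⟨IsZariskiLocalAtTarget.restrict hY.1 _, IsZariskiLocalAtTarget.restrict hY.2 _⟩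
  have hpb : IsPullback (pullback.fst (f' ∣_ U') (iY ∣_ U')) (pullback.snd _ _) (f' ∣_ U') (iY ∣_ U') :=
    .of_hasPullback _ _
  have h2 : IsPullback (pullback.fst (f' ∣_ U') (iY ∣_ U') ≫ (f' ⁻¹ᵁ U').ι) (pullback.snd _ _) f'
      ((iY ⁻¹ᵁ U').ι ≫ iY) := by
    rw [← morphismRestrict_ι]
    exact hpb.paste_horiz (isPullback_morphismRestrict f' U').flip
  let l := hc.lift (pullback.fst (f' ∣_ U') (iY ∣_ U') ≫ (f' ⁻¹ᵁ U').ι)
    (pullback.snd (f' ∣_ U') (iY ∣_ U') ≫ (iY ⁻¹ᵁ U').ι) (by rw [h2.w, Category.assoc])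
  have h3 : IsPullback l (pullback.snd (f' ∣_ U') (iY ∣_ U')) f (iY ⁻¹ᵁ U').ι :=
    IsPullback.of_right (by simpa [l] using h2) (hc.lift_snd _ _ _) hc
  have hsnd : IsClosedImmersion (pullback.snd (f' ∣_ U') (iY ∣_ U')) := by
    rw [← IsPullback.isoIsPullback_hom_fst _ _ h3.flip (isPullback_morphismRestrict f (iY ⁻¹ᵁ U'))]
    infer_instance
  have : IsClosedImmersion (f' ∣_ U') := (isClosedImmersion_iff_of_lft hY' hpb).mp hsnd
  have : IsImmersion ((f' ∣_ U') ≫ U'.ι) := inferInstance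
  rw [morphismRestrict_ι] at this
  have : IsIso (f' ⁻¹ᵁ U').ι :=
    (isIso_iff_isOpenImmersion_and_surjective _).mpr ⟨inferInstance, ⟨fun x => ⟨⟨x, htop.ge trivial⟩, rfl⟩⟩⟩
  rw [← IsIso.inv_hom_id_assoc (f' ⁻¹ᵁ U').ι f']
  infer_instance

end morphism

end Groth.FlatMor2
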