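import Mathlib.RingTheory.Flat.Basic
import Mathlib.RingTheory.Flat.Stability
import Mathlib.RingTheory.Flat.Tensor
import Mathlib.Algebra.Module.CharacterModule
import Mathlib.LinearAlgebra.TensorProduct.Tower
import Mathlib.RingTheory.Ideal.Maps

/-!
# Local criterion of flatness for a nilpotent ideal (no finiteness)
-/

universe u

open TensorProduct

namespace Groth.FlatMor2

variable {R : Type u} [CommRing R] {M : Type u} [AddCommGroup M] [Module R M]

/-- A linear map into the character module of `M` extends along `f` when `f ⊗ M` is injective. -/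
lemma exists_extend_of_rTensor_injective {A A' : Type u} [AddCommGroup A] [Module R A] [AddCommGroup A']
    [Module R A'] (f : A →ₗ[R] A') (hf : Function.Injective (f.rTensor M))
    (θ : A →ₗ[R] CharacterModule M) : ∃ θ' : A' →ₗ[R] CharacterModule M, θ' ∘ₗ f = θ :=
  rTensor_injective_iff_lcomp_surjective.mp hf θ

variable {S : Type u} [CommRing S] [Algebra R S]

/-- An `R`-module killed by the kernel of a surjection `R → S` is an `S`-module. -/
noncomputable abbrev moduleOfKilled (hsurj : Function.Surjective (algebraMap R S)) {Q : Type u}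
    [AddCommGroup Q] [Module R Q] (hQ : ∀ j ∈ RingHom.ker (algebraMap R S), ∀ q : Q, j • q = 0) :
    Module S Q :=
  Module.compHom Q (RingHom.liftOfSurjective (algebraMap R S) hsurj
    ⟨Module.toAddMonoidEnd R Q, fun j hj => RingHom.mem_ker.mpr (AddMonoidHom.ext fun q => hQ j hj q)⟩)

lemma rTensor_injective_of_killed (hsurj : Function.Surjective (algebraMap R S))
    [Module.Flat S (S ⊗[R] M)] {Q₁ Q₂ : Type u} [AddCommGroup Q₁] [Module R Q₁]
    [AddCommGroup Q₂] [Module R Q₂]
    (h₁ : ∀ j ∈ RingHom.ker (algebraMap R S), ∀ q : Q₁, j • q = 0)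
    (h₂ : ∀ j ∈ RingHom.ker (algebraMap R S), ∀ q : Q₂, j • q = 0)
    (f : Q₁ →ₗ[R] Q₂) (hf : Function.Injective f) : Function.Injective (f.rTensor M) := by
  let m₁ : Module S Q₁ := moduleOfKilled hsurj h₁
  let m₂ : Module S Q₂ := moduleOfKilled hsurj h₂
  have e₁ : ∀ (r : R) (q : Q₁), algebraMap R S r • q = r • q := fun r q =>
    congr($(RingHom.liftOfRightInverse_comp_apply (algebraMap R S) (Function.surjInv hsurj)
      (Function.rightInverse_surjInv hsurj)
      ⟨Module.toAddMonoidEnd R Q₁, fun j hj => RingHom.mem_ker.mpr (AddMonoidHom.ext fun q => h₁ j hj q)⟩ r) q)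
  have e₂ : ∀ (r : R) (q : Q₂), algebraMap R S r • q = r • q := fun r q =>
    congr($(RingHom.liftOfRightInverse_comp_apply (algebraMap R S) (Function.surjInv hsurj)
      (Function.rightInverse_surjInv hsurj)
      ⟨Module.toAddMonoidEnd R Q₂, fun j hj => RingHom.mem_ker.mpr (AddMonoidHom.ext fun q => h₂ j hj q)⟩ r) q)
  have : IsScalarTower R S Q₁ := .of_algebraMap_smul e₁
  have : IsScalarTower R S Q₂ := .of_algebraMap_smul e₂
  let fS : Q₁ →ₗ[S] Q₂ :=
    { toFun := f, map_add' := f.map_add,
      map_smul' := fun s q => by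
        obtain ⟨r, rfl⟩ := hsurj s
        simp [e₁, e₂] }
  have h := Module.Flat.rTensor_preserves_injective_linearMap (M := S ⊗[R] M) fS hf
  have e : f.rTensor M = ((AlgebraTensorModule.cancelBaseChange R S S Q₂ M).restrictScalars R).toLinearMap ∘ₗ
      (fS.rTensor (S ⊗[R] M)).restrictScalars R ∘ₗ
      ((AlgebraTensorModule.cancelBaseChange R S S Q₁ M).symm.restrictScalars R).toLinearMap := by
    ext q m
    simp [fS]
  rw [e]
  simpa using! h

/-- **Nilpotent local criterion of flatness**: if `R → S` is surjective with nilpotent kernel `J`,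
`S ⊗ M` is flat over `S` and `J ⊗ M → M` is injective, then `M` is flat over `R`. -/
theorem flat_of_nilpotent_ker (hsurj : Function.Surjective (algebraMap R S))
    (hnil : IsNilpotent (RingHom.ker (algebraMap R S))) [Module.Flat S (S ⊗[R] M)]
    (hinj : Function.Injective ((RingHom.ker (algebraMap R S)).subtype.rTensor M)) :
    Module.Flat R M := by
  rw [Module.Flat.iff_characterModule_baer]
  let J := RingHom.ker (algebraMap R S)
  let E := CharacterModule M
  have step : ∀ (a b : Ideal R) (hab : a ≤ b), J * b ≤ a → ∀ φ : a →ₗ[R] E,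
      ∃ ψ : b →ₗ[R] E, ψ ∘ₗ Submodule.inclusion hab = φ := by
    intro a b hab hJb φ
    let mulJ : b → J →ₗ[R] a := fun x =>
      LinearMap.codRestrict a ((LinearMap.mulRight R (x : R)) ∘ₗ J.subtype)
        fun j => hJb (Ideal.mul_mem_mul j.2 x.2)
    let L : Submodule R (b × E) :=
      { carrier := {p | ∀ j : J, φ (mulJ p.1 j) = (j : R) • p.2}
        add_mem' := fun {p q} hp hq j => by
          have : mulJ (p.1 + q.1) j = mulJ p.1 j + mulJ q.1 j := Subtype.ext (mul_add _ _ _)
          rw [Prod.fst_add, this, map_add, hp j, hq j, Prod.snd_add, smul_add]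
        zero_mem' := fun j => by
          have : mulJ 0 j = 0 := Subtype.ext (mul_zero _)
          rw [Prod.fst_zero, this, map_zero, Prod.snd_zero, smul_zero]
        smul_mem' := fun r p hp j => by
          have : mulJ (r • p.1) j = r • mulJ p.1 j := Subtype.ext (mul_left_comm _ _ _)
          rw [Prod.smul_fst, this, map_smul, hp j, Prod.smul_snd, smul_comm] }
    have hfst : Function.Surjective (LinearMap.fst R b E ∘ₗ L.subtype) := by
      intro x
      obtain ⟨θ, hθ⟩ := exists_extend_of_rTensor_injective J.subtype hinj (φ ∘ₗ mulJ x)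
      refine ⟨⟨(x, θ 1), fun j => ?_⟩, rfl⟩
      rw [← map_smul, smul_eq_mul, mul_one]
      exact (LinearMap.congr_fun hθ j).symm
    let γ : a →ₗ[R] L := LinearMap.codRestrict L ((Submodule.inclusion hab).prod φ) fun x j => by
      have : mulJ (Submodule.inclusion hab x) j = (j : R) • x := Subtype.ext rfl
      show φ (mulJ (Submodule.inclusion hab x) j) = _
      rw [this, map_smul]; rfl
    let K : Submodule R E := ⨅ j : J, LinearMap.ker (LinearMap.lsmul R E (j : R))
    have hK : ∀ e : K, ∀ j : J, (j : R) • (e : E) = 0 := fun e j => by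
      simpa using (Submodule.mem_iInf _).mp e.2 j
    let κ : K →ₗ[R] L ⧸ LinearMap.range γ :=
      (LinearMap.range γ).mkQ ∘ₗ LinearMap.codRestrict L ((0 : K →ₗ[R] b).prod K.subtype) fun e j => by
        have : mulJ 0 j = 0 := Subtype.ext (mul_zero _)
        show φ (mulJ 0 j) = (j : R) • (e : E)
        rw [this, map_zero, hK e j]
    have hκ : Function.Injective κ := by
      refine LinearMap.ker_eq_bot.mp (LinearMap.ker_eq_bot'.mpr fun e he => ?_)
      obtain ⟨x, hx⟩ := (Submodule.Quotient.mk_eq_zero _).mp he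
      have h1 : Submodule.inclusion hab x = 0 := congr(($hx : L).1.1)
      have h2 : φ x = (e : E) := congr(($hx : L).1.2)
      have : x = 0 := Subtype.ext (by simpa using congrArg Subtype.val h1)
      exact Subtype.ext (by rw [← h2, this, map_zero]; rfl)
    have hQ : ∀ j ∈ J, ∀ q : L ⧸ LinearMap.range γ, j • q = 0 := by
      intro j hj q
      obtain ⟨p, rfl⟩ := Submodule.mkQ_surjective _ q
      rw [← map_smul, Submodule.mkQ_apply, Submodule.Quotient.mk_eq_zero]
      exact ⟨mulJ p.1.1 ⟨j, hj⟩, Subtype.ext (Prod.ext (Subtype.ext rfl) (p.2 ⟨j, hj⟩))⟩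
    obtain ⟨r, hr⟩ := exists_extend_of_rTensor_injective κ
      (rTensor_injective_of_killed (M := M) hsurj (fun j hj e => Subtype.ext (hK e ⟨j, hj⟩)) hQ κ hκ) K.subtype
    let F : L →ₗ[R] E := (LinearMap.snd R b E ∘ₗ L.subtype) - r ∘ₗ (LinearMap.range γ).mkQ
    have hF : LinearMap.ker (LinearMap.fst R b E ∘ₗ L.subtype) ≤ LinearMap.ker F := by
      intro p hp
      have hp1 : p.1.1 = 0 := hp
      have he : p.1.2 ∈ K := (Submodule.mem_iInf _).mpr fun j => by
        have := p.2 j
        rw [hp1, show mulJ 0 j = 0 from Subtype.ext (mul_zero _), map_zero] at this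
        simpa using this.symm
      have : κ ⟨p.1.2, he⟩ = (LinearMap.range γ).mkQ p :=
        congrArg (LinearMap.range γ).mkQ (Subtype.ext (Prod.ext hp1.symm rfl))
      have h' : r (κ ⟨p.1.2, he⟩) = p.1.2 := LinearMap.congr_fun hr ⟨p.1.2, he⟩
      rw [LinearMap.mem_ker, LinearMap.sub_apply, LinearMap.comp_apply, LinearMap.comp_apply, ← this, h']
      exact sub_self _
    refine ⟨Submodule.liftQ _ F hF ∘ₗ
      (LinearMap.quotKerEquivOfSurjective _ hfst).symm.toLinearMap, LinearMap.ext fun x => ?_⟩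
    have : (LinearMap.quotKerEquivOfSurjective _ hfst).symm (Submodule.inclusion hab x) =
        Submodule.Quotient.mk (γ x) := by
      rw [LinearEquiv.symm_apply_eq]; rfl
    rw [LinearMap.comp_apply, LinearMap.comp_apply, LinearEquiv.coe_coe, this, Submodule.liftQ_apply]
    have h0 : (LinearMap.range γ).mkQ (γ x) = 0 := (Submodule.Quotient.mk_eq_zero _).mpr ⟨x, rfl⟩
    simp [F, h0, γ]
  obtain ⟨n, hn⟩ := hnil
  intro a φ
  have main : ∀ k, k ≤ n → ∃ ψ : ↥(a ⊔ J ^ (n - k)) →ₗ[R] E, ∀ x : a,
      ψ ⟨x, Submodule.mem_sup_left x.2⟩ = φ x := by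
    intro k
    induction k with
    | zero =>
      intro _
      have h : a ⊔ J ^ (n - 0) ≤ a := sup_le le_rfl (by rw [Nat.sub_zero, hn]; exact bot_le)
      exact ⟨φ ∘ₗ Submodule.inclusion h, fun x => rfl⟩
    | succ k ih =>
      intro hk
      obtain ⟨ψ, hψ⟩ := ih (by omega)
      have hle : a ⊔ J ^ (n - k) ≤ a ⊔ J ^ (n - (k + 1)) :=
        sup_le_sup_left (Ideal.pow_le_pow_right (by omega)) _
      have hJ : J * (a ⊔ J ^ (n - (k + 1))) ≤ a ⊔ J ^ (n - k) := by
        rw [Ideal.mul_sup]
        refine sup_le_sup Ideal.mul_le_right ?_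
        rw [← pow_succ', show n - k = n - (k + 1) + 1 by omega]
      obtain ⟨ψ', hψ'⟩ := step _ _ hle hJ ψ
      exact ⟨ψ', fun x => (LinearMap.congr_fun hψ' ⟨x, Submodule.mem_sup_left x.2⟩).trans (hψ x)⟩
  obtain ⟨ψ, hψ⟩ := main n le_rfl
  have htop : (⊤ : Ideal R) ≤ a ⊔ J ^ (n - n) := by simp
  exact ⟨ψ ∘ₗ Submodule.inclusion htop ∘ₗ Submodule.topEquiv.symm.toLinearMap, fun x hx => hψ ⟨x, hx⟩⟩

end Groth.FlatMor2
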