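import Groth.Prelude.Def_MoreMor
import Groth.Agent.FlatMor2.NilFlat
import Groth.Agent.FlatMor2.NilBaseChange
import Mathlib.AlgebraicGeometry.Morphisms.FlatMono
import Mathlib.AlgebraicGeometry.Morphisms.SmoothFiber
import Mathlib.AlgebraicGeometry.Morphisms.Etale
import Mathlib.AlgebraicGeometry.Morphisms.FlatRank
import Mathlib.AlgebraicGeometry.Morphisms.Finite
import Groth.Prelude.Def_Mor2

/-!
# Properties of morphisms of flat deformations along finite order thickenings
-/

universe u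

open AlgebraicGeometry CategoryTheory Limits TensorProduct

namespace Groth.FlatMor2

lemma le_of_le_sup_smul_of_isNilpotent {R M : Type*} [CommRing R] [AddCommGroup M] [Module R M]
    {J : Ideal R} (hJ : IsNilpotent J) {N N' : Submodule R M} (h : N ≤ N' ⊔ J • N) : N ≤ N' := by
  obtain ⟨n, hn⟩ := hJ
  have : ∀ k, N ≤ N' ⊔ J ^ k • N := by
    intro k
    induction k with
    | zero => simp
    | succ k ih =>
      refine ih.trans (sup_le le_sup_left ?_)
      rw [pow_succ, Submodule.mul_smul]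
      calc J ^ k • N ≤ J ^ k • (N' ⊔ J • N) := Submodule.smul_mono le_rfl h
        _ = J ^ k • N' ⊔ J ^ k • (J • N) := Submodule.smul_sup _ _ _
        _ ≤ _ := sup_le_sup_right Submodule.smul_le_right _
  simpa [hn] using this n

/-- A submodule with flat quotient is pure. -/
lemma inf_smul_top_le_smul_of_flat {R M N : Type u} [CommRing R] [AddCommGroup M] [Module R M]
    [AddCommGroup N] [Module R N] (q : M →ₗ[R] N) (hq : Function.Surjective q) [Module.Flat R N]
    (J : Ideal R) : LinearMap.ker q ⊓ J • ⊤ ≤ J • LinearMap.ker q := by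
  rintro x ⟨hxq, hxJ⟩
  let μ : (P : Type u) → [AddCommGroup P] → [Module R P] → J ⊗[R] P →ₗ[R] P := fun P _ _ =>
    TensorProduct.lift ((LinearMap.lsmul R P).comp J.subtype)
  obtain ⟨t, rfl⟩ : x ∈ LinearMap.range (μ M) := by
    refine Submodule.smul_induction_on hxJ (fun j hj m _ => ⟨⟨j, hj⟩ ⊗ₜ m, by simp [μ]⟩) ?_
    exact fun a b ha hb => add_mem ha hb
  have e : q ∘ₗ μ M = μ N ∘ₗ q.lTensor J := by ext j m; simp [μ]
  have h0 : q.lTensor J t = 0 := by
    have hμ : μ N = (TensorProduct.lid R N).toLinearMap ∘ₗ J.subtype.rTensor N := by ext j m; simp [μ]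
    have hinj : Function.Injective (μ N) := hμ ▸ (TensorProduct.lid R N).injective.comp
      (Module.Flat.rTensor_preserves_injective_linearMap _ J.injective_subtype)
    refine hinj ?_
    rw [map_zero]
    exact (LinearMap.congr_fun e t).symm.trans hxq
  obtain ⟨s, rfl⟩ := (lTensor_exact J (LinearMap.exact_subtype_ker_map q) hq t).mp h0
  have hpre : ∀ u : J ⊗[R] LinearMap.ker q, μ M ((LinearMap.ker q).subtype.lTensor J u) ∈ J • LinearMap.ker q := by
    intro u
    induction u using TensorProduct.induction_on with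
    | zero => simp
    | tmul j m => simpa [μ] using Submodule.smul_mem_smul j.2 m.2
    | add a b ha hb => simp only [map_add]; exact add_mem ha hb
  exact hpre _

variable {A B C D : CommRingCat.{u}} {φ : A ⟶ B} {π : A ⟶ C} {ρ : B ⟶ D} {ψ : C ⟶ D}

/-- Flatness of the reduction of a morphism of flat deformations implies flatness. -/
lemma flat_of_isPushout (H : IsPushout φ π ρ ψ) (hπ : Function.Surjective π)
    {A₀ : Type u} [CommRing A₀] (a : A₀ →+* A) (I : Ideal A₀) (hI : IsNilpotent I)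
    (hker : RingHom.ker π.hom = I.map a) (ha : (φ.hom.comp a).Flat) (hψ : ψ.hom.Flat) :
    φ.hom.Flat := by
  algebraize [a, φ.hom, φ.hom.comp a, π.hom, ρ.hom, ψ.hom, ψ.hom.comp π.hom]
  have : IsScalarTower A B D := .of_algebraMap_eq fun x => (congr($(H.w) x)).symm
  have : IsScalarTower A C D := .of_algebraMap_eq fun x => rfl
  have hp : Algebra.IsPushout A C B D :=
    Algebra.IsPushout.symm (CommRingCat.isPushout_iff_isPushout.mp H)
  have : Module.Flat C D := hψ
  have : Module.Flat C (C ⊗[A] B) :=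
    .of_linearEquiv (Algebra.IsPushout.equiv A C B D).toLinearEquiv
  have : Module.Flat A₀ B := ha
  obtain ⟨n, hn⟩ := hI
  refine flat_of_nilpotent_ker (S := C) hπ ⟨n, ?_⟩ ?_
  · show RingHom.ker π.hom ^ n = 0
    rw [hker, ← Ideal.map_pow, hn, Ideal.zero_eq_bot, Ideal.map_bot]
    rfl
  let J := RingHom.ker (algebraMap A C)
  have hIJ : ∀ i : I, algebraMap A₀ A i ∈ J := fun i => by
    show a i ∈ RingHom.ker π.hom
    exact hker ▸ Ideal.mem_map_of_mem a i.2
  have hkerJ : J = Ideal.span (a '' I) := hker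
  let ι : I →ₗ[A₀] J :=
    { toFun := fun i => ⟨algebraMap A₀ A i, hIJ i⟩
      map_add' := fun x y => Subtype.ext (map_add _ _ _)
      map_smul' := fun r x => Subtype.ext (by simp [Algebra.smul_def]) }
  let Φ : I ⊗[A₀] B →ₗ[A₀] J ⊗[A] B :=
    TensorProduct.lift (LinearMap.mk₂ A₀ (fun i b => ι i ⊗ₜ[A] b)
      (fun x y b => by simp [TensorProduct.add_tmul]) (fun r x b => by simp [TensorProduct.smul_tmul'])
      (fun x b b' => by simp [TensorProduct.tmul_add]) (fun r x b => by simp))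
  have hΦ : Function.Surjective Φ := by
    rw [← LinearMap.range_eq_top, eq_top_iff]
    rintro z -
    induction z using TensorProduct.induction_on with
    | zero => exact zero_mem _
    | add x y hx hy => exact add_mem hx hy
    | tmul j b =>
      obtain ⟨x, hx⟩ := j
      have hx' : x ∈ Ideal.span (a '' I) := by
        have : x ∈ RingHom.ker π.hom := hx
        rwa [hker] at this
      induction hx' using Submodule.span_induction generalizing b with
      | mem y hy => obtain ⟨i, hi, rfl⟩ := hy; exact ⟨⟨i, hi⟩ ⊗ₜ b, rfl⟩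
      | zero => exact ⟨0, by rw [map_zero]; exact (TensorProduct.zero_tmul _ b).symm⟩
      | add x y hx0 hy0 ihx ihy =>
        have hxJ : x ∈ J := hkerJ.ge hx0
        have hyJ : y ∈ J := hkerJ.ge hy0
        rw [show (⟨x + y, hx⟩ : J) = ⟨x, hxJ⟩ + ⟨y, hyJ⟩ from rfl, TensorProduct.add_tmul]
        exact add_mem (ihx b hxJ) (ihy b hyJ)
      | smul r x hx0 ihx =>
        have hxJ : x ∈ J := hkerJ.ge hx0
        rw [show (⟨r • x, hx⟩ : J) = r • ⟨x, hxJ⟩ from rfl, TensorProduct.smul_tmul]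
        exact ihx (r • b) hxJ
  have e : (TensorProduct.lid A B).toLinearMap.restrictScalars A₀ ∘ₗ
      (J.subtype.rTensor B).restrictScalars A₀ ∘ₗ Φ =
      (TensorProduct.lid A₀ B).toLinearMap ∘ₗ I.subtype.rTensor B := by
    ext i b
    simp [Φ, ι, algebraMap_smul]
  refine (injective_iff_map_eq_zero _).mpr fun z hz => ?_
  obtain ⟨y, rfl⟩ := hΦ z
  have h1 : TensorProduct.lid A₀ B (I.subtype.rTensor B y) = 0 :=
    (LinearMap.congr_fun e y).symm.trans (by simp [J, hz])
  rw [LinearEquiv.map_eq_zero_iff] at h1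
  have h2 : y = 0 := (injective_iff_map_eq_zero _).mp
    (Module.Flat.rTensor_preserves_injective_linearMap (M := B) I.subtype I.injective_subtype) y h1
  rw [h2, map_zero]

lemma finitePresentation_of_isPushout (H : IsPushout φ π ρ ψ) (hπ : Function.Surjective π)
    {A₀ : Type u} [CommRing A₀] (a : A₀ →+* A) (I : Ideal A₀) (hI : IsNilpotent I)
    (hker : RingHom.ker π.hom = I.map a) (ha : (φ.hom.comp a).Flat) (hψ : ψ.hom.FinitePresentation) :
    φ.hom.FinitePresentation := by
  classical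
  have hnil : IsNilpotent (RingHom.ker π.hom) := by
    obtain ⟨n, hn⟩ := hI
    exact ⟨n, by rw [hker, ← Ideal.map_pow, hn, Ideal.zero_eq_bot, Ideal.map_bot]; rfl⟩
  have hft := finiteType_of_isPushout H hπ hnil (RingHom.FiniteType.of_finitePresentation hψ)
  have hρ := surjective_of_isPushout H hπ
  have hkρ := ker_eq_map_of_isPushout H hπ
  algebraize [a, φ.hom, φ.hom.comp a, ψ.hom]
  have : Module.Flat A₀ B := ha
  obtain ⟨n, q, hq⟩ := Algebra.FiniteType.iff_quotient_mvPolynomial''.mp (‹_› : Algebra.FiniteType A B)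
  let q₀ : MvPolynomial (Fin n) C →ₐ[C] D := MvPolynomial.aeval fun i => ρ (q (.X i))
  let m := MvPolynomial.map (σ := Fin n) π.hom
  have hm : Function.Surjective m := MvPolynomial.map_surjective _ hπ
  have hc : ∀ p, q₀ (m p) = ρ (q p) := by
    intro p
    induction p using MvPolynomial.induction_on with
    | C r =>
      simp only [m, q₀, MvPolynomial.map_C, MvPolynomial.aeval_C]
      rw [show q (MvPolynomial.C r) = φ r from q.commutes r]
      exact (congr($(H.w) r)).symm
    | add x y hx hy => simp [hx, hy]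
    | mul_X x i hx => simp [hx, m, q₀]
  have hq₀ : Function.Surjective q₀ := fun d => by
    obtain ⟨b, rfl⟩ := hρ d
    obtain ⟨p, rfl⟩ := hq b
    exact ⟨m p, hc p⟩
  have hm0 : RingHom.ker m = (RingHom.ker π.hom).map MvPolynomial.C := MvPolynomial.ker_map _
  let K := RingHom.ker q.toRingHom
  obtain ⟨s, hs⟩ : (RingHom.ker q₀.toRingHom).FG :=
    Algebra.FinitePresentation.ker_fG_of_surjective q₀ hq₀
  have hlift : ∀ x ∈ RingHom.ker q₀.toRingHom, ∃ p ∈ K, m p = x := by
    intro x hx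
    obtain ⟨p, rfl⟩ := hm x
    have h1 : q p ∈ RingHom.ker ρ.hom := (hc p).symm.trans hx
    have h2 : RingHom.ker ρ.hom = ((RingHom.ker π.hom).map MvPolynomial.C).map q.toRingHom := by
      rw [hkρ, Ideal.map_map]
      congr 1
      exact RingHom.ext fun r => (q.commutes r).symm
    rw [h2] at h1
    obtain ⟨j, hj, hjp⟩ := (Ideal.mem_map_iff_of_surjective q.toRingHom hq).mp h1
    refine ⟨p - j, ?_, ?_⟩
    · exact (map_sub q p j).trans (sub_eq_zero.mpr hjp.symm)
    · rw [map_sub, show m j = 0 from (hm0 ▸ hj :), sub_zero]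
  have hs' : ∀ x ∈ s, ∃ p ∈ K, m p = x := fun x hx => hlift x (hs ▸ Ideal.subset_span hx)
  choose! l hlK hlm using hs'
  let K₁ := Ideal.span ((s.image l : Finset (MvPolynomial (Fin n) A)) : Set (MvPolynomial (Fin n) A))
  have hK₁ : K₁ ≤ K := Ideal.span_le.mpr fun x hx => by
    obtain ⟨y, hy, rfl⟩ := Finset.mem_image.mp hx
    exact hlK y hy
  refine Algebra.FinitePresentation.of_surjective (f := q) hq ?_
  suffices K ≤ K₁ from ⟨s.image l, (le_antisymm this hK₁).symm⟩
  let J := (RingHom.ker π.hom).map (MvPolynomial.C : A →+* MvPolynomial (Fin n) A)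
  have h3 : K ⊓ J ≤ J * K := by
    rintro x ⟨hxK, hxJ⟩
    have hxJ' : x ∈ I • (⊤ : Submodule A₀ (MvPolynomial (Fin n) A)) := by
      rw [Ideal.smul_top_eq_map]
      show x ∈ I.map (algebraMap A₀ (MvPolynomial (Fin n) A))
      have : J = I.map (algebraMap A₀ (MvPolynomial (Fin n) A)) := by
        show (RingHom.ker π.hom).map _ = _
        rw [hker, Ideal.map_map]
        rfl
      exact this ▸ hxJ
    have : x ∈ I • LinearMap.ker (q.toLinearMap.restrictScalars A₀) :=
      inf_smul_top_le_smul_of_flat (q.toLinearMap.restrictScalars A₀) hq _ ⟨hxK, hxJ'⟩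
    refine Submodule.smul_induction_on this (fun r hr p hp => ?_) (fun a b => add_mem)
    rw [Algebra.smul_def]
    refine Ideal.mul_mem_mul ?_ hp
    show algebraMap A₀ (MvPolynomial (Fin n) A) r ∈ J
    exact Ideal.mem_map_of_mem _ (hker ▸ Ideal.mem_map_of_mem a hr)
  refine le_of_le_sup_smul_of_isNilpotent (J := J) ?_ fun x hx => ?_
  · obtain ⟨k, hk⟩ := hnil
    exact ⟨k, by rw [← Ideal.map_pow, hk, Ideal.zero_eq_bot, Ideal.map_bot]; rfl⟩
  have h4 : m x ∈ K₁.map m := by
    rw [Ideal.map_span, Finset.coe_image, ← Set.image_comp]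
    have : (m ∘ l) '' (s : Set _) = s := by
      ext y
      exact ⟨fun ⟨z, hz, e⟩ => e ▸ (by rwa [Function.comp_apply, hlm z hz]),
        fun hy => ⟨y, hy, hlm y hy⟩⟩
    rw [this]; refine hs.ge ?_
    exact (hc x).trans (by rw [show q x = 0 from hx, map_zero])
  obtain ⟨y, hy, hyx⟩ := (Ideal.mem_map_iff_of_surjective m hm).mp h4
  have h5 : x - y ∈ K ⊓ J := ⟨sub_mem hx (hK₁ hy), by
    refine hm0.le ?_
    rw [RingHom.mem_ker, map_sub, hyx, sub_self]⟩
  exact Submodule.mem_sup.mpr ⟨y, hy, x - y, h3 h5, add_sub_cancel y x⟩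

variable {X X' Y Y' S S' : Scheme.{u}} {iX : X ⟶ X'} {iY : Y ⟶ Y'} {iS : S ⟶ S'}
  {f : X ⟶ Y} {f' : X' ⟶ Y'} {g : Y ⟶ S} {g' : Y' ⟶ S'}

lemma exists_triple (f' : X' ⟶ Y') (g' : Y' ⟶ S') (x : X') :
    ∃ (W : S'.affineOpens) (V : Y'.affineOpens) (U : X'.affineOpens),
      V.1 ≤ g' ⁻¹ᵁ W.1 ∧ U.1 ≤ f' ⁻¹ᵁ V.1 ∧ x ∈ U.1 := by
  obtain ⟨_, ⟨W, hW, rfl⟩, hxW, -⟩ :=
    S'.isBasis_affineOpens.exists_subset_of_mem_open (Set.mem_univ (g' (f' x))) isOpen_univ
  obtain ⟨_, ⟨V, hV, rfl⟩, hxV, hVW⟩ :=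
    Y'.isBasis_affineOpens.exists_subset_of_mem_open (a := f' x) hxW (g'.continuous.isOpen_preimage _ W.2)
  obtain ⟨_, ⟨U, hU, rfl⟩, hxU, hUV⟩ :=
    X'.isBasis_affineOpens.exists_subset_of_mem_open (a := x) hxV (f'.continuous.isOpen_preimage _ V.2)
  exact ⟨⟨W, hW⟩, ⟨V, hV⟩, ⟨U, hU⟩, hVW, hUV, hxU⟩

lemma ideal_isNilpotent (hS : MoreMor.IsFiniteOrderThickening iS) (W : S'.affineOpens) :
    IsNilpotent (iS.ker.ideal W) := by
  obtain ⟨n, hn⟩ := hS.2
  exact ⟨n, congr(($hn).ideal W)⟩

lemma ker_app_eq_map (hcY : IsPullback iY g g' iS) [IsClosedImmersion iS] [IsClosedImmersion iY]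
    (W : S'.affineOpens) (V : Y'.affineOpens) (hVW : V.1 ≤ g' ⁻¹ᵁ W.1) :
    RingHom.ker (iY.app V.1).hom = (iS.ker.ideal W).map (g'.appLE W.1 V.1 hVW).hom := by
  rw [← Scheme.Hom.ker_apply]
  exact ker_ideal_eq_map hcY W.2 V.2 hVW

lemma flat_comp_appLE [Flat (f' ≫ g')] {W : S'.affineOpens} {V : Y'.affineOpens} {U : X'.affineOpens}
    (hVW : V.1 ≤ g' ⁻¹ᵁ W.1) (hUV : U.1 ≤ f' ⁻¹ᵁ V.1) :
    ((f'.appLE V.1 U.1 hUV).hom.comp (g'.appLE W.1 V.1 hVW).hom).Flat := by
  rw [← CommRingCat.hom_comp, Scheme.Hom.appLE_comp_appLE]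
  exact HasRingHomProperty.appLE (P := @Flat) _ ‹_› W U _

lemma deform_isPullback (hcX : IsPullback iX (f ≫ g) (f' ≫ g') iS) (hcY : IsPullback iY g g' iS)
    (w : iX ≫ f' = f ≫ iY) : IsPullback iX f f' iY :=
  IsPullback.of_bot hcX w hcY

lemma flat_iff_deform (hS : MoreMor.IsFiniteOrderThickening iS)
    (hcX : IsPullback iX (f ≫ g) (f' ≫ g') iS) (hcY : IsPullback iY g g' iS)
    (w : iX ≫ f' = f ≫ iY) [Flat (f' ≫ g')] : Flat f ↔ Flat f' := by
  have hc := deform_isPullback hcX hcY w
  refine ⟨fun hf => ?_, fun hf => MorphismProperty.of_isPullback hc inferInstance⟩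
  have := hS.1.1
  have hY := isFiniteOrderThickening_of_isPullback hS hcY
  have := hY.1.1
  have := isClosedImmersion_of_isPullback hc
  rw [HasRingHomProperty.iff_exists_appLE (P := @Flat)
    (RingHom.Flat.stableUnderComposition.stableUnderCompositionWithLocalizationAway
      RingHom.Flat.holdsForLocalizationAway).left]
  intro x
  obtain ⟨W, V, U, hVW, hUV, hxU⟩ := exists_triple f' g' x
  refine ⟨V, U, hxU, hUV, flat_of_isPushout (isPushout_app hc V.2 U.2 hUV) (iY.app_surjective V.1 V.2)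
    (g'.appLE W.1 V.1 hVW).hom (iS.ker.ideal W) (ideal_isNilpotent hS W)
    (ker_app_eq_map hcY W V hVW) (flat_comp_appLE hVW hUV)
    (HasRingHomProperty.appLE (P := @Flat) f hf ⟨_, V.2.preimage iY⟩ ⟨_, U.2.preimage iX⟩ _)⟩

lemma lfp_iff_deform (hS : MoreMor.IsFiniteOrderThickening iS)
    (hcX : IsPullback iX (f ≫ g) (f' ≫ g') iS) (hcY : IsPullback iY g g' iS)
    (w : iX ≫ f' = f ≫ iY) [Flat (f' ≫ g')] :
    LocallyOfFinitePresentation f ↔ LocallyOfFinitePresentation f' := by
  have hc := deform_isPullback hcX hcY w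
  refine ⟨fun hf => ?_, fun hf => MorphismProperty.of_isPullback hc inferInstance⟩
  have := hS.1.1
  have hY := isFiniteOrderThickening_of_isPullback hS hcY
  have := hY.1.1
  have := isClosedImmersion_of_isPullback hc
  rw [HasRingHomProperty.iff_exists_appLE (P := @LocallyOfFinitePresentation)
    (RingHom.finitePresentation_stableUnderComposition.stableUnderCompositionWithLocalizationAway
      RingHom.finitePresentation_holdsForLocalizationAway).left]
  intro x
  obtain ⟨W, V, U, hVW, hUV, hxU⟩ := exists_triple f' g' x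
  refine ⟨V, U, hxU, hUV, finitePresentation_of_isPushout (isPushout_app hc V.2 U.2 hUV)
    (iY.app_surjective V.1 V.2) (g'.appLE W.1 V.1 hVW).hom (iS.ker.ideal W) (ideal_isNilpotent hS W)
    (ker_app_eq_map hcY W V hVW) (flat_comp_appLE hVW hUV)
    (HasRingHomProperty.appLE (P := @LocallyOfFinitePresentation) f hf ⟨_, V.2.preimage iY⟩ ⟨_, U.2.preimage iX⟩ _)⟩

lemma isIso_residueFieldMap_of_surjectiveOnStalks (i : X ⟶ X') [SurjectiveOnStalks i] (x : X) :
    IsIso (i.residueFieldMap x) := by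
  rw [ConcreteCategory.isIso_iff_bijective]
  refine ⟨(i.residueFieldMap x).hom.injective, fun r => ?_⟩
  obtain ⟨t, rfl⟩ := X.residue_surjective x r
  obtain ⟨t', rfl⟩ := i.stalkMap_surjective x t
  exact ⟨X'.residue (i x) t', congr($(Scheme.residue_residueFieldMap i x) t')⟩

lemma isOpenImmersion_iff_deform (hS : MoreMor.IsFiniteOrderThickening iS)
    (hcX : IsPullback iX (f ≫ g) (f' ≫ g') iS) (hcY : IsPullback iY g g' iS)
    (w : iX ≫ f' = f ≫ iY) [Flat (f' ≫ g')] : IsOpenImmersion f ↔ IsOpenImmersion f' := by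
  have hc := deform_isPullback hcX hcY w
  refine ⟨fun hf => ?_, fun hf => MorphismProperty.of_isPullback hc inferInstance⟩
  have : Flat f' := (flat_iff_deform hS hcX hcY w).mp inferInstance
  have : LocallyOfFinitePresentation f' := (lfp_iff_deform hS hcX hcY w).mp inferInstance
  have : Mono f' := (mono_iff_of_finiteOrder (isFiniteOrderThickening_of_isPullback hS hcY) hc).mp inferInstance
  exact IsOpenImmersion.of_flat_of_mono f'

lemma isIso_iff_deform (hS : MoreMor.IsFiniteOrderThickening iS)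
    (hcX : IsPullback iX (f ≫ g) (f' ≫ g') iS) (hcY : IsPullback iY g g' iS)
    (w : iX ≫ f' = f ≫ iY) [Flat (f' ≫ g')] : IsIso f ↔ IsIso f' := by
  have hc := deform_isPullback hcX hcY w
  refine ⟨fun hf => ?_, fun hf => hc.isIso_snd_of_isIso⟩
  have := (isOpenImmersion_iff_deform hS hcX hcY w).mp inferInstance
  have := (isFiniteOrderThickening_of_isPullback hS hcY).1.2
  have : Surjective (iX ≫ f') := by rw [hc.w]; infer_instance
  have : Surjective f' := Surjective.of_comp iX f'
  exact (isIso_iff_isOpenImmersion_and_surjective _).mpr ⟨‹_›, ‹_›⟩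

lemma smooth_iff_deform (hS : MoreMor.IsFiniteOrderThickening iS)
    (hcX : IsPullback iX (f ≫ g) (f' ≫ g') iS) (hcY : IsPullback iY g g' iS)
    (w : iX ≫ f' = f ≫ iY) [Flat (f' ≫ g')] : Smooth f ↔ Smooth f' := by
  have hc := deform_isPullback hcX hcY w
  refine ⟨fun hf => ?_, fun hf => MorphismProperty.of_isPullback hc inferInstance⟩
  have : Flat f' := (flat_iff_deform hS hcX hcY w).mp inferInstance
  have : LocallyOfFinitePresentation f' := (lfp_iff_deform hS hcX hcY w).mp inferInstance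
  have hY := (isFiniteOrderThickening_of_isPullback hS hcY).1
  have := hY.1
  refine Smooth.of_smooth_fiberToSpecResidueField f' fun y' => ?_
  obtain ⟨y, rfl⟩ := hY.2.surj y'
  have hb := isPullback_fiberToSpecResidueField_of_isPullback hc y
  have := isIso_residueFieldMap_of_surjectiveOnStalks iY y
  have := hb.isIso_fst_of_isIso
  have hsm : Smooth (f.fiberToSpecResidueField y) :=
    MorphismProperty.of_isPullback (IsPullback.of_hasPullback f (Y.fromSpecResidueField y)) hf
  rw [← IsIso.inv_comp_eq _ |>.mpr hb.w.symm]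
  have hbot : Smooth (Spec.map (iY.residueFieldMap y)) := inferInstance
  exact MorphismProperty.comp_mem _ _ _ inferInstance (MorphismProperty.comp_mem _ _ _ hsm hbot)

lemma etale_iff_deform (hS : MoreMor.IsFiniteOrderThickening iS)
    (hcX : IsPullback iX (f ≫ g) (f' ≫ g') iS) (hcY : IsPullback iY g g' iS)
    (w : iX ≫ f' = f ≫ iY) [Flat (f' ≫ g')] : Etale f ↔ Etale f' := by
  have hc := deform_isPullback hcX hcY w
  refine ⟨fun hf => ?_, fun hf => MorphismProperty.of_isPullback hc inferInstance⟩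
  have : Flat f' := (flat_iff_deform hS hcX hcY w).mp inferInstance
  have : LocallyOfFinitePresentation f' := (lfp_iff_deform hS hcX hcY w).mp inferInstance
  have : FormallyUnramified f' :=
    (formallyUnramified_iff_of_finiteOrder (isFiniteOrderThickening_of_isPullback hS hcY) hc).mp inferInstance
  exact Etale.of_formallyUnramified_of_flat f'

lemma finLocFree_iff_deform (d : ℕ) (hS : MoreMor.IsFiniteOrderThickening iS)
    (hcX : IsPullback iX (f ≫ g) (f' ≫ g') iS) (hcY : IsPullback iY g g' iS)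
    (w : iX ≫ f' = f ≫ iY) [Flat (f' ≫ g')] :
    Mor2.IsFinLocFreeOfDeg d f ↔ Mor2.IsFinLocFreeOfDeg d f' := by
  have hc := deform_isPullback hcX hcY w
  have hY := isFiniteOrderThickening_of_isPullback hS hcY
  constructor
  · rintro ⟨⟨_, _, _⟩, hd⟩
    have : Flat f' := (flat_iff_deform hS hcX hcY w).mp inferInstance
    have : LocallyOfFinitePresentation f' := (lfp_iff_deform hS hcX hcY w).mp inferInstance
    have : IsIntegralHom f' :=
      (isIntegralHom_iff_of_thickening (isFiniteOrderThickening_of_isPullback hY hc).1 hY.1 hc.w).mp inferInstance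
    have : IsFinite f' := (IsFinite.iff_isIntegralHom_and_locallyOfFiniteType _).mpr ⟨‹_›, inferInstance⟩
    refine ⟨⟨‹_›, ‹_›, ‹_›⟩, fun y' => ?_⟩
    obtain ⟨y, rfl⟩ := hY.1.2.surj y'
    rw [← Scheme.Hom.finrank_of_isPullback iX f f' iY hc y, hd]
  · rintro ⟨⟨_, _, _⟩, hd⟩
    exact ⟨⟨MorphismProperty.of_isPullback hc inferInstance, MorphismProperty.of_isPullback hc inferInstance,
      MorphismProperty.of_isPullback hc inferInstance⟩,
      fun y => (Scheme.Hom.finrank_of_isPullback iX f f' iY hc y).trans (hd _)⟩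

end Groth.FlatMor2
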