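import Groth.Prelude.Def_MoreMor
import Mathlib.AlgebraicGeometry.ZariskisMainTheorem

/-!
# Ind-quasi-affine morphisms
-/

universe u

open AlgebraicGeometry CategoryTheory Limits TopologicalSpace

namespace Groth.FlatMor2

variable {X Y Z : Scheme.{u}}

/-- An open subscheme of a quasi-affine scheme is quasi-affine as soon as it is compact. -/
lemma isQuasiAffine_of_le {U W : X.Opens} (h : U ≤ W) [(W : Scheme.{u}).IsQuasiAffine]
    (hU : IsCompact (U : Set X)) : (U : Scheme.{u}).IsQuasiAffine := by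
  have : CompactSpace (U : Scheme.{u}) := isCompact_iff_compactSpace.mp hU
  exact .of_isImmersion (X.homOfLE h)

/-- Quasi-affineness is local for covers by basic opens of global sections. -/
lemma isQuasiAffine_of_basicOpen_cover [CompactSpace X]
    (H : ∀ x : X, ∃ r : Γ(X, ⊤), x ∈ X.basicOpen r ∧ (X.basicOpen r : Scheme.{u}).IsQuasiAffine) :
    X.IsQuasiAffine := by
  have hqs : QuasiSeparatedSpace X := by
    choose r hxr hr using H
    exact .of_isOpenCover (U := (X.basicOpen <| r ·))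
      (eq_top_iff.mpr fun _ _ ↦ Opens.mem_iSup.mpr ⟨_, hxr _⟩)
      (fun _ ↦ isRetrocompact_basicOpen _)
      (fun x ↦ isQuasiSeparated_iff_quasiSeparatedSpace _ (X.basicOpen (r x)).2 |>.mpr
        (have := hr x; inferInstanceAs (QuasiSeparatedSpace (X.basicOpen (r x) : Scheme.{u}))))
  refine .of_forall_exists_mem_basicOpen _ fun x => ?_
  obtain ⟨r, hxr, hr⟩ := H x
  obtain ⟨_, ⟨_, ⟨s, hs, rfl⟩, rfl⟩, hxs, -⟩ :=
    (Scheme.IsQuasiAffine.isBasis_basicOpen (X.basicOpen r : Scheme.{u})).exists_subset_of_mem_open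
      (Set.mem_univ ⟨x, hxr⟩) isOpen_univ
  obtain ⟨s', hs'⟩ : ∃ s' : Γ(X, X.basicOpen r),
      X.basicOpen s' = (X.basicOpen r).ι ''ᵁ (X.basicOpen r : Scheme.{u}).basicOpen s :=
    ⟨X.presheaf.map (eqToHom (X.basicOpen r).ι_image_top.symm).op (((X.basicOpen r).ι.appIso ⊤).inv s),
      by rw [Scheme.image_basicOpen, Scheme.basicOpen_res_eq]⟩
  have := isLocalization_basicOpen_of_qcqs (X := X) (U := ⊤) isCompact_univ isQuasiSeparated_univ r
  obtain ⟨⟨a, _, n, rfl⟩, ha⟩ := IsLocalization.surj (Submonoid.powers r) s'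
  have hbs : X.basicOpen (a * r) = X.basicOpen s' := by
    have h1 := congr(X.basicOpen $ha)
    simp only [RingHom.algebraMap_toAlgebra, Scheme.basicOpen_mul] at h1
    erw [Scheme.basicOpen_res, Scheme.basicOpen_res] at h1
    have h2 : X.basicOpen r ≤ X.basicOpen (r ^ n) := by
      cases n with
      | zero => simp [Scheme.basicOpen_of_isUnit _ (isUnit_one : IsUnit (1 : Γ(X, ⊤)))]
      | succ n => rw [Scheme.basicOpen_pow _ _ n.succ_pos]
    have h3 : X.basicOpen s' ≤ X.basicOpen r := X.basicOpen_le s'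
    rw [inf_eq_left.mpr (le_inf h3 (h3.trans h2))] at h1
    rw [Scheme.basicOpen_mul, h1, inf_comm]
  refine ⟨a * r, ?_, ?_⟩ <;> rw [hbs]
  · have h := (Scheme.Hom.isAffineOpen_iff_of_isOpenImmersion (X.basicOpen r).ι).mpr hs
    rwa [hs']
  · rw [hs']
    exact ⟨⟨x, hxr⟩, hxs, rfl⟩

/-- If `h : U ⟶ W` with `W` quasi-affine and `U` compact, and preimages of affine opens of `W` are
quasi-affine, then `U` is quasi-affine. -/
lemma isQuasiAffine_of_preimage (h : X ⟶ Y) [CompactSpace X] [Y.IsQuasiAffine]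
    (H : ∀ V : Y.Opens, IsAffineOpen V → (h ⁻¹ᵁ V : Scheme.{u}).IsQuasiAffine) : X.IsQuasiAffine := by
  refine isQuasiAffine_of_basicOpen_cover fun x => ?_
  obtain ⟨_, ⟨_, ⟨r, hr, rfl⟩, rfl⟩, hxr, -⟩ :=
    (Scheme.IsQuasiAffine.isBasis_basicOpen Y).exists_subset_of_mem_open (Set.mem_univ (h x)) isOpen_univ
  refine ⟨h.appTop r, ?_, ?_⟩ <;> rw [← Scheme.preimage_basicOpen_top]
  · exact hxr
  · exact H _ hr

variable {f : X ⟶ Y} {g : Y ⟶ Z}

lemma isIndQuasiAffineHom_def : MoreMor.IsIndQuasiAffineHom f ↔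
    ∀ V : Y.Opens, IsAffineOpen V → ∀ U : X.Opens, U ≤ f ⁻¹ᵁ V → IsCompact (U : Set X) →
      (U : Scheme.{u}).IsQuasiAffine := by
  constructor
  · intro H V hV U hUV hU
    have hc : IsCompact (((f ⁻¹ᵁ V).ι ⁻¹ᵁ U : (f ⁻¹ᵁ V : Scheme.{u}).Opens) : Set (f ⁻¹ᵁ V : Scheme.{u})) := by
      rw [(f ⁻¹ᵁ V).ι.isOpenEmbedding.isInducing.isCompact_iff, Scheme.Hom.coe_preimage,
        Set.image_preimage_eq_inter_range, Scheme.Opens.range_ι]
      rwa [Set.inter_eq_left.mpr hUV]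
    have := H V hV _ hc
    exact .of_isAffineHom (IsOpenImmersion.isoOfRangeEq U.ι (((f ⁻¹ᵁ V).ι ⁻¹ᵁ U).ι ≫ (f ⁻¹ᵁ V).ι)
      (by
        rw [Scheme.Hom.comp_base, TopCat.coe_comp, Set.range_comp, Scheme.Opens.range_ι,
          Scheme.Opens.range_ι, Scheme.Hom.coe_preimage, Set.image_preimage_eq_inter_range,
          Scheme.Opens.range_ι, Set.inter_eq_left.mpr hUV])).hom
  · intro H V hV U hU
    have hle : (f ⁻¹ᵁ V).ι ''ᵁ U ≤ f ⁻¹ᵁ V := by
      rintro _ ⟨y, -, rfl⟩; exact y.2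
    have := H V hV _ hle (hU.image (f ⁻¹ᵁ V).ι.continuous)
    exact .of_isAffineHom ((f ⁻¹ᵁ V).ι.isoImage U).hom

lemma isIndQuasiAffineHom_of_isImmersion [IsImmersion f] : MoreMor.IsIndQuasiAffineHom f := by
  rw [isIndQuasiAffineHom_def]
  intro V hV U hUV hU
  have : CompactSpace (U : Scheme.{u}) := isCompact_iff_compactSpace.mp hU
  have : IsAffine (V : Scheme.{u}) := hV
  have h : IsImmersion (f.resLE V U hUV ≫ V.ι) := by rw [Scheme.Hom.resLE_comp_ι]; infer_instance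
  have : IsImmersion (f.resLE V U hUV) := IsImmersion.of_comp _ V.ι
  exact .of_isImmersion (f.resLE V U hUV)

lemma isIndQuasiAffineHom_of_isQuasiAffineHom (hf : MoreMor.IsQuasiAffineHom f) :
    MoreMor.IsIndQuasiAffineHom f := by
  rw [isIndQuasiAffineHom_def]
  intro V hV U hUV hU
  have := hf.2 V hV
  exact isQuasiAffine_of_le hUV hU

/-- The `resLE` of an ind-quasi-affine morphism to a qcqs open is quasi-affine. -/
lemma isQuasiAffineHom_resLE (hf : MoreMor.IsIndQuasiAffineHom f) {V : Y.Opens}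
    (hV' : IsQuasiSeparated (V : Set Y)) {U : X.Opens} (hUV : U ≤ f ⁻¹ᵁ V) (hU : IsCompact (U : Set X)) :
    MoreMor.IsQuasiAffineHom (f.resLE V U hUV) := by
  rw [isIndQuasiAffineHom_def] at hf
  have : CompactSpace (U : Scheme.{u}) := isCompact_iff_compactSpace.mp hU
  have : QuasiSeparatedSpace (V : Scheme.{u}) := (isQuasiSeparated_iff_quasiSeparatedSpace _ V.2).mp hV'
  have hqc : QuasiCompact (f.resLE V U hUV) := inferInstance
  refine ⟨hqc, fun W hW => ?_⟩
  have hc := (f.resLE V U hUV).isCompact_preimage hW.isCompact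
  have hWi : IsAffineOpen (V.ι ''ᵁ W) := hW.image_of_isOpenImmersion V.ι
  have hle : U.ι ''ᵁ (f.resLE V U hUV ⁻¹ᵁ W) ≤ f ⁻¹ᵁ (V.ι ''ᵁ W) := by
    rintro _ ⟨y, hy, rfl⟩
    refine ⟨f.resLE V U hUV y, hy, ?_⟩
    exact congr(($(f.resLE_comp_ι hUV) : (U : Scheme.{u}) ⟶ Y) y)
  have := hf _ hWi _ hle (hc.image U.ι.continuous)
  exact .of_isAffineHom (U.ι.isoImage (f.resLE V U hUV ⁻¹ᵁ W)).hom

lemma isIndQuasiAffineHom_iff_qcqs : MoreMor.IsIndQuasiAffineHom f ↔
    ∀ (V : Y.Opens), IsCompact (V : Set Y) → IsQuasiSeparated (V : Set Y) →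
      ∀ (U : X.Opens) (hUV : U ≤ f ⁻¹ᵁ V), IsCompact (U : Set X) →
        MoreMor.IsQuasiAffineHom (f.resLE V U hUV) := by
  refine ⟨fun hf V _ hV U hUV hU => isQuasiAffineHom_resLE hf hV hUV hU, fun H => ?_⟩
  rw [isIndQuasiAffineHom_def]
  intro V hV U hUV hU
  have : IsAffine (V : Scheme.{u}) := hV
  have := (H V hV.isCompact hV.isQuasiSeparated U hUV hU).2 ⊤ (isAffineOpen_top _)
  rw [Scheme.Hom.preimage_top] at this
  exact .of_isAffineHom (U : Scheme.{u}).topIso.inv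

/-- A compact set inside an open is contained in a compact open inside it. -/
lemma exists_isCompact_open_between {K : Set X} (hK : IsCompact K) {W : X.Opens} (h : K ⊆ W) :
    ∃ W' : X.Opens, W' ≤ W ∧ K ⊆ W' ∧ IsCompact (W' : Set X) := by
  classical
  have : ∀ x ∈ K, ∃ V : X.Opens, IsAffineOpen V ∧ x ∈ V ∧ V ≤ W := fun x hx => by
    obtain ⟨_, ⟨V, hV, rfl⟩, hxV, hVW⟩ := X.isBasis_affineOpens.exists_subset_of_mem_open (h hx) W.2
    exact ⟨V, hV, hxV, hVW⟩
  choose V hV hxV hVW using this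
  obtain ⟨s, hs⟩ := hK.elim_finite_subcover (fun x : K => (V x.1 x.2 : Set X)) (fun x => (V _ _).2)
    (fun x hx => Set.mem_iUnion.mpr ⟨⟨x, hx⟩, hxV x hx⟩)
  refine ⟨s.sup fun x => V x.1 x.2, Finset.sup_le fun x _ => hVW _ _, ?_, ?_⟩
  · intro x hx
    obtain ⟨i, hi, hxi⟩ := Set.mem_iUnion₂.mp (hs hx)
    exact (Finset.le_sup (f := fun x : K => V x.1 x.2) hi) hxi
  · rw [Opens.coe_finset_sup, Finset.sup_eq_iSup]
    exact s.isCompact_biUnion fun x _ => (hV _ _).isCompact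

lemma isIndQuasiAffineHom_comp (hf : MoreMor.IsIndQuasiAffineHom f)
    (hg : MoreMor.IsIndQuasiAffineHom g) : MoreMor.IsIndQuasiAffineHom (f ≫ g) := by
  rw [isIndQuasiAffineHom_def] at hg ⊢
  intro V hV U hUV hU
  obtain ⟨W, hWV, hUW, hW⟩ := exists_isCompact_open_between (hU.image f.continuous)
    (W := g ⁻¹ᵁ V) (by rintro _ ⟨x, hx, rfl⟩; exact hUV hx)
  have := hg V hV W hWV hW
  have hUW' : U ≤ f ⁻¹ᵁ W := fun x hx => hUW ⟨x, hx, rfl⟩
  have hWq : IsQuasiSeparated (W : Set Y) :=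
    (isQuasiSeparated_iff_quasiSeparatedSpace _ W.2).mpr
      (inferInstanceAs (QuasiSeparatedSpace (W : Scheme.{u})))
  have hr := isQuasiAffineHom_resLE hf hWq hUW' hU
  have : CompactSpace (U : Scheme.{u}) := isCompact_iff_compactSpace.mp hU
  exact isQuasiAffine_of_preimage (f.resLE W U hUW') hr.2

lemma isIndQuasiAffineHom_baseChange {X' Y' : Scheme.{u}} {f' : X' ⟶ Y'} {g' : X' ⟶ X} {g : Y' ⟶ Y}
    (hc : IsPullback g' f' f g) (hf : MoreMor.IsIndQuasiAffineHom f) :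
    MoreMor.IsIndQuasiAffineHom f' := by
  rw [isIndQuasiAffineHom_def] at hf ⊢
  intro V' hV' U' hUV' hU'
  have : CompactSpace (U' : Scheme.{u}) := isCompact_iff_compactSpace.mp hU'
  have : IsAffine (V' : Scheme.{u}) := hV'
  refine isQuasiAffine_of_basicOpen_cover fun x => ?_
  obtain ⟨V, hV, hxV⟩ : ∃ V : Y.Opens, IsAffineOpen V ∧ g (f' x.1) ∈ V := by
    obtain ⟨_, ⟨V, hV, rfl⟩, hxV, -⟩ :=
      Y.isBasis_affineOpens.exists_subset_of_mem_open (Set.mem_univ (g (f' x.1))) isOpen_univ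
    exact ⟨V, hV, hxV⟩
  obtain ⟨r, hrV, hxr⟩ := hV'.exists_basicOpen_le (V := g ⁻¹ᵁ V) ⟨f' x.1, hxV⟩ (hUV' x.2)
  let ρ : Γ(U', ⊤) := (U'.ι.appIso ⊤).hom
    (X'.presheaf.map (eqToHom U'.ι_image_top).op (f'.appLE V' U' hUV' r))
  have hρ : U'.ι ''ᵁ (U' : Scheme.{u}).basicOpen ρ = U' ⊓ f' ⁻¹ᵁ (Y'.basicOpen r) := by
    rw [Scheme.image_basicOpen, ← Scheme.basicOpen_appLE f' U' V' hUV' r]
    simp only [ρ]
    erw [← CommRingCat.comp_apply ((U'.ι.appIso ⊤).hom) ((U'.ι.appIso ⊤).inv), Iso.hom_inv_id,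
      CommRingCat.id_apply]
    exact Scheme.basicOpen_res_eq ..
  refine ⟨ρ, ?_, ?_⟩
  · have : (U'.ι x) ∈ U'.ι ''ᵁ (U' : Scheme.{u}).basicOpen ρ := by
      rw [hρ]; exact ⟨x.2, hxr⟩
    obtain ⟨y, hy, e⟩ := this
    rwa [← U'.ι.isOpenEmbedding.injective e]
  let D := Y'.basicOpen r
  have hD : IsAffineOpen D := hV'.basicOpen r
  let U'' : X'.Opens := U'.ι ''ᵁ (U' : Scheme.{u}).basicOpen ρ
  suffices (U'' : Scheme.{u}).IsQuasiAffine from
    .of_isAffineHom (U'.ι.isoImage ((U' : Scheme.{u}).basicOpen ρ)).hom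
  have hU'' : IsCompact (U'' : Set X') := by
    have : QuasiCompact (f'.resLE V' U' hUV') := inferInstance
    have hc := (f'.resLE V' U' hUV').isCompact_preimage
      ((hD.preimage_of_isOpenImmersion V'.ι (by simpa using Y'.basicOpen_le r))).isCompact
    have := hc.image U'.ι.continuous
    convert this
    show _ = (U'.ι ''ᵁ (f'.resLE V' U' hUV' ⁻¹ᵁ (V'.ι ⁻¹ᵁ D)) : Set X')
    simp only [U'', hρ]
    congr 1
    rw [← Scheme.Hom.comp_preimage, Scheme.Hom.resLE_comp_ι, Scheme.Hom.comp_preimage,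
      Scheme.Hom.image_preimage_eq_opensRange_inf, Scheme.Opens.opensRange_ι]
  have hle : U'' ≤ f' ⁻¹ᵁ D := by simp only [U'', hρ]; exact inf_le_right
  obtain ⟨W, hWV, hW'', hW⟩ := exists_isCompact_open_between (hU''.image g'.continuous)
    (W := f ⁻¹ᵁ V) (by
      rintro _ ⟨y, hy, rfl⟩
      show f (g' y) ∈ V
      rw [← Scheme.Hom.comp_apply, hc.w, Scheme.Hom.comp_apply]
      exact hrV (hle hy))
  have := hf V hV W hWV hW
  have : IsAffine (V : Scheme.{u}) := hV
  have : IsAffine (D : Scheme.{u}) := hD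
  let P := pullback (f.resLE V W hWV) (g.resLE V D hrV)
  have : IsAffineHom (g.resLE V D hrV) := inferInstance
  have : IsAffineHom (pullback.fst (f.resLE V W hWV) (g.resLE V D hrV)) :=
    MorphismProperty.of_isPullback (IsPullback.of_hasPullback _ _).flip this
  have : P.IsQuasiAffine := .of_isAffineHom (pullback.fst (f.resLE V W hWV) (g.resLE V D hrV))
  let j : (U'' : Scheme.{u}) ⟶ P := pullback.lift
    (g'.resLE W U'' (fun y hy => hW'' ⟨y, hy, rfl⟩)) (f'.resLE D U'' hle)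
    (by
      rw [← cancel_mono V.ι, Category.assoc, Category.assoc, Scheme.Hom.resLE_comp_ι,
        Scheme.Hom.resLE_comp_ι]
      try rw [Scheme.Hom.resLE_comp_ι]
      erw [Scheme.Hom.resLE_comp_ι_assoc, Scheme.Hom.resLE_comp_ι_assoc]
      rw [hc.w])
  let k : P ⟶ X' := hc.lift (pullback.fst _ _ ≫ W.ι) (pullback.snd _ _ ≫ D.ι) (by
    simp only [Category.assoc]
    rw [← Scheme.Hom.resLE_comp_ι f hWV, ← Scheme.Hom.resLE_comp_ι g hrV, pullback.condition_assoc])
  have hjk : j ≫ k = U''.ι := by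
    apply hc.hom_ext
    · rw [Category.assoc, hc.lift_fst, pullback.lift_fst_assoc]; erw [Scheme.Hom.resLE_comp_ι]
    · rw [Category.assoc, hc.lift_snd, pullback.lift_snd_assoc]; erw [Scheme.Hom.resLE_comp_ι]
  have hmono : Mono k := ⟨fun {Z} a b hab => by
    apply pullback.hom_ext
    · rw [← cancel_mono W.ι]
      simpa [k] using congr($hab ≫ g')
    · rw [← cancel_mono D.ι]
      simpa [k] using congr($hab ≫ f')⟩
  have : IsImmersion (j ≫ k) := by rw [hjk]; infer_instance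
  have : IsImmersion j := IsImmersion.of_comp j k
  have : CompactSpace (U'' : Scheme.{u}) := isCompact_iff_compactSpace.mp hU''
  exact .of_isImmersion j

lemma isIndQuasiAffineHom_of_comp (h : MoreMor.IsIndQuasiAffineHom (f ≫ g)) :
    MoreMor.IsIndQuasiAffineHom f := by
  let l : X ⟶ pullback (f ≫ g) g := pullback.lift (𝟙 X) f (by simp)
  have : IsImmersion (l ≫ pullback.fst (f ≫ g) g) := by simp only [l, pullback.lift_fst]; infer_instance
  have : IsImmersion l := IsImmersion.of_comp l (pullback.fst (f ≫ g) g)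
  have e : l ≫ pullback.snd (f ≫ g) g = f := pullback.lift_snd _ _ _
  rw [← e]
  exact isIndQuasiAffineHom_comp isIndQuasiAffineHom_of_isImmersion
    (isIndQuasiAffineHom_baseChange (IsPullback.of_hasPullback _ _) h)

lemma isIndQuasiAffineHom_of_separated_locallyQuasiFinite [IsSeparated f] [LocallyQuasiFinite f]
    [LocallyOfFiniteType f] : MoreMor.IsIndQuasiAffineHom f := by
  rw [isIndQuasiAffineHom_def]
  intro V hV U hUV hU
  have : CompactSpace (U : Scheme.{u}) := isCompact_iff_compactSpace.mp hU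
  have : IsAffine (V : Scheme.{u}) := hV
  let h := f.resLE V U hUV
  have : IsSeparated h := by
    have : IsSeparated (h ≫ V.ι) := by simp only [h, Scheme.Hom.resLE_comp_ι]; infer_instance
    exact IsSeparated.of_comp h V.ι
  have : QuasiCompact h := inferInstance
  have : IsAffine h.normalization := isAffine_of_isAffineHom h.fromNormalization
  exact .of_isImmersion h.toNormalization

end Groth.FlatMor2
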