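import Groth.Prelude.Def_Hens2
import Groth.Agent.FlatMor2.Deform
import Groth.Agent.HTopHyper.ResidueIso
import Mathlib.AlgebraicGeometry.ZariskisMainTheorem

/-!
# Étale localization of quasi-finite morphisms: finite pieces
-/

universe u

open AlgebraicGeometry CategoryTheory Limits TensorProduct

namespace Groth.FlatMor2

lemma isPreimmersion_residue_bijective {X Y : Scheme.{u}} (f : X ⟶ Y) [IsPreimmersion f] (x : X) :
    Function.Bijective (f.residueFieldMap x) := by
  have := isIso_residueFieldMap_of_surjectiveOnStalks f x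
  exact ConcreteCategory.bijective_of_isIso _

/-- Base change by a morphism which is trivial on residue fields at `y` does not change the fiber
at `y`, nor the residue fields of its points. -/
lemma fiber_of_bijective_residueFieldMap {P X Y Z : Scheme.{u}} {a : P ⟶ X} {b : P ⟶ Y} {f : X ⟶ Z}
    {k : Y ⟶ Z} (h : IsPullback a b f k) (y : Y) (hk : Function.Bijective (k.residueFieldMap y)) :
    (∀ w, b w = y → Function.Bijective (a.residueFieldMap w)) ∧ Set.InjOn a (b ⁻¹' {y}) ∧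
      ∀ x, f x = k y → ∃ w, b w = y ∧ a w = x := by
  have : IsIso (k.residueFieldMap y) := (ConcreteCategory.isIso_iff_bijective _).mpr hk
  have hb := isPullback_fiberToSpecResidueField_of_isPullback h y
  have := hb.isIso_fst_of_isIso
  let M : b.fiber y ⟶ f.fiber (k y) :=
    pullback.map b (Y.fromSpecResidueField y) f (Z.fromSpecResidueField (k y)) a
      (Spec.map (k.residueFieldMap y)) k h.w.symm (by simp)
  have : IsIso M := ‹_›
  have hM : b.fiberι y ≫ a = M ≫ f.fiberι (k y) := (pullback.lift_fst _ _ _).symm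
  have : IsPreimmersion (b.fiberι y ≫ a) := by rw [hM]; infer_instance
  refine ⟨fun w hw => ?_, fun w hw w' hw' e => ?_, fun x hx => ?_⟩
  · obtain ⟨z, rfl⟩ : w ∈ Set.range (b.fiberι y) := (b.range_fiberι y).symm ▸ hw
    have h1 := isPreimmersion_residue_bijective (b.fiberι y ≫ a) z
    rw [Scheme.residueFieldMap_comp] at h1
    exact ((isPreimmersion_residue_bijective (b.fiberι y) z).of_comp_iff'
      (a.residueFieldMap (b.fiberι y z))).mp h1
  · obtain ⟨z, rfl⟩ : w ∈ Set.range (b.fiberι y) := (b.range_fiberι y).symm ▸ hw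
    obtain ⟨z', rfl⟩ : w' ∈ Set.range (b.fiberι y) := (b.range_fiberι y).symm ▸ hw'
    have : z = z' := (b.fiberι y ≫ a).isEmbedding.injective (by simpa using e)
    rw [this]
  · obtain ⟨z, hz⟩ : x ∈ Set.range (f.fiberι (k y)) := (f.range_fiberι (k y)).symm ▸ hx
    obtain ⟨z', rfl⟩ := M.surjective z
    refine ⟨b.fiberι y z', (Set.ext_iff.mp (b.range_fiberι y) _).mp ⟨z', rfl⟩, ?_⟩
    rw [← hz, ← Scheme.Hom.comp_apply, hM, Scheme.Hom.comp_apply]

variable {X S : Scheme.{u}} (f : X ⟶ S)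

/-- An open of `X ×ₛ U` finite over `U` whose only point over `u` maps to `x`. -/
def HasFiniteNbhd {U : Scheme.{u}} (g : U ⟶ S) (u : U) (x : X) : Prop :=
  ∃ V : (pullback f g).Opens, IsFinite (V.ι ≫ pullback.snd f g) ∧
    (∀ w : ↑(pullback f g), w ∈ V → pullback.snd f g w = u → pullback.fst f g w = x) ∧
    ∃ v, v ∈ V ∧ pullback.snd f g v = u ∧ pullback.fst f g v = x

variable {f}

lemma HasFiniteNbhd.data {U : Scheme.{u}} {g : U ⟶ S} {u : U} {x : X}
    (hg : Function.Bijective (g.residueFieldMap u)) (h : HasFiniteNbhd f g u x) :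
    ∃ (V : (pullback f g).Opens) (v : ↑(pullback f g)), v ∈ V ∧ IsFinite (V.ι ≫ pullback.snd f g) ∧
      pullback.snd f g v = u ∧ (∀ w : ↑(pullback f g), w ∈ V → pullback.snd f g w = u → w = v) ∧
      pullback.fst f g v = x ∧ Function.Bijective ((pullback.fst f g).residueFieldMap v) := by
  obtain ⟨V, hfin, hu, v, hv, hvu, hvx⟩ := h
  obtain ⟨hres, hinj, -⟩ := fiber_of_bijective_residueFieldMap (IsPullback.of_hasPullback f g) u hg
  exact ⟨V, v, hv, hfin, hvu, fun w hw hwu => hinj hwu hvu ((hu w hw hwu).trans hvx.symm), hvx, hres v hvu⟩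

lemma HasFiniteNbhd.comp {U U' : Scheme.{u}} {g : U ⟶ S} (k : U' ⟶ U) {g' : U' ⟶ S} (hk : k ≫ g = g')
    {u' : U'} {x : X} (hk' : Function.Bijective (k.residueFieldMap u'))
    (h : HasFiniteNbhd f g (k u') x) : HasFiniteNbhd f g' u' x := by
  subst hk
  obtain ⟨V, hfin, hu, v, hv, hvu, hvx⟩ := h
  let π : pullback f (k ≫ g) ⟶ pullback f g :=
    pullback.lift (pullback.fst _ _) (pullback.snd _ _ ≫ k) (by rw [pullback.condition, Category.assoc])
  have hfst : π ≫ pullback.fst f g = pullback.fst f (k ≫ g) := pullback.lift_fst _ _ _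
  have hπ : IsPullback π (pullback.snd f (k ≫ g)) (pullback.snd f g) k :=
    IsPullback.of_right (hfst.symm ▸ IsPullback.of_hasPullback f (k ≫ g)) (pullback.lift_snd _ _ _)
      (IsPullback.of_hasPullback f g)
  refine ⟨π ⁻¹ᵁ V, ?_, fun w hw hwu => ?_, ?_⟩
  · exact MorphismProperty.of_isPullback
      ((isPullback_morphismRestrict π V).paste_vert hπ) hfin
  · rw [← hfst, Scheme.Hom.comp_apply]
    refine hu _ hw ?_
    rw [← hwu, ← Scheme.Hom.comp_apply, hπ.w, Scheme.Hom.comp_apply]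
  · obtain ⟨-, -, hex⟩ := fiber_of_bijective_residueFieldMap hπ u' hk'
    obtain ⟨w, hwu, hwv⟩ := hex v hvu
    exact ⟨w, (show π w ∈ V from hwv.symm ▸ hv), hwu, by rw [← hfst, Scheme.Hom.comp_apply, hwv, hvx]⟩

set_option backward.defeqAttrib.useBackward true in
set_option backward.isDefEq.respectTransparency false in
lemma exists_hasFiniteNbhd (f : X ⟶ S) [LocallyOfFiniteType f] (x : X) (hx : f.QuasiFiniteAt x) :
    ∃ (U : Scheme.{u}) (g : U ⟶ S) (u : U), Hens2.IsEtaleNbhd g u (f x) ∧ HasFiniteNbhd f g u x := by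
  obtain ⟨_, ⟨U, hU, rfl⟩, hxU, -⟩ := S.isBasis_affineOpens.exists_subset_of_mem_open
    (Set.mem_univ (f x)) isOpen_univ
  obtain ⟨_, ⟨V, hV, rfl⟩, hxV, hUV : V ≤ f ⁻¹ᵁ U⟩ :=
    X.isBasis_affineOpens.exists_subset_of_mem_open hxU (f ⁻¹ᵁ U).2
  have : (f.appLE U V hUV).hom.FiniteType := f.finiteType_appLE hU hV hUV
  algebraize [(f.appLE U V hUV).hom]
  have : (hV.primeIdealOf ⟨x, hxV⟩).asIdeal.LiesOver (hU.primeIdealOf ⟨f x, hxU⟩).asIdeal := by
    suffices hU.primeIdealOf ⟨f x, hxU⟩ = Spec.map (f.appLE U V hUV) (hV.primeIdealOf ⟨x, hxV⟩) from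
      ⟨congr(($this).1)⟩
    apply hU.isoSpec.inv.homeomorph.injective
    apply Subtype.ext
    simp only [IsAffineOpen.primeIdealOf, Scheme.Hom.homeomorph_apply,
      ← Scheme.Hom.comp_apply, ← Scheme.Opens.ι_apply, IsAffineOpen.isoSpec_hom]
    simp
  have : Algebra.QuasiFiniteAt Γ(S, U) (hV.primeIdealOf ⟨x, hxV⟩).asIdeal :=
    hx.quasiFiniteAt hV hU hUV hxV
  obtain ⟨R, _, _, _, P, _, _, e, _, P', _, _, hP', heP', hbij, hfinite, huniq⟩ :=
    Algebra.exists_etale_isIdempotentElem_forall_liesOver_eq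
    (hU.primeIdealOf ⟨f x, hxU⟩).asIdeal (hV.primeIdealOf ⟨x, hxV⟩).asIdeal
  have : (algebraMap R (Localization.Away e)).Finite := RingHom.finite_algebraMap.mpr hfinite
  let φ : Γ(S, U) ⟶ .of R := CommRingCat.ofHom <| algebraMap Γ(S, U) R
  have hφ : φ.hom.Etale := RingHom.etale_algebraMap.mpr ‹_›
  have : Etale (Spec.map φ) := HasRingHomProperty.Spec_iff.mpr hφ
  let e₁ : Spec (.of (R ⊗ Γ(X, V))) ≅ pullback (Spec.map (f.appLE U V hUV)) (Spec.map φ) :=
    (pullbackSpecIso _ _ _).symm ≪≫ pullbackSymmetry _ _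
  have he₁ : e₁.hom ≫ pullback.fst _ _ =
      Spec.map (CommRingCat.ofHom Algebra.TensorProduct.includeRight.toRingHom) := by
    dsimp [e₁, RingHom.algebraMap_toAlgebra]
    rw [Category.assoc, pullbackSymmetry_hom_comp_fst]
    exact pullbackSpecIso_inv_snd ..
  have he₂ : e₁.hom ≫ pullback.snd _ _ =
      Spec.map (CommRingCat.ofHom (algebraMap R (R ⊗[Γ(S, U)] Γ(X, V)))) := by
    dsimp [e₁, RingHom.algebraMap_toAlgebra]
    rw [Category.assoc, pullbackSymmetry_hom_comp_snd]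
    exact pullbackSpecIso_inv_fst ..
  let g : Spec (.of (R ⊗[Γ(S, U)] Γ(X, V))) ⟶ pullback f (Spec.map φ ≫ hU.fromSpec) :=
    e₁.hom ≫ pullback.map _ _ _ _ hV.fromSpec (𝟙 _) hU.fromSpec
      (IsAffineOpen.SpecMap_appLE_fromSpec ..) (by simp)
  have hgsnd : g ≫ pullback.snd f _ = Spec.map (CommRingCat.ofHom (algebraMap R _)) := by
    simp [g, ← he₂]
  let W₁ := g ''ᵁ PrimeSpectrum.basicOpen e
  have : IsFinite (W₁.ι ≫ pullback.snd f _) := by
    let ι : Spec (.of (Localization.Away e)) ⟶ pullback f (Spec.map φ ≫ hU.fromSpec) :=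
      Spec.map (CommRingCat.ofHom <| algebraMap _ _) ≫ g
    have : ι.opensRange = W₁ := by
      simp only [Scheme.Hom.opensRange_comp, ι, W₁]
      congr 1
      exact TopologicalSpace.Opens.ext <| PrimeSpectrum.localization_away_comap_range _ _
    rw [← this, ← MorphismProperty.cancel_left_of_respectsIso @IsFinite
      (Scheme.Hom.isoOpensRange _).hom]
    simpa [Scheme.Hom.isoOpensRange, ι, hgsnd, ← Spec.map_comp, IsFinite.SpecMap_iff]
  let u : Spec (.of R) := ⟨P, ‹_›⟩
  have hgu : (Spec.map φ ≫ hU.fromSpec) u = f x := by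
    dsimp [Spec.map_apply]
    convert! hU.fromSpec_primeIdealOf ⟨f x, hxU⟩
    exact PrimeSpectrum.ext (Ideal.over_def _ _).symm
  have hres : Function.Bijective ((Spec.map φ ≫ hU.fromSpec).residueFieldMap u) := by
    have : IsIso ((Spec.map φ).residueFieldMap u) := by
      refine (Groth.HTopHyper.residueFieldMap_isIso_iff φ u).mpr fun c => ?_
      obtain ⟨z, hz⟩ := hbij.2 (algebraMap R P.ResidueField c)
      let p := (hU.primeIdealOf ⟨f x, hxU⟩).asIdeal
      obtain ⟨⟨a, t, ht⟩, hat⟩ := IsLocalization.surj (nonZeroDivisors (Γ(S, U) ⧸ p)) z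
      obtain ⟨a, rfl⟩ := Ideal.Quotient.mk_surjective a
      obtain ⟨t, rfl⟩ := Ideal.Quotient.mk_surjective t
      rw [Ideal.algebraMap_quotient_residueField_mk, Ideal.algebraMap_quotient_residueField_mk] at hat
      refine ⟨a, t, fun h => nonZeroDivisors.ne_zero ht ?_, ?_⟩
      · rw [Ideal.Quotient.eq_zero_iff_mem, Ideal.over_def P p]
        exact h
      · show φ.hom t * c - φ.hom a ∈ P
        rw [← Ideal.algebraMap_residueField_eq_zero, map_sub, map_mul, sub_eq_zero]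
        have h := congrArg (Ideal.ResidueField.mapₐ p P (Algebra.ofId _ _) (P.over_def p)) hat
        rw [map_mul, hz] at h
        simp only [Ideal.ResidueField.mapₐ_apply, Ideal.ResidueField.map_algebraMap] at h
        rw [mul_comm]
        exact h
    have : IsIso (hU.fromSpec.residueFieldMap (Spec.map φ u)) :=
      isIso_residueFieldMap_of_surjectiveOnStalks _ _
    rw [Scheme.residueFieldMap_comp]
    exact ConcreteCategory.bijective_of_isIso _
  have hfst : ∀ Q : Spec (.of (R ⊗[Γ(S, U)] Γ(X, V))), Q.asIdeal = P' →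
      pullback.fst f (Spec.map φ ≫ hU.fromSpec) (g Q) = x := by
    intro Q hQ
    obtain rfl : Q = ⟨P', ‹_›⟩ := PrimeSpectrum.ext hQ
    trans hV.fromSpec ⟨P'.comap Algebra.TensorProduct.includeRight.toRingHom, inferInstance⟩
    · simp [← Scheme.Hom.comp_apply, -Scheme.Hom.comp_base, g, reassoc_of% he₁]; rfl
    convert! hV.fromSpec_primeIdealOf ⟨x, hxV⟩
  refine ⟨_, _, u, ⟨inferInstance, hgu, hres⟩, W₁, ‹_›, ?_, g ⟨P', ‹_›⟩, ⟨⟨P', ‹_›⟩, heP', rfl⟩, ?_,
    hfst _ rfl⟩
  · rintro w ⟨Q, hQ, rfl⟩ hw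
    refine hfst Q (huniq _ Q.isPrime ⟨?_⟩ hQ)
    have hw' : (g ≫ pullback.snd f (Spec.map φ ≫ hU.fromSpec)) Q = u := hw
    rw [hgsnd] at hw'
    exact (congrArg PrimeSpectrum.asIdeal hw').symm
  · rw [← Scheme.Hom.comp_apply, hgsnd]
    exact PrimeSpectrum.ext (Ideal.over_def P' P).symm

lemma exists_common_nbhd (f : X ⟶ S) [LocallyOfFiniteType f] (s : S) {ι : Type} [Finite ι]
    (x : ι → ↑X) (hs : ∀ i, f (x i) = s) (hx : ∀ i, f.QuasiFiniteAt (x i)) :
    ∃ (U : Scheme.{u}) (g : U ⟶ S) (u : U), Hens2.IsEtaleNbhd g u s ∧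
      ∀ i, HasFiniteNbhd f g u (x i) := by
  classical
  cases nonempty_fintype ι
  suffices ∀ t : Finset ι, ∃ (U : Scheme.{u}) (g : U ⟶ S) (u : U), Hens2.IsEtaleNbhd g u s ∧
      ∀ i ∈ t, HasFiniteNbhd f g u (x i) by
    simpa using this Finset.univ
  intro t
  induction t using Finset.induction_on with
  | empty =>
    exact ⟨S, 𝟙 S, s, ⟨inferInstance, rfl, isPreimmersion_residue_bijective _ s⟩, by simp⟩
  | insert i t hit ih =>
    obtain ⟨U, g, u, ⟨hg, rfl, hgu⟩, ht⟩ := ih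
    obtain ⟨U₁, g₁, u₁, ⟨hg₁, hu₁, hgu₁⟩, hi⟩ := exists_hasFiniteNbhd f (x i) (hx i)
    have hpb := IsPullback.of_hasPullback g g₁
    obtain ⟨hres, -, hex⟩ := fiber_of_bijective_residueFieldMap hpb u₁ hgu₁
    obtain ⟨w, hw₁, hw⟩ := hex u (by rw [hu₁]; exact (hs i).symm)
    have hfst := hres w hw₁
    subst hw₁ hw
    have hcomp : Function.Bijective ((pullback.fst g g₁ ≫ g).residueFieldMap w) := by
      rw [Scheme.residueFieldMap_comp]
      exact hfst.comp hgu
    have hsnd : Function.Bijective ((pullback.snd g g₁).residueFieldMap w) :=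
      (fiber_of_bijective_residueFieldMap hpb.flip _ hgu).1 w rfl
    refine ⟨pullback g g₁, pullback.fst g g₁ ≫ g, w, ⟨?_, rfl, hcomp⟩, fun j hj => ?_⟩
    · infer_instance
    rcases Finset.mem_insert.mp hj with rfl | hj
    · exact hi.comp (pullback.snd g g₁) pullback.condition.symm hsnd
    · exact (ht j hj).comp (pullback.fst g g₁) rfl hfst

end Groth.FlatMor2
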