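import Groth.Agent.FlatMor2.Deform
import Groth.Agent.SpectralTopology.FpCancel
import Groth.Agent.FlatMor2.FibCrit.Nilpotent

/-!
# Deformations along arbitrary thickenings, finitely presented case
-/

universe u

open AlgebraicGeometry CategoryTheory Limits TensorProduct

namespace Groth.FlatMor2

set_option linter.style.haveILetI false

variable {A B C D : CommRingCat.{u}} {φ : A ⟶ B} {π : A ⟶ C} {ρ : B ⟶ D} {ψ : C ⟶ D}

/-- Flatness lifts along a locally nilpotent deformation of finitely presented algebras. -/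
lemma flat_of_isPushout_locallyNilpotent (H : IsPushout φ π ρ ψ) (hπ : Function.Surjective π)
    {A₀ : Type u} [CommRing A₀] (a : A₀ →+* A) (I : Ideal A₀) (hI : I ≤ nilradical A₀)
    (hker : RingHom.ker π.hom = I.map a) (haft : a.FiniteType)
    (hfp : (φ.hom.comp a).FinitePresentation) (ha : (φ.hom.comp a).Flat) (hψ : ψ.hom.Flat) :
    φ.hom.Flat := by
  algebraize [a, φ.hom, φ.hom.comp a, π.hom, ρ.hom, ψ.hom, ψ.hom.comp π.hom]
  have : IsScalarTower A B D := .of_algebraMap_eq fun x => (congr($(H.w) x)).symm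
  have : IsScalarTower A C D := .of_algebraMap_eq fun x => rfl
  have hp : Algebra.IsPushout A C B D :=
    Algebra.IsPushout.symm (CommRingCat.isPushout_iff_isPushout.mp H)
  have : Module.Flat C D := hψ
  have : Module.Flat C (C ⊗[A] B) :=
    .of_linearEquiv (Algebra.IsPushout.equiv A C B D).toLinearEquiv
  have : Module.Flat A₀ B := ha
  have : Algebra.FinitePresentation A₀ B := hfp
  have : Algebra.FiniteType A₀ A := haft
  let J := I.map (algebraMap A₀ A)
  have hJ : J = RingHom.ker (Algebra.ofId A C : A →ₐ[A] C) := hker.symm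
  let e : (A ⧸ J) ≃ₐ[A] C :=
    (Ideal.quotientEquivAlgOfEq A hJ).trans
      (Ideal.quotientKerAlgEquivOfSurjective (f := Algebra.ofId A C) hπ)
  letI : Algebra (A ⧸ J) C := e.toRingEquiv.toRingHom.toAlgebra
  haveI : IsScalarTower A (A ⧸ J) C := IsScalarTower.of_algebraMap_eq fun x => (e.commutes x).symm
  haveI : Module.Flat (A ⧸ J) (C ⊗[A] B) :=
    (FibCrit.flat_iff_of_bijective e.bijective).mpr inferInstance
  have h : Module.Flat (A ⧸ J) ((A ⧸ J) ⊗[A] B) := by
    let e' : (A ⧸ J) ⊗[A] B ≃ₗ[A] C ⊗[A] B :=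
      TensorProduct.congr e.toLinearEquiv (LinearEquiv.refl A B)
    refine FibCrit.flat_of_addEquiv e'.symm.toAddEquiv fun z m => ?_
    obtain ⟨z, rfl⟩ := Ideal.Quotient.mk_surjective z
    rw [← Ideal.Quotient.algebraMap_eq, algebraMap_smul, algebraMap_smul]
    exact map_smul e'.symm z m
  exact FibCrit.flat_of_locallyNilpotent (R := A₀) (S := A) (S' := B) (M := B) I
    (fun x hx => mem_nilradical.mp (hI hx)) h

variable {X X' Y Y' S S' : Scheme.{u}} {iX : X ⟶ X'} {iY : Y ⟶ Y'} {iS : S ⟶ S'}
  {f : X ⟶ Y} {f' : X' ⟶ Y'} {g : Y ⟶ S} {g' : Y' ⟶ S'}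

lemma flat_iff_deform_fp (hS : MoreMor.IsThickening iS)
    (hcX : IsPullback iX (f ≫ g) (f' ≫ g') iS) (hcY : IsPullback iY g g' iS)
    (w : iX ≫ f' = f ≫ iY) [Flat (f' ≫ g')] [LocallyOfFinitePresentation (f' ≫ g')]
    [LocallyOfFiniteType g'] : Flat f ↔ Flat f' := by
  have hc := deform_isPullback hcX hcY w
  refine ⟨fun hf => ?_, fun hf => MorphismProperty.of_isPullback hc inferInstance⟩
  have := hS.1
  have hY := isThickening_of_isPullback hS hcY
  have := hY.1
  have := isClosedImmersion_of_isPullback hc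
  rw [HasRingHomProperty.iff_exists_appLE (P := @Flat)
    (RingHom.Flat.stableUnderComposition.stableUnderCompositionWithLocalizationAway
      RingHom.Flat.holdsForLocalizationAway).left]
  intro x
  obtain ⟨W, V, U, hVW, hUV, hxU⟩ := exists_triple f' g' x
  refine ⟨V, U, hxU, hUV, flat_of_isPushout_locallyNilpotent (isPushout_app hc V.2 U.2 hUV)
    (iY.app_surjective V.1 V.2)
    (g'.appLE W.1 V.1 hVW).hom (iS.ker.ideal W) (ker_le_nilradical hS W)
    (ker_app_eq_map hcY W V hVW) (g'.finiteType_appLE W.2 V.2 hVW) ?_ (flat_comp_appLE hVW hUV)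
    (HasRingHomProperty.appLE (P := @Flat) f hf ⟨_, V.2.preimage iY⟩ ⟨_, U.2.preimage iX⟩ _)⟩
  rw [← CommRingCat.hom_comp, Scheme.Hom.appLE_comp_appLE]
  exact (f' ≫ g').finitePresentation_appLE W.2 U.2 _

lemma lfp_of_comp_lft [LocallyOfFinitePresentation (f' ≫ g')] [LocallyOfFiniteType g'] :
    LocallyOfFinitePresentation f' := by
  exact Groth.SpectralTopology.lfp_of_comp f' g'

lemma isOpenImmersion_iff_deform_fp (hS : MoreMor.IsThickening iS)
    (hcX : IsPullback iX (f ≫ g) (f' ≫ g') iS) (hcY : IsPullback iY g g' iS)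
    (w : iX ≫ f' = f ≫ iY) [Flat (f' ≫ g')] [LocallyOfFinitePresentation (f' ≫ g')]
    [LocallyOfFiniteType g'] : IsOpenImmersion f ↔ IsOpenImmersion f' := by
  have hc := deform_isPullback hcX hcY w
  refine ⟨fun hf => ?_, fun hf => MorphismProperty.of_isPullback hc inferInstance⟩
  have : Flat f' := (flat_iff_deform_fp hS hcX hcY w).mp inferInstance
  have : LocallyOfFinitePresentation f' := lfp_of_comp_lft (g' := g')
  have : Mono f' := (mono_iff_of_lft (isThickening_of_isPullback hS hcY) hc).mp inferInstance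
  exact IsOpenImmersion.of_flat_of_mono f'

lemma isIso_iff_deform_fp (hS : MoreMor.IsThickening iS)
    (hcX : IsPullback iX (f ≫ g) (f' ≫ g') iS) (hcY : IsPullback iY g g' iS)
    (w : iX ≫ f' = f ≫ iY) [Flat (f' ≫ g')] [LocallyOfFinitePresentation (f' ≫ g')]
    [LocallyOfFiniteType g'] : IsIso f ↔ IsIso f' := by
  have hc := deform_isPullback hcX hcY w
  refine ⟨fun hf => ?_, fun hf => hc.isIso_snd_of_isIso⟩
  have := (isOpenImmersion_iff_deform_fp hS hcX hcY w).mp inferInstance
  have := (isThickening_of_isPullback hS hcY).2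
  have : Surjective (iX ≫ f') := by rw [hc.w]; infer_instance
  have : Surjective f' := Surjective.of_comp iX f'
  exact (isIso_iff_isOpenImmersion_and_surjective _).mpr ⟨‹_›, ‹_›⟩

lemma smooth_iff_deform_fp (hS : MoreMor.IsThickening iS)
    (hcX : IsPullback iX (f ≫ g) (f' ≫ g') iS) (hcY : IsPullback iY g g' iS)
    (w : iX ≫ f' = f ≫ iY) [Flat (f' ≫ g')] [LocallyOfFinitePresentation (f' ≫ g')]
    [LocallyOfFiniteType g'] : Smooth f ↔ Smooth f' := by
  have hc := deform_isPullback hcX hcY w
  refine ⟨fun hf => ?_, fun hf => MorphismProperty.of_isPullback hc inferInstance⟩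
  have : Flat f' := (flat_iff_deform_fp hS hcX hcY w).mp inferInstance
  have : LocallyOfFinitePresentation f' := lfp_of_comp_lft (g' := g')
  have hY := isThickening_of_isPullback hS hcY
  have := hY.1
  refine Smooth.of_smooth_fiberToSpecResidueField f' fun y' => ?_
  obtain ⟨y, rfl⟩ := hY.2.surj y'
  have hb := isPullback_fiberToSpecResidueField_of_isPullback hc y
  have := isIso_residueFieldMap_of_surjectiveOnStalks iY y
  have := hb.isIso_fst_of_isIso
  have hsm : Smooth (f.fiberToSpecResidueField y) :=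
    MorphismProperty.of_isPullback (IsPullback.of_hasPullback f (Y.fromSpecResidueField y)) hf
  rw [← IsIso.inv_comp_eq _ |>.mpr hb.w.symm]
  have hbot : Smooth (Spec.map (iY.residueFieldMap y)) := inferInstance
  exact MorphismProperty.comp_mem _ _ _ inferInstance (MorphismProperty.comp_mem _ _ _ hsm hbot)

lemma etale_iff_deform_fp (hS : MoreMor.IsThickening iS)
    (hcX : IsPullback iX (f ≫ g) (f' ≫ g') iS) (hcY : IsPullback iY g g' iS)
    (w : iX ≫ f' = f ≫ iY) [Flat (f' ≫ g')] [LocallyOfFinitePresentation (f' ≫ g')]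
    [LocallyOfFiniteType g'] : Etale f ↔ Etale f' := by
  have hc := deform_isPullback hcX hcY w
  refine ⟨fun hf => ?_, fun hf => MorphismProperty.of_isPullback hc inferInstance⟩
  have : Flat f' := (flat_iff_deform_fp hS hcX hcY w).mp inferInstance
  have : LocallyOfFinitePresentation f' := lfp_of_comp_lft (g' := g')
  have : FormallyUnramified f' :=
    (formallyUnramified_iff_of_lft (isThickening_of_isPullback hS hcY) hc).mp inferInstance
  exact Etale.of_formallyUnramified_of_flat f'

end Groth.FlatMor2
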