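import Groth.Prelude.Def_MoreMor
import Mathlib.AlgebraicGeometry.ZariskisMainTheorem
import Mathlib.AlgebraicGeometry.Morphisms.QuasiFinite
import Mathlib.LinearAlgebra.Dimension.Constructions
import Mathlib.Topology.Connected.TotallyDisconnected
import Mathlib.Topology.Irreducible
import Mathlib.Data.Set.Card.Arithmetic

/-!
# Geometric fibres of locally quasi-finite morphisms
-/

universe u

open AlgebraicGeometry CategoryTheory Limits TensorProduct

namespace Groth.FlatMor2

lemma encard_irreducibleComponents_of_discrete (G : Type u) [TopologicalSpace G] [DiscreteTopology G] :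
    (irreducibleComponents G).encard = ENat.card G := by
  have h : irreducibleComponents G = Set.range fun x : G => ({x} : Set G) := by
    ext s
    constructor
    · intro hs
      obtain ⟨x, hx⟩ := hs.1.1
      exact ⟨x, (Set.Subsingleton.eq_singleton_of_mem (isPreirreducible_iff_subsingleton.mp hs.1.2) hx).symm⟩
    · rintro ⟨x, rfl⟩
      exact ⟨isIrreducible_singleton, fun t ht hxt => by
        obtain h := isPreirreducible_iff_subsingleton.mp ht.2
        exact fun y hy => h hy (hxt rfl)⟩
  rw [h, ← Set.image_univ, Set.InjOn.encard_image (Set.singleton_injective.injOn), Set.encard_univ]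

lemma card_connectedComponents_of_discrete (G : Type u) [TopologicalSpace G] [DiscreteTopology G] :
    ENat.card (_root_.ConnectedComponents G) = ENat.card G := by
  refine (ENat.card_congr (Equiv.ofBijective (ConnectedComponents.mk : G → _) ⟨fun x y h => ?_, Quotient.mk''_surjective⟩)).symm
  have := ConnectedComponents.coe_eq_coe.mp h
  rwa [connectedComponent_eq_singleton, connectedComponent_eq_singleton, Set.singleton_eq_singleton_iff] at this

lemma primeSpectrum_bound {K T : Type u} [Field K] [CommRing T] [Algebra K T] {n : ℕ} (g : Fin n → T)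
    (hg : Submodule.span K (Set.range g) = ⊤) : ENat.card (PrimeSpectrum T) ≤ n := by
  classical
  have : Module.Finite K T := ⟨hg ▸ Submodule.fg_span (Set.finite_range g)⟩
  have hmax : ∀ p : PrimeSpectrum T, p.asIdeal.IsMaximal := fun p =>
    Ideal.isMaximal_of_isIntegral_of_isMaximal_comap p.asIdeal
      (by rw [show p.asIdeal.comap (algebraMap K T) = ⊥ from Ideal.eq_bot_of_prime _]; exact Ideal.bot_isMaximal)
  rw [← Set.encard_univ]
  refine ENat.forall_natCast_le_iff_le.mp fun m hm => ?_
  obtain ⟨t, -, htm⟩ := Set.exists_subset_encard_eq hm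
  have := (Set.finite_of_encard_eq_coe htm).fintype
  have hsep : ∀ p q : t, p ≠ q → ∃ a ∈ q.1.asIdeal, a ∉ p.1.asIdeal := fun p q hpq => by
    by_contra! H
    exact hpq (Subtype.ext (PrimeSpectrum.ext ((hmax q.1).eq_of_le (hmax p.1).ne_top H).symm))
  choose! a ha ha' using hsep
  let e : t → T := fun p => ∏ q ∈ Finset.univ.erase p, a p q
  have he : ∀ p q : t, p ≠ q → e p ∈ q.1.asIdeal := fun p q hpq =>
    Ideal.prod_mem _ (Finset.mem_erase.mpr ⟨hpq.symm, Finset.mem_univ _⟩) (ha p q hpq)
  have he' : ∀ p : t, e p ∉ p.1.asIdeal := fun p h => by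
    obtain ⟨q, hq, hqp⟩ := (Ideal.IsPrime.prod_mem_iff (p := p.1.asIdeal)).mp h
    exact ha' p q (Finset.mem_erase.mp hq).1.symm hqp
  have hli : LinearIndependent K e := by
    rw [Fintype.linearIndependent_iff]
    intro c hc p
    by_contra hcp
    refine he' p ?_
    have h : c p • e p ∈ p.1.asIdeal := by
      have : c p • e p = - ∑ q ∈ Finset.univ.erase p, c q • e q := by
        rw [eq_neg_iff_add_eq_zero, Finset.add_sum_erase _ (fun q => c q • e q) (Finset.mem_univ p), hc]
      rw [this]
      exact neg_mem (Submodule.sum_mem _ fun q hq =>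
        Submodule.smul_of_tower_mem _ (c q) (he q p (Finset.mem_erase.mp hq).1))
    simpa [smul_smul, inv_mul_cancel₀ hcp] using Submodule.smul_of_tower_mem p.1.asIdeal (c p)⁻¹ h
  have h1 := hli.fintype_card_le_finrank
  have h2 : Module.finrank K T ≤ n := by
    simpa using finrank_le_of_span_eq_top hg
  rw [← htm, Set.encard_eq_coe_toFinset_card, Set.toFinset_card]
  exact_mod_cast h1.trans h2

lemma exists_bound_finite {A S : Type u} [CommRing A] [CommRing S] [Algebra A S] [Module.Finite A S] :
    ∃ n : ℕ, ∀ (K : Type u) [Field K] [Algebra A K], ENat.card (PrimeSpectrum (K ⊗[A] S)) ≤ n := by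
  obtain ⟨n, g, hg⟩ := Module.Finite.exists_fin (R := A) (M := S)
  refine ⟨n, fun K _ _ => primeSpectrum_bound (K := K) (fun i => (1 : K) ⊗ₜ[A] g i) (top_le_iff.mp ?_)⟩
  rintro z -
  induction z using TensorProduct.induction_on with
  | zero => exact zero_mem _
  | add x y hx hy => exact add_mem hx hy
  | tmul k s =>
    obtain ⟨c, rfl⟩ := (Submodule.mem_span_range_iff_exists_fun A).mp (hg ▸ Submodule.mem_top : s ∈ Submodule.span A (Set.range g))
    rw [tmul_sum]
    refine Submodule.sum_mem _ fun i _ => ?_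
    have : k ⊗ₜ[A] (c i • g i) = ((c i) • k) • ((1 : K) ⊗ₜ[A] g i) := by
      rw [smul_tmul', smul_eq_mul, mul_one, smul_tmul]
    rw [this]
    exact Submodule.smul_mem _ _ (Submodule.subset_span ⟨i, rfl⟩)

/-- A bound for the number of points in base changes to fields. -/
def BoundedFibres {T Y : Scheme.{u}} (h : T ⟶ Y) (n : ℕ) : Prop :=
  ∀ (K : Type u) [Field K] (k : Spec (CommRingCat.of K) ⟶ Y), ENat.card ↑(pullback h k) ≤ n

lemma BoundedFibres.comp_isOpenImmersion {T Z Y : Scheme.{u}} {h : Z ⟶ Y} {n : ℕ} (hb : BoundedFibres h n)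
    (q : T ⟶ Z) [IsOpenImmersion q] : BoundedFibres (q ≫ h) n := fun K _ k => by
  let m := pullback.map (q ≫ h) k h k q (𝟙 _) (𝟙 _) (by simp) (by simp)
  have : IsOpenImmersion m := by infer_instance
  exact le_trans (ENat.card_le_card_of_injective m.isOpenEmbedding.injective) (hb K k)

lemma exists_boundedFibres_finite {A S : CommRingCat.{u}} (φ : A ⟶ S) (hφ : φ.hom.Finite)
    {Y : Scheme.{u}} (i : Spec A ⟶ Y) [IsOpenImmersion i] : ∃ n, BoundedFibres (Spec.map φ ≫ i) n := by
  algebraize [φ.hom]
  obtain ⟨n, hn⟩ := exists_bound_finite (A := A) (S := S)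
  refine ⟨n, fun K _ k => ?_⟩
  by_cases hk : Set.range k ⊆ Set.range i
  · obtain ⟨ψ, hψ⟩ := Spec.map_surjective (IsOpenImmersion.lift i k hk)
    let := ψ.hom.toAlgebra
    have hb : IsPullback (Spec.map (CommRingCat.ofHom (Algebra.TensorProduct.includeRight : S →ₐ[A] K ⊗[A] S).toRingHom))
        (Spec.map (CommRingCat.ofHom (algebraMap K (K ⊗[A] S)))) (Spec.map φ) (Spec.map ψ) :=
      isPullback_SpecMap_of_isPushout _ _ _ _ (CommRingCat.isPushout_tensorProduct A K S).flip
    have hi : IsPullback (pullback.fst (Spec.map φ ≫ i) k) (pullback.snd (Spec.map φ ≫ i) k) (Spec.map φ) (Spec.map ψ) := by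
      refine IsPullback.of_isLimit (c := PullbackCone.mk _ _ (by
        rw [← cancel_mono i, Category.assoc, Category.assoc, hψ, IsOpenImmersion.lift_fac]; exact pullback.condition)) ?_
      refine PullbackCone.IsLimit.mk _ (fun s => pullback.lift s.fst s.snd (by
        rw [← Category.assoc, s.condition, Category.assoc]
        exact congrArg (s.snd ≫ ·) ((congrArg (· ≫ i) hψ).trans (IsOpenImmersion.lift_fac _ _ _))))
        (fun s => pullback.lift_fst _ _ _) (fun s => pullback.lift_snd _ _ _)
        (fun s m h1 h2 => pullback.hom_ext (by rw [pullback.lift_fst]; exact h1) (by rw [pullback.lift_snd]; exact h2))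
    rw [ENat.card_congr (hi.isoIsPullback _ _ hb).hom.homeomorph.toEquiv]
    exact hn K
  · have : IsEmpty ↑(pullback (Spec.map φ ≫ i) k) := ⟨fun z => hk fun p hp => by
      obtain ⟨q, rfl⟩ := hp
      obtain rfl : q = pullback.snd (Spec.map φ ≫ i) k z := Subsingleton.elim _ _
      rw [← Scheme.Hom.comp_apply, ← pullback.condition, Scheme.Hom.comp_apply, Scheme.Hom.comp_apply]
      exact ⟨_, rfl⟩⟩
    rw [ENat.card_eq_zero_iff_empty _ |>.mpr this]
    exact bot_le

lemma exists_bounded_nhd {X Y : Scheme.{u}} (f : X ⟶ Y) [LocallyQuasiFinite f] [LocallyOfFiniteType f] (x : X) :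
    ∃ (T : Scheme.{u}) (j : T ⟶ X) (n : ℕ), IsOpenImmersion j ∧ x ∈ Set.range j ∧ BoundedFibres (j ≫ f) n := by
  obtain ⟨_, ⟨U, hU, rfl⟩, hxU, -⟩ := Y.isBasis_affineOpens.exists_subset_of_mem_open
    (Set.mem_univ (f x)) isOpen_univ
  obtain ⟨_, ⟨V, hV, rfl⟩, hxV, hVU : V ≤ f ⁻¹ᵁ U⟩ :=
    X.isBasis_affineOpens.exists_subset_of_mem_open hxU (f ⁻¹ᵁ U).2
  have : (f.appLE U V hVU).hom.FiniteType := f.finiteType_appLE hU hV hVU
  algebraize [(f.appLE U V hVU).hom]
  have : Algebra.QuasiFiniteAt Γ(Y, U) (hV.primeIdealOf ⟨x, hxV⟩).asIdeal :=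
    (f.quasiFiniteAt x).quasiFiniteAt hV hU hVU hxV
  obtain ⟨S', hS', r, hr, hbij⟩ := Algebra.QuasiFiniteAt.exists_fg_and_exists_notMem_and_awayMap_bijective
    (R := Γ(Y, U)) (hV.primeIdealOf ⟨x, hxV⟩).asIdeal
  have : Module.Finite Γ(Y, U) S' := ⟨(Submodule.fg_top _).mpr hS'⟩
  let φ : Γ(Y, U) ⟶ CommRingCat.of S' := CommRingCat.ofHom (algebraMap Γ(Y, U) S')
  obtain ⟨n, hn⟩ := exists_boundedFibres_finite φ (RingHom.finite_algebraMap.mpr ‹_›) hU.fromSpec
  let aw : CommRingCat.of (Localization.Away r) ⟶ CommRingCat.of (Localization.Away r.1) :=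
    CommRingCat.ofHom (Localization.awayMap S'.val.toRingHom r)
  have : IsIso aw := (ConcreteCategory.isIso_iff_bijective aw).mpr hbij
  let q : Spec (CommRingCat.of (Localization.Away r.1)) ⟶ Spec (CommRingCat.of S') :=
    Spec.map aw ≫ Spec.map (CommRingCat.ofHom (algebraMap S' (Localization.Away r)))
  have : IsOpenImmersion (Spec.map (CommRingCat.ofHom (algebraMap S' (Localization.Away r)))) :=
    IsOpenImmersion.of_isLocalization r
  have : IsOpenImmersion (Spec.map (CommRingCat.ofHom (algebraMap Γ(X, V) (Localization.Away r.1)))) :=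
    IsOpenImmersion.of_isLocalization r.1
  let j := Spec.map (CommRingCat.ofHom (algebraMap Γ(X, V) (Localization.Away r.1))) ≫ hV.fromSpec
  have hj : IsOpenImmersion j := inferInstance
  refine ⟨_, j, n, hj, ?_, ?_⟩
  · obtain ⟨p, hp⟩ : hV.primeIdealOf ⟨x, hxV⟩ ∈ Set.range (PrimeSpectrum.comap (algebraMap Γ(X, V) (Localization.Away r.1))) := by
      rw [PrimeSpectrum.localization_away_comap_range _ r.1]; exact hr
    exact ⟨p, (congrArg hV.fromSpec hp).trans (hV.fromSpec_primeIdealOf _)⟩
  · have e : j ≫ f = q ≫ Spec.map φ ≫ hU.fromSpec := by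
      simp only [j, q, Category.assoc]
      rw [← IsAffineOpen.SpecMap_appLE_fromSpec f hU hV hVU]
      simp only [← Spec.map_comp_assoc]
      congr 2
      ext z
      simp [aw, φ, Localization.awayMap, IsLocalization.Away.map, RingHom.algebraMap_toAlgebra]
      exact (IsLocalization.map_eq (M := Submonoid.powers r) (S := Localization.Away r) (Q := Localization.Away r.1) (g := (S'.val : S' →+* Γ(X, V))) (T := Submonoid.powers r.1) _
        ((f.appLE U V hVU).hom.codRestrict S' _ z)).symm
    exact e ▸ hn.comp_isOpenImmersion q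

theorem nGeomConnComp_lqf {X Y : Scheme.{u}} (f : X ⟶ Y) [LocallyQuasiFinite f] [LocallyOfFiniteType f] :
    (∀ y : Y, MoreMor.nGeomIrredComp f y = MoreMor.nGeomConnComp f y) ∧
      (CompactSpace ↑X → ∃ d : ℕ, ∀ y : Y, MoreMor.nGeomConnComp f y ≤ d) := by
  classical
  have hdisc : ∀ y, DiscreteTopology ↑(MoreMor.geomFiber f y) := fun y => by
    let σ := Spec.map (CommRingCat.ofHom
      (algebraMap (Y.residueField y) (SeparableClosure (Y.residueField y))))
    have : LocallyQuasiFinite (f.fiberToSpecResidueField y) :=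
      MorphismProperty.of_isPullback (IsPullback.of_hasPullback f (Y.fromSpecResidueField y)) ‹_›
    have h : _root_.IsDiscrete ((pullback.snd (f.fiberToSpecResidueField y) σ) ⁻¹' {default}) :=
      Scheme.Hom.isDiscrete_preimage_singleton _ _
    have : (pullback.snd (f.fiberToSpecResidueField y) σ) ⁻¹' {default} = Set.univ :=
      Set.eq_univ_of_forall fun z => Subsingleton.elim _ _
    rw [this] at h
    exact isDiscrete_univ_iff.mp h
  refine ⟨fun y => ?_, fun _ => ?_⟩
  · have := hdisc y
    exact (encard_irreducibleComponents_of_discrete _).trans (card_connectedComponents_of_discrete _).symm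
  choose T j n hj hxj hb using exists_bounded_nhd f
  obtain ⟨t, ht⟩ := isCompact_univ.elim_finite_subcover (fun x => Set.range (j x))
    (fun x => (j x).isOpenEmbedding.isOpen_range) fun x _ => Set.mem_iUnion.mpr ⟨x, hxj x⟩
  refine ⟨∑ x ∈ t, n x, fun y => ?_⟩
  have := hdisc y
  refine (card_connectedComponents_of_discrete _).trans_le ?_
  let k := Spec.map (CommRingCat.ofHom
      (algebraMap (Y.residueField y) (SeparableClosure (Y.residueField y)))) ≫ Y.fromSpecResidueField y
  let e : MoreMor.geomFiber f y ≅ pullback f k := pullbackLeftPullbackSndIso f _ _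
  rw [ENat.card_congr e.hom.homeomorph.toEquiv, ← Set.encard_univ]
  let m := fun x => pullback.map (j x ≫ f) k f k (j x) (𝟙 _) (𝟙 _) (by simp) (by simp)
  have hcov : (Set.univ : Set ↑(pullback f k)) ⊆ ⋃ x ∈ t, Set.range (m x) := fun z _ => by
    obtain ⟨x, hx, w, hw⟩ := Set.mem_iUnion₂.mp (ht (Set.mem_univ (pullback.fst f k z)))
    refine Set.mem_iUnion₂.mpr ⟨x, hx, ?_⟩
    rw [Scheme.Pullback.range_map]
    exact ⟨⟨w, hw⟩, Set.mem_range.mpr ⟨_, rfl⟩⟩
  refine ((Set.encard_le_encard hcov).trans (t.set_encard_biUnion_le _)).trans ?_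
  push_cast
  refine Finset.sum_le_sum fun x _ => ?_
  rw [← Set.image_univ]
  exact ((Set.encard_image_le _ _).trans_eq (Set.encard_univ _)).trans (hb x _ k)

end Groth.FlatMor2
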