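import Groth.Agent.FlatMor2.IndQuasiAffine
import Groth.Agent.SpectralTopology.QuasiAffineDescent

/-!
# Fpqc descent for ind-quasi-affine morphisms
-/

universe u

open AlgebraicGeometry CategoryTheory Limits TopologicalSpace

namespace Groth.FlatMor2

lemma isIndQuasiAffineHom_of_fpqc {X S X' S' : Scheme.{u}} {f : X ⟶ S} {f' : X' ⟶ S'} {g' : X' ⟶ X}
    {g : S' ⟶ S} [Flat g] [Surjective g] [QuasiCompact g] (hc : IsPullback g' f' f g)
    (hf' : MoreMor.IsIndQuasiAffineHom f') : MoreMor.IsIndQuasiAffineHom f := by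
  rw [isIndQuasiAffineHom_def]
  intro V hV U hUV hU
  have : IsAffine (V : Scheme.{u}) := hV
  have : CompactSpace (U : Scheme.{u}) := isCompact_iff_compactSpace.mp hU
  let r := f.resLE V U hUV
  have : QuasiCompact r := quasiCompact_of_compactSpace r
  have : CompactSpace (g ⁻¹ᵁ V : Scheme.{u}) :=
    isCompact_iff_compactSpace.1 (g.isCompact_preimage hV.isCompact)
  let cov := (g ⁻¹ᵁ V : Scheme.{u}).affineCover.finiteSubcover
  have (k : cov.I₀) : IsAffine (cov.X k) := by
    rw [(g ⁻¹ᵁ V : Scheme.{u}).affineCover.finiteSubcover_X]; infer_instance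
  let p : (∐ cov.X) ⟶ (g ⁻¹ᵁ V : Scheme.{u}) := Sigma.desc cov.f
  have hpS : Surjective p := ⟨fun x ↦ by
    obtain ⟨k, z, hz⟩ := cov.exists_eq x
    refine ⟨Sigma.ι cov.X k z, ?_⟩
    rw [← Scheme.Hom.comp_apply, Sigma.ι_desc, hz]⟩
  have hpF : Flat p := IsZariskiLocalAtSource.sigmaDesc (P := @Flat) fun k ↦ inferInstance
  let q : (∐ cov.X) ⟶ S' := p ≫ (g ⁻¹ᵁ V).ι
  let w : (∐ cov.X) ⟶ (V : Scheme.{u}) := p ≫ (g ∣_ V)
  have : Surjective (g ∣_ V) := IsZariskiLocalAtTarget.restrict ‹Surjective g› V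
  have hw : Groth.EtaleBase.Fpqc w :=
    ⟨⟨inferInstance, inferInstance⟩, quasiCompact_of_compactSpace w⟩
  -- the base change to `S'`
  have hA : IsPullback (pullback.fst U.ι g') (pullback.snd U.ι g' ≫ f') (U.ι ≫ f) g :=
    (IsPullback.of_hasPullback U.ι g').paste_vert hc
  have h1 : MoreMor.IsIndQuasiAffineHom (pullback.snd U.ι g' ≫ f') :=
    isIndQuasiAffineHom_comp isIndQuasiAffineHom_of_isImmersion hf'
  -- the base change to the affine cover
  have hB : IsPullback (pullback.fst r w) (pullback.snd r w) (U.ι ≫ f) (q ≫ g) := by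
    have hq : q ≫ g = w ≫ V.ι := by simp [q, w]
    have hr : U.ι ≫ f = r ≫ V.ι := (f.resLE_comp_ι hUV).symm
    rw [hq, hr]
    exact ⟨⟨by rw [pullback.condition_assoc]⟩, ⟨PullbackCone.isLimitOfCompMono r w V.ι
      (IsPullback.of_hasPullback r w).cone (IsPullback.of_hasPullback r w).isLimit⟩⟩
  let l : pullback r w ⟶ pullback U.ι g' :=
    hA.lift (pullback.fst r w) (pullback.snd r w ≫ q) (by simpa using hB.w)
  have hC : IsPullback l (pullback.snd r w) (pullback.snd U.ι g' ≫ f') q :=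
    IsPullback.of_right (by rwa [hA.lift_fst]) (hA.lift_snd _ _ _) hA
  have h2 := isIndQuasiAffineHom_baseChange hC h1
  rw [isIndQuasiAffineHom_def] at h2
  have : CompactSpace (pullback r w : Scheme.{u}) :=
    QuasiCompact.compactSpace_of_compactSpace (pullback.snd r w)
  have : (pullback r w).IsQuasiAffine := by
    have := h2 ⊤ (isAffineOpen_top _) ⊤ le_top isCompact_univ
    exact .of_isAffineHom (pullback r w).topIso.inv
  have : (pullback w r).IsQuasiAffine := .of_isAffineHom (pullbackSymmetry w r).hom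
  exact Groth.SpectralTopology.isQuasiAffine_of_baseChange w r hw

end Groth.FlatMor2
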