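import Groth.Agent.FlatMor2.TrdegFibre
import Mathlib.RingTheory.Ideal.KrullsHeightTheorem
import Mathlib.RingTheory.KrullDimension.NonZeroDivisors

/-!
# `dim (B / m_A B) + trdeg κ(B) = trdeg_A B` for flat local homomorphisms of local domains
-/

universe u

open IsLocalRing Ideal Cardinal

set_option linter.style.haveILetI false

set_option synthInstance.maxHeartbeats 400000

namespace Groth.FlatMor2.DimTrdeg

variable {A B : Type u} [CommRing A] [CommRing B] [IsLocalRing A] [IsLocalRing B] [Algebra A B]
  [IsLocalHom (algebraMap A B)] [Algebra.EssFiniteType A B]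

variable (A B) in
abbrev closedFibre : Type u := B ⧸ (maximalIdeal A).map (algebraMap A B)

noncomputable instance : Algebra (ResidueField A) (closedFibre A B) :=
  inferInstanceAs (Algebra (A ⧸ maximalIdeal A) _)

instance : IsScalarTower A (ResidueField A) (closedFibre A B) :=
  inferInstanceAs (IsScalarTower A (A ⧸ maximalIdeal A) _)

lemma map_ne_top : (maximalIdeal A).map (algebraMap A B) ≠ ⊤ := fun h =>
  (maximalIdeal.isMaximal B).ne_top (top_le_iff.1 (h.ge.trans
    (Ideal.map_le_iff_le_comap.2 (maximalIdeal_comap (algebraMap A B)).ge)))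

instance : Nontrivial (closedFibre A B) := Ideal.Quotient.nontrivial_iff.2 map_ne_top

instance : IsLocalRing (closedFibre A B) :=
  IsLocalRing.of_surjective' (Ideal.Quotient.mk _) Ideal.Quotient.mk_surjective

instance : Algebra.EssFiniteType (ResidueField A) (closedFibre A B) :=
  Algebra.EssFiniteType.of_comp A (ResidueField A) (closedFibre A B)

instance : IsNoetherianRing (closedFibre A B) :=
  Algebra.EssFiniteType.isNoetherianRing (ResidueField A) (closedFibre A B)

variable (A B) in
theorem exists_residue_equiv : ∃ e : (closedFibre A B ⧸ maximalIdeal (closedFibre A B)) ≃ₐ[ResidueField A] ResidueField B,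
    True := by
  let π : B →+* closedFibre A B := Ideal.Quotient.mk _
  haveI : IsLocalHom π := IsLocalHom.of_surjective π Ideal.Quotient.mk_surjective
  let ψ : ResidueField B →+* ResidueField (closedFibre A B) := ResidueField.map π
  have hψ : Function.Surjective ψ := by
    intro c
    obtain ⟨c, rfl⟩ := residue_surjective c
    obtain ⟨b, rfl⟩ := Ideal.Quotient.mk_surjective c
    exact ⟨residue B b, rfl⟩
  let e : ResidueField B ≃ₐ[ResidueField A] (closedFibre A B ⧸ maximalIdeal (closedFibre A B)) :=
    AlgEquiv.ofRingEquiv (f := RingEquiv.ofBijective ψ ⟨ψ.injective, hψ⟩) fun a => by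
      obtain ⟨a, rfl⟩ := residue_surjective a
      rfl
  exact ⟨e.symm, trivial⟩

theorem exists_prime_le_trdeg_of_local {k T E : Type u} [Field k] [CommRing T] [IsLocalRing T]
    [Algebra k T] [CommRing E] [Algebra k E] (e : (T ⧸ maximalIdeal T) ≃ₐ[k] E) (d : ℕ)
    (hd : ringKrullDim T = d) :
    ∃ Q : Ideal T, Q.IsPrime ∧ Algebra.trdeg k E + (d : Cardinal.{u}) ≤ Algebra.trdeg k (T ⧸ Q) := by
  have h1 : ((maximalIdeal T).height : WithBot ℕ∞) = d :=
    maximalIdeal_height_eq_ringKrullDim.trans hd
  rw [show (maximalIdeal T).height = Order.height (IsLocalRing.closedPoint T) from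
    PrimeSpectrum.height_eq_orderHeight (IsLocalRing.closedPoint T)] at h1
  obtain ⟨l, hl⟩ := Order.exists_series_of_le_height (IsLocalRing.closedPoint T) (n := d)
    (WithBot.coe_injective h1).ge
  have h := Groth.FlatMor2.TrdegFibre.trdeg_quotient_add_length_le (k := k) l
  rw [hl.2, hl.1] at h
  refine ⟨l.head.asIdeal, l.head.2, ?_⟩
  rw [← e.trdeg_eq]
  exact h

/-- The dimension of the closed fibre plus the residual transcendence degree bounds from below the
transcendence degree of some quotient of the closed fibre. -/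
theorem exists_prime_le_trdeg (d : ℕ) (hd : ringKrullDim (closedFibre A B) = d) :
    ∃ Q : Ideal (closedFibre A B), Q.IsPrime ∧
      Algebra.trdeg (ResidueField A) (ResidueField B) + (d : Cardinal.{u}) ≤
        Algebra.trdeg (ResidueField A) (closedFibre A B ⧸ Q) := by
  obtain ⟨e, -⟩ := exists_residue_equiv A B
  exact exists_prime_le_trdeg_of_local e d hd

theorem add_le_trdeg [Module.Flat A B] (d : ℕ) (hd : ringKrullDim (closedFibre A B) = d) :
    Algebra.trdeg (ResidueField A) (ResidueField B) + (d : Cardinal.{u}) ≤ Algebra.trdeg A B := by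
  obtain ⟨Q, hQ, h⟩ := exists_prime_le_trdeg d hd
  refine h.trans ?_
  exact Groth.FlatMor2.TrdegFibre.trdeg_le_of_flat
    (((Ideal.Quotient.mkₐ A Q).comp (Ideal.Quotient.mkₐ A ((maximalIdeal A).map (algebraMap A B)))) :
      B →ₐ[A] closedFibre A B ⧸ Q)
    ((Ideal.Quotient.mk_surjective).comp Ideal.Quotient.mk_surjective)

/-- Parameters of the closed fibre: lifting a set cutting out the closed point, together with a
transcendence basis of the residue field, gives a quasi-finite algebra. -/
theorem exists_params (s : Finset (closedFibre A B))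
    (hs : maximalIdeal (closedFibre A B) ∈ (Ideal.span (s : Set (closedFibre A B))).minimalPrimes)
    (u : s → B) (hu : ∀ c : s, Ideal.Quotient.mk _ (u c) = (c : closedFibre A B)) :
    ∃ (ι : Type u) (x : ι → B),
      #ι = (s.card : Cardinal.{u}) + Algebra.trdeg (ResidueField A) (ResidueField B) ∧
      (∀ c, ∃ i, x i = u c) ∧
      letI := (MvPolynomial.aeval (R := A) x).toRingHom.toAlgebra
      Algebra.QuasiFinite (MvPolynomial ι A) B := by
  haveI : FaithfulSMul (ResidueField A) (ResidueField B) :=
    (faithfulSMul_iff_algebraMap_injective _ _).2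
      (algebraMap (ResidueField A) (ResidueField B)).injective
  obtain ⟨κ, y, hy⟩ := exists_isTranscendenceBasis' (ResidueField A) (ResidueField B)
  choose v hv using fun k => residue_surjective (R := B) (y k)
  refine ⟨s ⊕ κ, Sum.elim u v, ?_, fun c => ⟨Sum.inl c, rfl⟩, ?_⟩
  · rw [Cardinal.mk_sum, Cardinal.lift_id, Cardinal.lift_id, ← hy.cardinalMk_eq_trdeg, Cardinal.mk_coe_finset]
  refine Groth.FlatMor2.TrdegFibre.quasiFinite_of_params _ (fun P hP hmP hxP => ?_) fun c => ?_
  · let q := Ideal.Quotient.mk ((maximalIdeal A).map (algebraMap A B))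
    haveI : IsLocalHom q := IsLocalHom.of_surjective q Ideal.Quotient.mk_surjective
    have hqm : ∀ b, q b ∈ maximalIdeal (closedFibre A B) → b ∈ maximalIdeal B := fun b hb =>
      (maximalIdeal_comap q).le hb
    haveI : (P.map q).IsPrime := Ideal.map_isPrime_of_surjective Ideal.Quotient.mk_surjective
      (by rw [Ideal.mk_ker]; exact hmP)
    have hle : Ideal.span (s : Set (closedFibre A B)) ≤ P.map q := Ideal.span_le.2 fun c hc => by
      rw [SetLike.mem_coe, ← show q (u ⟨c, hc⟩) = c from hu ⟨c, hc⟩]
      refine Ideal.mem_map_of_mem _ (hxP (Sum.inl ⟨c, hc⟩) (hqm _ ?_))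
      show q (u ⟨c, hc⟩) ∈ _
      rw [hu ⟨c, hc⟩]
      exact hs.1.2 (Ideal.subset_span hc)
    have hge := hs.2 ⟨inferInstance, hle⟩ (le_maximalIdeal (IsPrime.ne_top inferInstance))
    refine le_antisymm (le_maximalIdeal hP.ne_top) fun b hb => ?_
    have : q b ∈ P.map q := hge (by rwa [← Ideal.mem_comap, maximalIdeal_comap q])
    rw [← Ideal.mem_comap, Ideal.comap_map_of_surjective _ Ideal.Quotient.mk_surjective,
      ← RingHom.ker_eq_comap_bot, Ideal.mk_ker, sup_of_le_left hmP] at this
    exact this
  · obtain ⟨P, hP0, hP⟩ := hy.isAlgebraic.isAlgebraic c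
    have hle : Algebra.adjoin (ResidueField A) (Set.range y) ≤
        Algebra.adjoin (ResidueField A) (Set.range fun i => residue B (Sum.elim u v i)) := by
      refine Algebra.adjoin_mono ?_
      rintro _ ⟨k, rfl⟩
      exact ⟨Sum.inr k, hv k⟩
    refine ⟨P.map (Subalgebra.inclusion hle).toRingHom,
      (Polynomial.map_ne_zero_iff (Subalgebra.inclusion_injective hle)).2 hP0, ?_⟩
    rw [Polynomial.aeval_def, Polynomial.eval₂_map]
    exact hP

variable [IsDomain B]

theorem trdeg_le_mk {ι : Type u} (x : ι → B)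
    (h : letI := (MvPolynomial.aeval (R := A) x).toRingHom.toAlgebra
      Algebra.QuasiFinite (MvPolynomial ι A) B) : Algebra.trdeg A B ≤ #ι := by
  haveI := Groth.FlatMor2.TrdegFibre.isAlgebraic_adjoin_of_quasiFinite x h
  exact (Algebra.IsAlgebraic.trdeg_le_cardinalMk A (Set.range x)).trans Cardinal.mk_range_le

variable [IsDomain A] [FaithfulSMul A B]

variable (A B) in
theorem trdeg_lt_aleph0 : Algebra.trdeg A B < ℵ₀ := by
  let C := Algebra.EssFiniteType.subalgebra A B
  haveI : FaithfulSMul A C := (faithfulSMul_iff_algebraMap_injective _ _).2 fun a b h =>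
    FaithfulSMul.algebraMap_injective A B (congrArg (algebraMap C B) h)
  haveI : Algebra.IsAlgebraic C B :=
    IsLocalization.isAlgebraic B (Algebra.EssFiniteType.submonoid A B)
  rw [← trdeg_add_eq A C (A := B), trdeg_eq_zero (R := C) (A := B), add_zero]
  exact trdeg_lt_aleph0_of_finiteType

theorem exists_dim_eq [Module.Flat A B] :
    ∃ d e : ℕ, ringKrullDim (closedFibre A B) = d ∧
      Algebra.trdeg (ResidueField A) (ResidueField B) = e ∧ Algebra.trdeg A B = (d + e : ℕ) := by
  obtain ⟨d', hd'⟩ := ENat.ne_top_iff_exists.1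
    (Ideal.height_ne_top_of_isPrime (I := maximalIdeal (closedFibre A B)))
  have hd : ringKrullDim (closedFibre A B) = d' := by
    rw [← maximalIdeal_height_eq_ringKrullDim, ← hd']; rfl
  have hge := add_le_trdeg (A := A) (B := B) d' hd
  obtain ⟨e, he⟩ := Cardinal.lt_aleph0.1
    ((le_self_add.trans hge).trans_lt (trdeg_lt_aleph0 A B))
  refine ⟨d', e, hd, he, le_antisymm ?_ ?_⟩
  · obtain ⟨s, hs, hcard⟩ :=
      (maximalIdeal (closedFibre A B)).exists_finset_card_eq_height_of_isNoetherianRing
    choose u hu using fun c : s => Ideal.Quotient.mk_surjective (c : closedFibre A B)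
    obtain ⟨ι, x, hι, -, hqf⟩ := exists_params (A := A) (B := B) s hs u hu
    have : s.card = d' := by rw [← hd'] at hcard; exact_mod_cast hcard
    refine (trdeg_le_mk x hqf).trans ?_
    rw [hι, he, this, Nat.cast_add]
  · rw [he] at hge
    rw [Nat.cast_add, add_comm]
    exact hge

theorem mem_of_dvd {R S₀ L B : Type u} [CommRing R] [CommRing S₀] [IsDomain S₀] [IsIntegrallyClosed S₀]
    [CommRing B] [IsLocalRing B] [Field L] [Algebra R B] [Algebra R S₀] [Algebra.IsIntegral R S₀]
    [Algebra S₀ L] [FaithfulSMul S₀ L] [Algebra R L] [IsScalarTower R S₀ L] (f : B →ₐ[R] L)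
    (hf : Function.Injective f)
    (hfrac : ∀ b : B, ∃ s : integralClosure R B, (s : B) ∉ maximalIdeal B ∧ (s : B) * b ∈ integralClosure R B)
    (π : R) (hπ : algebraMap R B π ∈ maximalIdeal B) [(Ideal.span {algebraMap R S₀ π}).IsPrime]
    (c : R) (hc : algebraMap R B π ∣ algebraMap R B c) :
    algebraMap R S₀ c ∈ Ideal.span {algebraMap R S₀ π} := by
  let R' := integralClosure R B
  let S := integralClosure S₀ L
  let ψ : R' →ₐ[R] S :=
    AlgHom.codRestrict (f.comp R'.val) (S.restrictScalars R) fun b => (b.2.map f).tower_top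
  letI := ψ.toRingHom.toAlgebra
  haveI : IsScalarTower R R' S := IsScalarTower.of_algebraMap_eq fun r => (ψ.commutes r).symm
  haveI : Algebra.IsIntegral R S := Algebra.IsIntegral.trans S₀
  haveI : Algebra.IsIntegral R' S := Algebra.IsIntegral.tower_top R
  let q : Ideal R' := (maximalIdeal B).comap R'.val.toRingHom
  haveI : q.IsPrime := Ideal.comap_isPrime _ _
  obtain ⟨Q, -, hQ, hQq⟩ := Ideal.exists_ideal_over_prime_of_isIntegral (R := R') (S := S) q ⊥ (by
    intro b hb
    have hb' : f b.1 = 0 := congrArg Subtype.val (show ψ b = 0 from hb)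
    show b.1 ∈ maximalIdeal B
    rw [hf (hb'.trans (map_zero f).symm)]
    exact zero_mem _)
  let P₀ : Ideal S₀ := Ideal.span {algebraMap R S₀ π}
  have hψ : ∀ r : R, ψ (algebraMap R R' r) = algebraMap S₀ S (algebraMap R S₀ r) := fun r => by
    rw [ψ.commutes, ← IsScalarTower.algebraMap_apply]
  have hP₀ : P₀ ≤ Q.under S₀ := by
    rw [Ideal.span_le, Set.singleton_subset_iff]
    show algebraMap S₀ S (algebraMap R S₀ π) ∈ Q
    rw [← hψ]
    have : algebraMap R R' π ∈ q := hπ
    rw [← hQq] at this
    exact this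
  haveI : FaithfulSMul S₀ S := (faithfulSMul_iff_algebraMap_injective _ _).2 fun a b h =>
    FaithfulSMul.algebraMap_injective S₀ L (congrArg Subtype.val h)
  obtain ⟨Q', hQ'le, hQ', hQ'over⟩ :=
    Ideal.exists_ideal_le_liesOver_of_le (S := S) (p := P₀) (q := Q.under S₀) Q hP₀
  obtain ⟨b, hb⟩ := hc
  obtain ⟨s, hs, hsb⟩ := hfrac b
  have hmem : ψ (algebraMap R R' c * s) ∈ Q' := by
    have : algebraMap R R' c * s = algebraMap R R' π * ⟨(s : B) * b, hsb⟩ := by
      refine Subtype.ext ?_
      show algebraMap R B c * (s : B) = algebraMap R B π * ((s : B) * b)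
      rw [hb]
      ring
    rw [this, map_mul, hψ]
    refine Q'.mul_mem_right _ ?_
    have : algebraMap R S₀ π ∈ P₀ := Ideal.subset_span rfl
    rw [hQ'over.over] at this
    exact this
  rw [map_mul] at hmem
  rcases hQ'.mem_or_mem hmem with h | h
  · rw [hψ, ← Ideal.mem_comap] at h
    exact hQ'over.over.ge h
  · refine absurd ?_ hs
    have : s ∈ q := by
      rw [← hQq]
      exact hQ'le h
    exact this

omit [IsDomain A] [FaithfulSMul A B] [IsDomain B] in
/-- Going down over a normal polynomial ring: an element of a set of algebraically independent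
parameters does not meet the base. -/
theorem exists_prime_disjoint [IsDomain A] [IsDomain B] [FaithfulSMul A B] {ι : Type u} [Finite ι]
    (x : ι → B) (hind : AlgebraicIndependent A x) (i₀ : ι) (hi₀ : x i₀ ∈ maximalIdeal B)
    (hqf : letI := (MvPolynomial.aeval (R := A) x).toRingHom.toAlgebra
      Algebra.QuasiFinite (MvPolynomial ι A) B) :
    ∀ a : A, algebraMap A B a ∈ Ideal.span {x i₀} → a = 0 := by
  letI := (MvPolynomial.aeval (R := A) x).toRingHom.toAlgebra
  haveI := hqf
  haveI : IsScalarTower A (MvPolynomial ι A) B :=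
    IsScalarTower.of_algebraMap_eq fun a => ((MvPolynomial.aeval x).commutes a).symm
  let R := MvPolynomial ι A
  haveI : Algebra.EssFiniteType R B := Algebra.EssFiniteType.of_comp A R B
  let C := Algebra.EssFiniteType.subalgebra R B
  let M := Algebra.EssFiniteType.submonoid R B
  let m : Ideal C := (maximalIdeal B).comap (algebraMap C B)
  have hM : M = m.primeCompl := by
    ext c
    change IsUnit (algebraMap C B c) ↔ algebraMap C B c ∉ maximalIdeal B
    simp
  haveI : IsLocalization.AtPrime B m := by
    have : IsLocalization M B := inferInstance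
    rwa [hM] at this
  haveI : Algebra.QuasiFiniteAt R m := (Algebra.QuasiFinite.iff_of_algEquiv
    ((IsLocalization.algEquiv m.primeCompl (Localization.AtPrime m) B).restrictScalars R)).2 hqf
  obtain ⟨r, hr, hint⟩ := Algebra.zariskisMainProperty_iff'.1
    (Algebra.ZariskisMainProperty.of_finiteType (R := R) m)
  let R' := integralClosure R B
  have hfrac : ∀ b : B, ∃ s : R', (s : B) ∉ maximalIdeal B ∧ (s : B) * b ∈ R' := by
    intro b
    obtain ⟨⟨c, t⟩, hct⟩ := IsLocalization.surj m.primeCompl b
    obtain ⟨k₁, h₁⟩ := hint c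
    obtain ⟨k₂, h₂⟩ := hint t
    obtain ⟨k₀, h₀⟩ := hint 1
    have hr' : IsIntegral R (algebraMap C B (r ^ (k₀ + 1))) := by
      obtain ⟨k, hk⟩ := hint r
      rw [← pow_succ] at hk
      exact (((IsIntegral.pow_iff (by omega)).1 hk).pow _).algebraMap
    have hrint : ∀ k, IsIntegral R (algebraMap C B (r ^ k)) := fun k => by
      obtain ⟨j, hj⟩ := hint r
      rw [← pow_succ] at hj
      exact (((IsIntegral.pow_iff (by omega)).1 hj).pow _).algebraMap
    refine ⟨⟨algebraMap C B (r ^ k₁ * (r ^ k₂ * t)), ?_⟩, ?_, ?_⟩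
    · rw [mem_integralClosure_iff, map_mul]
      exact (hrint k₁).mul h₂.algebraMap
    · exact m.primeCompl.mul_mem (pow_mem hr _) (m.primeCompl.mul_mem (pow_mem hr _) t.2)
    · rw [mem_integralClosure_iff]
      have : algebraMap C B (r ^ k₁ * (r ^ k₂ * t)) * b = algebraMap C B (r ^ k₂) * algebraMap C B (r ^ k₁ * c) := by
        simp only [map_mul, ← hct]
        ring
      rw [this]
      exact (hrint k₂).mul h₁.algebraMap
  let K := FractionRing A
  let L := FractionRing B
  haveI : FaithfulSMul A L := (faithfulSMul_iff_algebraMap_injective _ _).2 <| by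
    rw [IsScalarTower.algebraMap_eq A B L]
    exact (IsFractionRing.injective B L).comp (FaithfulSMul.algebraMap_injective A B)
  letI : Algebra K L := FractionRing.liftAlgebra A L
  let A' := integralClosure A K
  haveI hA'frac : IsFractionRing A' K := integralClosure.isFractionRing_of_finite_extension K K
  haveI : IsIntegrallyClosed A' := integralClosure.isIntegrallyClosedOfFiniteExtension K
  let xL : ι → L := fun i => algebraMap B L (x i)
  have hxL : AlgebraicIndependent A xL :=
    hind.map' (f := IsScalarTower.toAlgHom A B L) (IsFractionRing.injective B L)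
  have hxL' : AlgebraicIndependent A' xL := hxL.extendScalars_of_isIntegral A'
  let S₀ := MvPolynomial ι A'
  letI : Algebra S₀ L := (MvPolynomial.aeval (R := A') xL).toRingHom.toAlgebra
  haveI : FaithfulSMul S₀ L := (faithfulSMul_iff_algebraMap_injective _ _).2
    (algebraicIndependent_iff_injective_aeval.1 hxL')
  haveI : IsIntegrallyClosed S₀ := by
    cases nonempty_fintype ι
    haveI := Groth.FlatMor2.isIntegrallyClosed_mvPolynomial A' (Fintype.card ι)
    exact IsIntegrallyClosed.of_equiv (R := MvPolynomial (Fin (Fintype.card ι)) A') (S := S₀)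
      (MvPolynomial.renameEquiv A' (Fintype.equivFin ι).symm).toRingEquiv
  let j : R →+* S₀ := MvPolynomial.map (algebraMap A A')
  letI : Algebra R S₀ := j.toAlgebra
  haveI hjint : Algebra.IsIntegral R S₀ := ⟨fun f => by
    induction f using MvPolynomial.induction_on with
    | C a =>
      obtain ⟨P, hP, hPa⟩ := Algebra.IsIntegral.isIntegral (R := A) a
      refine ⟨P.map MvPolynomial.C, hP.map _, ?_⟩
      rw [Polynomial.eval₂_map, show (algebraMap R S₀).comp MvPolynomial.C =
          MvPolynomial.C.comp (algebraMap A A') from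
        RingHom.ext fun c => MvPolynomial.map_C _ c, ← Polynomial.hom_eval₂, hPa, map_zero]
    | add f g hf hg => exact IsIntegral.add (R := R) (A := S₀) hf hg
    | mul_X f i hf =>
      refine IsIntegral.mul (R := R) (A := S₀) hf ?_
      rw [← MvPolynomial.map_X (algebraMap A A') i]
      exact isIntegral_algebraMap (R := R) (A := S₀)⟩
  have hj : (algebraMap S₀ L).comp j = (algebraMap B L).comp (algebraMap R B) := by
    refine MvPolynomial.ringHom_ext (fun a => ?_) fun i => ?_
    · show MvPolynomial.aeval xL (MvPolynomial.map (algebraMap A A') (MvPolynomial.C a)) =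
        algebraMap B L (MvPolynomial.aeval x (MvPolynomial.C a))
      rw [MvPolynomial.map_C, MvPolynomial.aeval_C, MvPolynomial.aeval_C,
        ← IsScalarTower.algebraMap_apply A A' L, ← IsScalarTower.algebraMap_apply A B L]
    · show MvPolynomial.aeval xL (MvPolynomial.map (algebraMap A A') (MvPolynomial.X i)) =
        algebraMap B L (MvPolynomial.aeval x (MvPolynomial.X i))
      rw [MvPolynomial.map_X, MvPolynomial.aeval_X, MvPolynomial.aeval_X]
  haveI : IsScalarTower R S₀ L := IsScalarTower.of_algebraMap_eq fun r =>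
    (IsScalarTower.algebraMap_apply R B L r).trans (DFunLike.congr_fun hj r).symm
  have hX : algebraMap R S₀ (MvPolynomial.X i₀) = (MvPolynomial.X i₀ : S₀) := MvPolynomial.map_X _ i₀
  haveI : (Ideal.span {algebraMap R S₀ (MvPolynomial.X i₀)}).IsPrime := by
    rw [hX]
    exact (Ideal.span_singleton_prime (MvPolynomial.X_ne_zero i₀)).2 MvPolynomial.X_prime
  intro a ha
  obtain ⟨b, hb⟩ := Ideal.mem_span_singleton.1 ha
  have hXB : algebraMap R B (MvPolynomial.X i₀) = x i₀ := MvPolynomial.aeval_X x i₀
  have h := mem_of_dvd (R := R) (S₀ := S₀) (L := L) (B := B)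
    (IsScalarTower.toAlgHom R B L) (IsFractionRing.injective B L) hfrac
    (MvPolynomial.X i₀) (by rw [hXB]; exact hi₀) (MvPolynomial.C a)
    ⟨b, by
      rw [hXB]
      show MvPolynomial.aeval x (MvPolynomial.C a) = _
      rw [MvPolynomial.aeval_C, hb]⟩
  rw [hX, Ideal.mem_span_singleton] at h
  have h0 := map_dvd MvPolynomial.constantCoeff h
  rw [MvPolynomial.constantCoeff_X, zero_dvd_iff, show algebraMap R S₀ (MvPolynomial.C a) =
    MvPolynomial.C (algebraMap A A' a) from MvPolynomial.map_C _ a, MvPolynomial.constantCoeff_C] at h0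
  exact (map_eq_zero_iff _ (FaithfulSMul.algebraMap_injective A A')).1 h0

theorem injective_to_quotient (g : B) (hg : g ∈ maximalIdeal B)
    (hmin : ∀ q ∈ ((maximalIdeal A).map (algebraMap A B)).minimalPrimes, g ∉ q)
    (d e : ℕ) (hd : ringKrullDim (closedFibre A B) = d)
    (he : Algebra.trdeg (ResidueField A) (ResidueField B) = e) (hsum : Algebra.trdeg A B = (d + e : ℕ)) :
    Function.Injective (algebraMap A (B ⧸ Ideal.span {g})) := by
  classical
  let T := closedFibre A B
  let q := Ideal.Quotient.mk ((maximalIdeal A).map (algebraMap A B))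
  haveI : IsLocalHom q := IsLocalHom.of_surjective q Ideal.Quotient.mk_surjective
  let G := q g
  have hG : G ∈ maximalIdeal T := by rwa [← Ideal.mem_comap, maximalIdeal_comap q]
  let J : Ideal T := Ideal.span {G}
  have hJ : J ≤ maximalIdeal T := Ideal.span_le.2 (Set.singleton_subset_iff.2 hG)
  haveI : Nontrivial (T ⧸ J) := Ideal.Quotient.nontrivial_iff.2
    (ne_top_of_le_ne_top (maximalIdeal.isMaximal T).ne_top hJ)
  haveI : IsLocalRing (T ⧸ J) :=
    IsLocalRing.of_surjective' (Ideal.Quotient.mk J) Ideal.Quotient.mk_surjective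
  have hdim : ringKrullDim (T ⧸ J) + 1 ≤ (d : WithBot ℕ∞) := by
    rw [← hd]
    have : Nonempty (PrimeSpectrum.zeroLocus (R := T) J) :=
      ⟨⟨IsLocalRing.closedPoint T, hJ⟩⟩
    rw [ringKrullDim_quotient, Order.krullDim_eq_iSup_length, ringKrullDim,
      Order.krullDim_eq_iSup_length, ← WithBot.coe_one, ← WithBot.coe_add,
      ENat.iSup_add, WithBot.coe_le_coe, iSup_le_iff]
    intro l
    obtain ⟨p, hp, hple⟩ := Ideal.exists_minimalPrimes_le (J := l.head.1.asIdeal) bot_le
    haveI := hp.1.1
    have hlt : (⟨p, hp.1.1⟩ : PrimeSpectrum T) < l.head.1 := by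
      refine lt_of_le_of_ne hple fun h => hmin (p.comap q) ?_ ?_
      · obtain ⟨p', hp'1, hp'2⟩ := Ideal.exists_minimalPrimes_le
          (I := (maximalIdeal A).map (algebraMap A B)) (J := p.comap q)
          (fun b hb => by rw [Ideal.mem_comap, show q b = 0 from Ideal.Quotient.eq_zero_iff_mem.2 hb]; exact zero_mem _)
        convert hp'1
        refine le_antisymm ?_ hp'2
        haveI := hp'1.1.1
        have h1 : p'.map q ≤ p := Ideal.map_le_iff_le_comap.2 hp'2
        haveI : (p'.map q).IsPrime := Ideal.map_isPrime_of_surjective Ideal.Quotient.mk_surjective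
          (by rw [Ideal.mk_ker]; exact hp'1.1.2)
        have h2 : p ≤ p'.map q := hp.2 ⟨inferInstance, bot_le⟩ h1
        refine (Ideal.comap_mono h2).trans ?_
        rw [Ideal.comap_map_of_surjective _ Ideal.Quotient.mk_surjective, ← RingHom.ker_eq_comap_bot,
          Ideal.mk_ker, sup_of_le_left hp'1.1.2]
      · show G ∈ p
        rw [show p = l.head.1.asIdeal from congrArg PrimeSpectrum.asIdeal h]
        exact l.head.2 (Ideal.subset_span rfl)
    refine le_trans ?_ (le_iSup _ ((l.map Subtype.val (fun _ _ ↦ id)).cons _ hlt))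
    simp
  obtain ⟨s₁, hs₁, hcard⟩ :=
    (maximalIdeal (T ⧸ J)).exists_finset_card_eq_height_of_isNoetherianRing
  choose w hw using fun c : s₁ => Ideal.Quotient.mk_surjective (c : T ⧸ J)
  let s : Finset T := insert G (Finset.univ.image w)
  have hcard' : s.card ≤ d := by
    have h1 : (s₁.card : WithBot ℕ∞) + 1 ≤ d := by
      refine le_trans ?_ hdim
      rw [← maximalIdeal_height_eq_ringKrullDim, ← hcard]
      exact le_rfl
    have h2 : s₁.card + 1 ≤ d := by exact_mod_cast h1
    refine le_trans (Finset.card_insert_le _ _) (le_trans ?_ h2)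
    exact Nat.succ_le_succ (Finset.card_image_le.trans (by simp))
  have hs : maximalIdeal T ∈ (Ideal.span (s : Set T)).minimalPrimes := by
    haveI : IsLocalHom (Ideal.Quotient.mk J) :=
      IsLocalHom.of_surjective _ Ideal.Quotient.mk_surjective
    have hmJ : (maximalIdeal (T ⧸ J)).comap (Ideal.Quotient.mk J) = maximalIdeal T :=
      maximalIdeal_comap _
    refine ⟨⟨inferInstance, Ideal.span_le.2 ?_⟩, fun P hP _ => ?_⟩
    · intro c hc
      rcases Finset.mem_insert.1 hc with rfl | hc
      · exact hG
      · obtain ⟨c, -, rfl⟩ := Finset.mem_image.1 hc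
        show w c ∈ maximalIdeal T
        rw [← hmJ, Ideal.mem_comap, hw]
        exact hs₁.1.2 (Ideal.subset_span c.2)
    · haveI := hP.1
      have hJP : J ≤ P := Ideal.span_le.2 (Set.singleton_subset_iff.2
        (hP.2 (Ideal.subset_span (Finset.mem_insert_self _ _))))
      haveI : (P.map (Ideal.Quotient.mk J)).IsPrime :=
        Ideal.map_isPrime_of_surjective Ideal.Quotient.mk_surjective (by rwa [Ideal.mk_ker])
      have hle : Ideal.span (s₁ : Set (T ⧸ J)) ≤ P.map (Ideal.Quotient.mk J) :=
        Ideal.span_le.2 fun c hc => by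
          rw [SetLike.mem_coe, ← show Ideal.Quotient.mk J (w ⟨c, hc⟩) = c from hw ⟨c, hc⟩]
          exact Ideal.mem_map_of_mem _ (hP.2 (Ideal.subset_span (Finset.mem_insert_of_mem
            (Finset.mem_image.2 ⟨⟨c, hc⟩, Finset.mem_univ _, rfl⟩))))
      have := Ideal.comap_mono (f := Ideal.Quotient.mk J)
        (hs₁.2 ⟨inferInstance, hle⟩ (le_maximalIdeal (IsPrime.ne_top inferInstance)))
      rw [hmJ, Ideal.comap_map_of_surjective _ Ideal.Quotient.mk_surjective,
        ← RingHom.ker_eq_comap_bot, Ideal.mk_ker, sup_of_le_left hJP] at this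
      exact this
  have hlift : ∀ c : s, ∃ b : B, q b = c ∧ ((c : T) = G → b = g) := fun c => by
    by_cases h : (c : T) = G
    · exact ⟨g, h.symm, fun _ => rfl⟩
    · obtain ⟨b, hb⟩ := Ideal.Quotient.mk_surjective (c : T)
      exact ⟨b, hb, fun h' => absurd h' h⟩
  choose u hu hug using hlift
  obtain ⟨ι, x, hι, hmem, hqf⟩ := exists_params (A := A) (B := B) s hs u hu
  obtain ⟨i₀, hi₀⟩ := hmem ⟨G, Finset.mem_insert_self _ _⟩
  rw [hug _ rfl] at hi₀
  have hle : #ι ≤ ((d + e : ℕ) : Cardinal.{u}) := by
    rw [hι, he, Nat.cast_add]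
    exact add_le_add (Nat.cast_le.2 hcard') le_rfl
  haveI : Finite ι := Cardinal.mk_lt_aleph0_iff.1 (hle.trans_lt (Cardinal.natCast_lt_aleph0))
  haveI := Groth.FlatMor2.TrdegFibre.isAlgebraic_adjoin_of_quasiFinite x hqf
  have hind : AlgebraicIndependent A x :=
    (Algebra.IsAlgebraic.isTranscendenceBasis_of_le_trdeg_of_finite A x (by rw [hsum]; exact hle)).1
  have key := exists_prime_disjoint x hind i₀ (by rwa [hi₀]) hqf
  rw [injective_iff_map_eq_zero]
  intro a ha
  refine key a ?_
  rw [IsScalarTower.algebraMap_apply A B (B ⧸ Ideal.span {g})] at ha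
  rw [hi₀]
  exact Ideal.Quotient.eq_zero_iff_mem.1 ha

end Groth.FlatMor2.DimTrdeg
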