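import Mathlib

/-!
Affine opens adapted to a closed immersion and an integral morphism.
-/

universe u

open AlgebraicGeometry CategoryTheory Opposite

namespace Groth.FlatMor2

theorem mem_basicOpen_iff_notMem_primeIdealOf {X : Scheme.{u}} {U : X.Opens} (hU : IsAffineOpen U)
    (x : U) (g : Γ(X, U)) : (x : X) ∈ X.basicOpen g ↔ g ∉ (hU.primeIdealOf x).asIdeal := by
  conv_lhs => rw [← hU.fromSpec_primeIdealOf x]
  rw [← Scheme.Hom.mem_preimage, hU.fromSpec_preimage_basicOpen]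
  rfl

theorem exists_polynomial_avoiding_fibre {R B : Type*} [CommRing R] [CommRing B] [Algebra R B]
    [Algebra.IsIntegral R B] {n : ℕ} (g : Fin n → B) (hg : Ideal.span (Set.range g) = ⊤)
    (p : Ideal R) [p.IsPrime] :
    ∃ h : MvPolynomial (Fin n) ℤ, h ∈ Ideal.span (Set.range MvPolynomial.X) ∧
      ∀ P : Ideal B, P.IsPrime → P.LiesOver p → MvPolynomial.aeval g h ∉ P := by
  classical
  let S : Subalgebra R B := Algebra.adjoin R (Set.range g)
  haveI : Module.Finite R S := Module.Finite.iff_fg.mpr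
    (fg_adjoin_of_finite (Set.finite_range g) fun x _ => Algebra.IsIntegral.isIntegral x)
  let g' : Fin n → S := fun i => ⟨g i, Algebra.subset_adjoin ⟨i, rfl⟩⟩
  have hfin : (p.primesOver S).Finite := Algebra.QuasiFinite.finite_primesOver p
  let φ : MvPolynomial (Fin n) ℤ →+* S := (MvPolynomial.aeval g').toRingHom
  have hφ : ∀ h, ((φ h : S) : B) = MvPolynomial.aeval g h := by
    intro h
    have : (S.val.restrictScalars ℤ).comp (MvPolynomial.aeval g') = MvPolynomial.aeval g := by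
      ext i
      simp [g']
    exact DFunLike.congr_fun this h
  let I0 : Ideal (MvPolynomial (Fin n) ℤ) := Ideal.span (Set.range MvPolynomial.X)
  let T : Finset (Ideal (MvPolynomial (Fin n) ℤ)) :=
    (hfin.toFinset.image fun Q => Q.comap φ).filter fun Q => ¬ I0 ≤ Q
  have hne : ¬ (I0 : Set (MvPolynomial (Fin n) ℤ)) ⊆ ⋃ Q ∈ (↑T : Set (Ideal (MvPolynomial (Fin n) ℤ))), (Q : Set (MvPolynomial (Fin n) ℤ)) := by
    rw [Ideal.subset_union_prime (f := fun Q => Q) ⊥ ⊥]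
    · rintro ⟨Q, hQ, hle⟩
      exact (Finset.mem_filter.mp hQ).2 hle
    · intro Q hQ _ _
      obtain ⟨Q', hQ', rfl⟩ := Finset.mem_image.mp (Finset.mem_filter.mp hQ).1
      haveI := ((hfin.mem_toFinset).mp hQ').1
      exact inferInstance
  obtain ⟨h, hhI, hh⟩ := Set.not_subset.mp hne
  refine ⟨h, hhI, fun P hP hPp hmem => hh ?_⟩
  let Q : Ideal S := P.comap S.val.toRingHom
  haveI : Q.IsPrime := by
    dsimp [Q]
    infer_instance
  have hQ : Q ∈ p.primesOver S := by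
    refine ⟨inferInstance, ⟨?_⟩⟩
    rw [hPp.over]
    ext r
    rfl
  refine Set.mem_biUnion (x := Q.comap φ) ?_ ?_
  · refine Finset.mem_coe.mpr (Finset.mem_filter.mpr
      ⟨Finset.mem_image.mpr ⟨Q, hfin.mem_toFinset.mpr hQ, rfl⟩, fun hle => hP.ne_top ?_⟩)
    rw [eq_top_iff, ← hg, Ideal.span_le]
    rintro _ ⟨i, rfl⟩
    have := hle (Ideal.subset_span ⟨i, rfl⟩)
    change ((φ (MvPolynomial.X i) : S) : B) ∈ P at this
    simpa [hφ] using this
  · change ((φ h : S) : B) ∈ P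
    rw [hφ]
    exact hmem

theorem exists_adapted_affine_opens {X Y Z : Scheme.{u}} (i : Z ⟶ X) [IsClosedImmersion i]
    (j : Z ⟶ Y) [IsIntegralHom j] (y : Y) (U : X.Opens) (hU : IsAffineOpen U)
    (hUy : j ⁻¹' {y} ⊆ (i ⁻¹ᵁ U : Set Z)) :
    ∃ (U' : X.Opens) (V : Y.Opens), IsAffineOpen U' ∧ IsAffineOpen V ∧ y ∈ V ∧
      i ⁻¹ᵁ U' = j ⁻¹ᵁ V := by
  classical
  have hZU : IsAffineOpen (i ⁻¹ᵁ U) := hU.preimage i
  set T : Set Z := ((i ⁻¹ᵁ U : Z.Opens) : Set Z)ᶜ with hT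
  have hTcl : IsClosed (j '' T) := j.isClosedMap _ (isClosed_compl_iff.mpr (i ⁻¹ᵁ U).2)
  have hyT : y ∉ j '' T := by
    rintro ⟨z, hz, hzy⟩
    exact hz (hUy hzy)
  obtain ⟨_, ⟨V0, hV0, rfl⟩, hyV0, hV0T⟩ :=
    Y.isBasis_affineOpens.exists_subset_of_mem_open hyT hTcl.isOpen_compl
  set W := j ⁻¹ᵁ V0 with hW
  have hWaff : IsAffineOpen W := hV0.preimage j
  have hWU : W ≤ i ⁻¹ᵁ U := by
    intro z hz
    by_contra hz'
    exact hV0T hz ⟨z, hz', rfl⟩
  -- basic opens of `i ⁻¹ᵁ U` covering `W`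
  choose g hgW hgz using fun z : W => hZU.exists_basicOpen_le (V := W) z (hWU z.2)
  obtain ⟨s, hs⟩ := hWaff.isCompact.elim_finite_subcover (fun z : W => (Z.basicOpen (g z) : Set Z))
    (fun z => (Z.basicOpen (g z)).2)
    (fun z hz => Set.mem_iUnion.mpr ⟨⟨z, hz⟩, hgz ⟨z, hz⟩⟩)
  let gs : Fin s.card → Γ(Z, i ⁻¹ᵁ U) := fun k => g (s.equivFin.symm k)
  let gW : Fin s.card → Γ(Z, W) := fun k => Z.presheaf.map (homOfLE hWU).op (gs k)
  have hspan : Ideal.span (Set.range gW) = ⊤ := by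
    rw [← hWaff.self_le_iSup_basicOpen_iff]
    intro z hz
    obtain ⟨w, hw, hzw⟩ := Set.mem_iUnion₂.mp (hs hz)
    refine TopologicalSpace.Opens.mem_iSup.mpr
      ⟨⟨gW (s.equivFin ⟨w, hw⟩), ⟨_, rfl⟩⟩, ?_⟩
    simp only [gW, gs, Equiv.symm_apply_apply, Scheme.basicOpen_res]
    exact ⟨hz, hzw⟩
  let φ : Γ(Y, V0) →+* Γ(Z, W) := (j.app V0).hom
  algebraize [φ]
  haveI : Algebra.IsIntegral Γ(Y, V0) Γ(Z, W) := ⟨IsIntegralHom.isIntegral_app j V0 hV0⟩
  obtain ⟨h, hhI, hh⟩ := exists_polynomial_avoiding_fibre (R := Γ(Y, V0)) gW hspan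
    (hV0.primeIdealOf ⟨y, hyV0⟩).asIdeal
  let hU' : Γ(Z, i ⁻¹ᵁ U) := MvPolynomial.aeval gs h
  -- `D(h) ⊆ W`
  have hhW : Z.basicOpen hU' ≤ W := by
    intro z hz
    have hzU : z ∈ i ⁻¹ᵁ U := Z.basicOpen_le _ hz
    by_contra hzW
    have hmem : hU' ∈ (hZU.primeIdealOf ⟨z, hzU⟩).asIdeal := by
      have hle : Ideal.span (Set.range (MvPolynomial.X (R := ℤ) (σ := Fin s.card))) ≤
          (hZU.primeIdealOf ⟨z, hzU⟩).asIdeal.comap (MvPolynomial.aeval gs).toRingHom := by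
        rw [Ideal.span_le]
        rintro _ ⟨k, rfl⟩
        simp only [SetLike.mem_coe, Ideal.mem_comap]
        rw [show (MvPolynomial.aeval gs).toRingHom (MvPolynomial.X k) = gs k from
          MvPolynomial.aeval_X gs k]
        by_contra hk
        exact hzW (hgW _ ((mem_basicOpen_iff_notMem_primeIdealOf hZU ⟨z, hzU⟩ (gs k)).mpr hk))
      exact hle hhI
    exact (mem_basicOpen_iff_notMem_primeIdealOf hZU ⟨z, hzU⟩ _).mp hz hmem
  -- the fibre lies in `D(h)`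
  have hfib : ∀ z : Z, j z = y → z ∈ Z.basicOpen hU' := by
    intro z hz
    have hzW : z ∈ W := by
      show j z ∈ V0
      exact hz ▸ hyV0
    have hne := hh (hWaff.primeIdealOf ⟨z, hzW⟩).asIdeal inferInstance ⟨by
      have := IsAffineOpen.comap_primeIdealOf_appLE (f := j) (x := z) V0 hV0 W hWaff le_rfl hzW
      rw [show j.appLE V0 W le_rfl = j.app V0 from Scheme.Hom.appLE_eq_app j] at this
      have h2 := congrArg PrimeSpectrum.asIdeal this
      simp only [PrimeSpectrum.comap_asIdeal] at h2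
      refine Eq.trans ?_ h2.symm
      subst hz
      rfl⟩
    have hmap : (Z.presheaf.map (homOfLE hWU).op).hom hU' = MvPolynomial.aeval gW h :=
      DFunLike.congr_fun (MvPolynomial.comp_aeval (R := ℤ) gs
        (Z.presheaf.map (homOfLE hWU).op).hom.toIntAlgHom) h
    rw [← hmap, ← mem_basicOpen_iff_notMem_primeIdealOf hWaff ⟨z, hzW⟩,
      Scheme.basicOpen_res] at hne
    exact hne.2
  -- shrink `V0`
  set T' : Set Z := (Z.basicOpen hU' : Set Z)ᶜ with hT'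
  have hT'cl : IsClosed (j '' T') := j.isClosedMap _ (isClosed_compl_iff.mpr (Z.basicOpen hU').2)
  obtain ⟨v, hvle, hvy⟩ := hV0.exists_basicOpen_le
    (V := ⟨(j '' T')ᶜ, hT'cl.isOpen_compl⟩)
    ⟨y, fun ⟨z, hz, hzy⟩ => hz (hfib z hzy)⟩ hyV0
  have hsub : Z.basicOpen (j.app V0 v) ≤ Z.basicOpen hU' := by
    intro z hz
    rw [← Scheme.preimage_basicOpen] at hz
    by_contra hz'
    exact hvle hz ⟨z, hz', rfl⟩
  -- express the preimage as a basic open of `i ⁻¹ᵁ U`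
  obtain ⟨a, ha⟩ := hZU.basicOpen_basicOpen_is_basicOpen hU'
    (Z.presheaf.map (homOfLE hhW).op (j.app V0 v))
  obtain ⟨a', ha'⟩ := i.app_surjective U hU a
  refine ⟨X.basicOpen a', Y.basicOpen v, hU.basicOpen a', hV0.basicOpen v, hvy, ?_⟩
  rw [Scheme.preimage_basicOpen, Scheme.preimage_basicOpen]
  change Z.basicOpen ((i.app U).hom a') = _
  rw [show (i.app U).hom a' = a from ha', ha, Scheme.basicOpen_res]
  exact inf_eq_right.mpr hsub

end Groth.FlatMor2
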