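import Mathlib.AlgebraicGeometry.Morphisms.UniversallyOpen
import Mathlib.AlgebraicGeometry.AffineSpace
import Mathlib.AlgebraicGeometry.PullbackCarrier
import Mathlib.RingTheory.TensorProduct.MvPolynomial
import Mathlib.LinearAlgebra.TensorProduct.Finiteness

/-!
# Universally open morphisms are detected on affine spaces
-/

universe u

open AlgebraicGeometry CategoryTheory Limits TensorProduct PrimeSpectrum

namespace Groth.FlatMor2

variable {A B : Type u} [CommRing A] [CommRing B] [Algebra A B]

attribute [local instance] MvPolynomial.algebraMvPolynomial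

lemma isPushout_mvPolynomial {σ : Type u} :
    IsPushout (CommRingCat.ofHom (algebraMap A B)) (CommRingCat.ofHom (MvPolynomial.C : A →+* MvPolynomial σ A))
      (CommRingCat.ofHom (MvPolynomial.C : B →+* MvPolynomial σ B))
      (CommRingCat.ofHom (MvPolynomial.map (algebraMap A B))) :=
  CommRingCat.isPushout_of_isPushout A B (MvPolynomial σ A) (MvPolynomial σ B)

lemma isPushout_mvPolynomial' {d : ℕ} :
    IsPushout (CommRingCat.ofHom (algebraMap A B)) (CommRingCat.ofHom (MvPolynomial.C : A →+* MvPolynomial (Fin d) A))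
      (CommRingCat.ofHom (MvPolynomial.C : B →+* MvPolynomial (Fin d) B))
      (CommRingCat.ofHom (MvPolynomial.map (algebraMap A B))) :=
  CommRingCat.isPushout_of_isPushout A B (MvPolynomial (Fin d) A) (MvPolynomial (Fin d) B)

/-- The image in `Spec A'` of a standard open `D(∑ aᵢ ⊗ bᵢ)` is open as soon as the image in `Spec A[x]`
of `D(∑ xᵢ bᵢ)` is. -/
lemma isOpen_image_basicOpen_tensor {d : ℕ} (b : Fin d → B)
    (ho : IsOpen (PrimeSpectrum.comap (MvPolynomial.map (σ := Fin d) (algebraMap A B)) ''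
        (PrimeSpectrum.basicOpen (∑ i : Fin d, MvPolynomial.X i * MvPolynomial.C (b i)) : Set (PrimeSpectrum (MvPolynomial (Fin d) B)))))
    {A' : Type u} [CommRing A'] [Algebra A A'] (a : Fin d → A') :
    IsOpen (PrimeSpectrum.comap (algebraMap A' (A' ⊗[A] B)) ''
      (PrimeSpectrum.basicOpen (∑ i, a i ⊗ₜ[A] b i) : Set (PrimeSpectrum (A' ⊗[A] B)))) := by
  let h : MvPolynomial (Fin d) B := ∑ i : Fin d, MvPolynomial.X i * MvPolynomial.C (b i)
  let θ : MvPolynomial (Fin d) A →+* A' := MvPolynomial.eval₂Hom (algebraMap A A') a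
  let Θ : MvPolynomial (Fin d) B →+* A' ⊗[A] B :=
    MvPolynomial.eval₂Hom Algebra.TensorProduct.includeRight.toRingHom fun i => a i ⊗ₜ 1
  have top : IsPushout (CommRingCat.ofHom (MvPolynomial.map (σ := Fin d) (algebraMap A B))) (CommRingCat.ofHom θ)
      (CommRingCat.ofHom Θ) (CommRingCat.ofHom (algebraMap A' (A' ⊗[A] B))) := by
    refine IsPushout.of_top ?_ ?_ isPushout_mvPolynomial'
    · have e1 : CommRingCat.ofHom MvPolynomial.C ≫ CommRingCat.ofHom θ = CommRingCat.ofHom (algebraMap A A') := by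
        ext x; simp [θ]
      have e2 : CommRingCat.ofHom MvPolynomial.C ≫ CommRingCat.ofHom Θ =
          CommRingCat.ofHom (Algebra.TensorProduct.includeRight : B →ₐ[A] A' ⊗[A] B).toRingHom := by
        ext x; simp [Θ]
      rw [e1, e2]
      exact (CommRingCat.isPushout_tensorProduct A A' B).flip
    · apply CommRingCat.hom_ext
      refine MvPolynomial.ringHom_ext (fun x => ?_) fun i => ?_
      · simp [θ, Θ, Algebra.TensorProduct.algebraMap_apply]
      · simp [θ, Θ, Algebra.TensorProduct.algebraMap_apply]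
  have hh : Θ h = ∑ i, a i ⊗ₜ[A] b i := by simp [Θ, h]
  have key := Scheme.image_preimage_eq_of_isPullback
    (isPullback_SpecMap_of_isPushout _ _ _ _ top)
    ((PrimeSpectrum.basicOpen h : Set (PrimeSpectrum (MvPolynomial (Fin d) B))))
  have hpre : PrimeSpectrum.comap Θ ⁻¹' (PrimeSpectrum.basicOpen h : Set _) =
      (PrimeSpectrum.basicOpen (∑ i, a i ⊗ₜ[A] b i) : Set (PrimeSpectrum (A' ⊗[A] B))) := by
    rw [← hh]
    exact congrArg SetLike.coe (PrimeSpectrum.comap_basicOpen Θ h)
  rw [← hpre]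
  refine (congrArg IsOpen key).mpr ?_
  exact ho.preimage (PrimeSpectrum.continuous_comap θ)

lemma isOpenMap_SpecMap_tensor {A' : Type u} [CommRing A'] [Algebra A A']
    (H : ∀ g : A' ⊗[A] B, IsOpen (PrimeSpectrum.comap (algebraMap A' (A' ⊗[A] B)) ''
      (PrimeSpectrum.basicOpen g : Set (PrimeSpectrum (A' ⊗[A] B))))) :
    IsOpenMap (PrimeSpectrum.comap (algebraMap A' (A' ⊗[A] B))) := by
  rw [PrimeSpectrum.isTopologicalBasis_basic_opens.isOpenMap_iff]
  rintro _ ⟨g, rfl⟩
  exact H g

lemma isOpenMap_pullback_snd_SpecMap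
    (H : ∀ (A' : Type u) [CommRing A'] [Algebra A A'] (g : A' ⊗[A] B),
      IsOpen (PrimeSpectrum.comap (algebraMap A' (A' ⊗[A] B)) ''
      (PrimeSpectrum.basicOpen g : Set (PrimeSpectrum (A' ⊗[A] B)))))
    {A' : CommRingCat.{u}} {k : Spec A' ⟶ Spec (CommRingCat.of A)} {P : Scheme.{u}} {a : P ⟶ Spec (CommRingCat.of B)}
    {b : P ⟶ Spec A'} (sq : IsPullback a b (Spec.map (CommRingCat.ofHom (algebraMap A B))) k) :
    IsOpenMap b := by
  obtain ⟨φ, rfl⟩ := Spec.map_surjective k
  let := φ.hom.toAlgebra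
  have hb := isPullback_SpecMap_of_isPushout _ _ _ _ (CommRingCat.isPushout_tensorProduct A A' B).flip
  have h := isOpenMap_SpecMap_tensor (A' := A') (B := B) fun g => H A' g
  change topologically @IsOpenMap _
  rw [← sq.isoIsPullback_hom_snd _ _ hb,
    MorphismProperty.cancel_left_of_respectsIso (P := topologically @IsOpenMap)]
  exact h

lemma universallyOpen_SpecMap_of_forall
    (H : ∀ (A' : Type u) [CommRing A'] [Algebra A A'] (g : A' ⊗[A] B),
      IsOpen (PrimeSpectrum.comap (algebraMap A' (A' ⊗[A] B)) ''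
      (PrimeSpectrum.basicOpen g : Set (PrimeSpectrum (A' ⊗[A] B))))) :
    UniversallyOpen (Spec.map (CommRingCat.ofHom (algebraMap A B))) := by
  refine ⟨MorphismProperty.universally_mk' _ _ fun {Y'} k _ => ?_⟩
  rw [IsZariskiLocalAtTarget.iff_of_openCover (P := topologically @IsOpenMap) Y'.affineCover]
  intro i
  have hs := (IsPullback.of_hasPullback (pullback.fst k (Spec.map (CommRingCat.ofHom (algebraMap A B))))
    (Y'.affineCover.f i)).paste_horiz (IsPullback.of_hasPullback k _).flip
  dsimp [Scheme.Cover.pullbackHom]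
  exact isOpenMap_pullback_snd_SpecMap H hs

lemma universallyOpen_SpecMap_iff {d : ℕ} (b : Fin d → B) (hb : Submodule.span A (Set.range b) = ⊤) :
    UniversallyOpen (Spec.map (CommRingCat.ofHom (algebraMap A B))) ↔
      IsOpen (PrimeSpectrum.comap (MvPolynomial.map (σ := Fin d) (algebraMap A B)) ''
        (PrimeSpectrum.basicOpen (∑ i : Fin d, MvPolynomial.X i * MvPolynomial.C (b i)) : Set (PrimeSpectrum (MvPolynomial (Fin d) B)))) := by
  refine ⟨fun h => ?_, fun ho => universallyOpen_SpecMap_of_forall fun A' _ _ g => ?_⟩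
  · have hpb := isPullback_SpecMap_of_isPushout _ _ _ _ (isPushout_mvPolynomial' (A := A) (B := B) (d := d))
    have : UniversallyOpen (Spec.map (CommRingCat.ofHom (MvPolynomial.map (σ := Fin d) (algebraMap A B)))) :=
      MorphismProperty.of_isPullback hpb h
    exact (Spec.map (CommRingCat.ofHom (MvPolynomial.map (σ := Fin d) (algebraMap A B)))).isOpenMap _
      (PrimeSpectrum.basicOpen _).2
  · obtain ⟨a, rfl⟩ : ∃ a : Fin d → A', g = ∑ i, a i ⊗ₜ[A] b i := by
      induction g using TensorProduct.induction_on with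
      | zero => exact ⟨0, by simp⟩
      | add x y hx hy =>
        obtain ⟨a, rfl⟩ := hx
        obtain ⟨a', rfl⟩ := hy
        exact ⟨a + a', by simp [add_tmul, Finset.sum_add_distrib]⟩
      | tmul x y =>
        obtain ⟨c, rfl⟩ := (Submodule.mem_span_range_iff_exists_fun A).mp (hb ▸ Submodule.mem_top : y ∈ Submodule.span A (Set.range b))
        exact ⟨fun i => c i • x, by simp [tmul_sum, smul_tmul']⟩
    exact isOpen_image_basicOpen_tensor b ho a

lemma universallyOpen_SpecMap_of_isOpenMap
    (H : ∀ n : ℕ, IsOpenMap (PrimeSpectrum.comap (MvPolynomial.map (σ := Fin n) (algebraMap A B)))) :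
    UniversallyOpen (Spec.map (CommRingCat.ofHom (algebraMap A B))) := by
  refine universallyOpen_SpecMap_of_forall fun A' _ _ g => ?_
  obtain ⟨S, rfl⟩ := TensorProduct.exists_finset g
  let e := S.equivFin.symm
  rw [← Finset.sum_coe_sort, ← e.sum_comp]
  exact isOpen_image_basicOpen_tensor (fun i => (e i).1.2) (H _ _ (PrimeSpectrum.basicOpen _).2) _

lemma universallyOpen_SpecMap_of_affineSpace {R T : CommRingCat.{u}} (φ : R ⟶ T)
    (hq : ∀ n : ℕ, IsOpenMap ⇑(AffineSpace.map (ULift.{u} (Fin n)) (Spec.map φ))) :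
    UniversallyOpen (Spec.map φ) := by
  let := φ.hom.toAlgebra
  refine universallyOpen_SpecMap_of_isOpenMap (A := R) (B := T) fun n => ?_
  have h2 : IsOpenMap (Spec.map (CommRingCat.ofHom (MvPolynomial.map (σ := ULift.{u} (Fin n)) φ.hom))) :=
    (MorphismProperty.arrow_mk_iso_iff (topologically @IsOpenMap) (AffineSpace.mapSpecMap φ)).mp (hq n)
  let e : Fin n ≃ ULift.{u} (Fin n) := Equiv.ulift.symm
  let rB := homeomorphOfRingEquiv (MvPolynomial.renameEquiv T e).toRingEquiv
  let rA := homeomorphOfRingEquiv (MvPolynomial.renameEquiv R e).toRingEquiv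
  have hc : PrimeSpectrum.comap (MvPolynomial.map (σ := Fin n) φ.hom) ∘ rB.symm =
      rA.symm ∘ PrimeSpectrum.comap (MvPolynomial.map (σ := ULift.{u} (Fin n)) φ.hom) := by
    funext x
    apply PrimeSpectrum.ext
    ext y
    show MvPolynomial.rename e (MvPolynomial.map φ.hom y) ∈ x.asIdeal ↔
      MvPolynomial.map φ.hom (MvPolynomial.rename e y) ∈ x.asIdeal
    rw [MvPolynomial.map_rename]
  have h3 : IsOpenMap (PrimeSpectrum.comap (MvPolynomial.map (σ := Fin n) φ.hom) ∘ rB.symm) :=
    hc ▸ rA.symm.isOpenMap.comp h2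
  convert h3.comp rB.isOpenMap
  ext x
  simp [Function.comp_assoc, RingHom.algebraMap_toAlgebra]

lemma universallyOpen_of_affineTarget {W : Scheme.{u}} {R : CommRingCat.{u}} (g : W ⟶ Spec R)
    (hq : ∀ n : ℕ, IsOpenMap ⇑(AffineSpace.map (ULift.{u} (Fin n)) g)) : UniversallyOpen g := by
  rw [IsZariskiLocalAtSource.iff_of_openCover (P := @UniversallyOpen) W.affineCover]
  intro j
  obtain ⟨φ, hφ⟩ := Spec.map_surjective (W.affineCover.f j ≫ g)
  have h : ∀ n : ℕ, IsOpenMap ⇑(AffineSpace.map (ULift.{u} (Fin n)) (W.affineCover.f j ≫ g)) := fun n => by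
    have : IsOpenImmersion (AffineSpace.map (ULift.{u} (Fin n)) (W.affineCover.f j)) :=
      MorphismProperty.of_isPullback (AffineSpace.isPullback_map (W.affineCover.f j)).flip inferInstance
    rw [AffineSpace.map_comp]
    exact (hq n).comp (AffineSpace.map _ (W.affineCover.f j)).isOpenEmbedding.isOpenMap
  exact hφ ▸ universallyOpen_SpecMap_of_affineSpace φ (hφ.symm ▸ h)

lemma universallyOpen_iff_affineSpace {X S : Scheme.{u}} (f : X ⟶ S) :
    UniversallyOpen f ↔ ∀ n : ℕ, IsOpenMap ⇑(AffineSpace.map (ULift.{u} (Fin n)) f) := by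
  constructor
  · intro h n
    have : UniversallyOpen (AffineSpace.map (ULift.{u} (Fin n)) f) :=
      MorphismProperty.of_isPullback (AffineSpace.isPullback_map f).flip h
    exact Scheme.Hom.isOpenMap _
  intro H
  rw [IsZariskiLocalAtTarget.iff_of_openCover (P := @UniversallyOpen) S.affineCover]
  intro i
  dsimp [Scheme.Cover.pullbackHom]
  have hq : ∀ n : ℕ, IsOpenMap ⇑(AffineSpace.map (ULift.{u} (Fin n)) (pullback.snd f (S.affineCover.f i))) := fun n => by
    have hpb : IsPullback (AffineSpace.map (ULift.{u} (Fin n)) (pullback.fst f (S.affineCover.f i)))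
        (AffineSpace.map (ULift.{u} (Fin n)) (pullback.snd f (S.affineCover.f i)))
        (AffineSpace.map (ULift.{u} (Fin n)) f) (AffineSpace.map (ULift.{u} (Fin n)) (S.affineCover.f i)) := by
      refine IsPullback.of_bot (v₂₁ := _ ↘ _) (v₂₂ := _ ↘ _) ?_ ?_ (AffineSpace.isPullback_map _)
      · rw [AffineSpace.map_over, AffineSpace.map_over]
        exact (AffineSpace.isPullback_map _).paste_vert (IsPullback.of_hasPullback _ _)
      · rw [← AffineSpace.map_comp, ← AffineSpace.map_comp, pullback.condition]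
    have : IsOpenImmersion (AffineSpace.map (ULift.{u} (Fin n)) (S.affineCover.f i)) :=
      MorphismProperty.of_isPullback (AffineSpace.isPullback_map (S.affineCover.f i)).flip inferInstance
    exact IsZariskiLocalAtTarget.of_isPullback (P := topologically @IsOpenMap) (iY := AffineSpace.map (ULift.{u} (Fin n)) (S.affineCover.f i)) hpb (H n)
  exact universallyOpen_of_affineTarget _ hq

end Groth.FlatMor2
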