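import Mathlib
import Groth.Agent.EtaleAlgebra.WeaklyEtale

/-!
Weak etaleness of a morphism of schemes can be tested on the local rings.
-/

universe u

open AlgebraicGeometry CategoryTheory Limits

namespace Groth.FlatMor2

set_option linter.style.haveILetI false

/-- Weakly étale ring homomorphisms, in the shape of the stalk criterion. -/
def IsWeaklyEtaleHom {R S : Type u} [CommRing R] [CommRing S] (φ : R →+* S) : Prop :=
  φ.Flat ∧ (letI := φ.toAlgebra; (Algebra.TensorProduct.lmul' R (S := S)).toRingHom.Flat)

theorem isWeaklyEtaleHom_iff {R S : Type u} [CommRing R] [CommRing S] [Algebra R S] :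
    IsWeaklyEtaleHom (algebraMap R S) ↔ Algebra.WeaklyEtale R S := by
  rw [IsWeaklyEtaleHom, Algebra.weaklyEtale_iff, RingHom.flat_algebraMap_iff]
  rw [show (algebraMap R S).toAlgebra = ‹Algebra R S› from Algebra.algebra_ext _ _ fun _ => rfl]

theorem weaklyEtale_localization {R S : Type u} [CommRing R] [CommRing S] [Algebra R S]
    (M : Submonoid R) [IsLocalization M S] : Algebra.WeaklyEtale R S := by
  refine ⟨IsLocalization.flat S M, RingHom.Flat.of_bijective ?_⟩
  haveI := IsLocalization.flat S M
  have hinv : ∀ x : TensorProduct R S S, x = Algebra.TensorProduct.lmul' R (S := S) x ⊗ₜ[R] 1 := by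
    intro x
    induction x with
    | zero => simp
    | add a b ha hb => rw [map_add, TensorProduct.add_tmul, ← ha, ← hb]
    | tmul a b =>
      rw [Algebra.TensorProduct.lmul'_apply_tmul]
      obtain ⟨b, t, rfl⟩ := IsLocalization.exists_mk'_eq M b
      obtain ⟨a', ha'⟩ : ∃ a', a' * algebraMap R S t = a :=
        ⟨a * IsLocalization.mk' S 1 t, by
          rw [mul_assoc, IsLocalization.mk'_spec, map_one, mul_one]⟩
      rw [← ha']
      calc (a' * algebraMap R S t) ⊗ₜ[R] IsLocalization.mk' S b t
          = ((t : R) • a') ⊗ₜ[R] IsLocalization.mk' S b t := by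
            rw [Algebra.smul_def, mul_comm]
        _ = (b • a') ⊗ₜ[R] 1 := by
            rw [TensorProduct.smul_tmul, TensorProduct.smul_tmul, Algebra.smul_def,
              IsLocalization.mk'_spec', Algebra.smul_def, mul_one]
        _ = _ := by
            congr 1
            rw [Algebra.smul_def, mul_assoc, IsLocalization.mk'_spec', mul_comm]
  exact ⟨fun x y h => by rw [hinv x, hinv y, show Algebra.TensorProduct.lmul' R (S := S) x =
    Algebra.TensorProduct.lmul' R (S := S) y from h], fun y => ⟨y ⊗ₜ 1, by simp⟩⟩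

theorem IsWeaklyEtaleHom.of_bijective {R S : Type u} [CommRing R] [CommRing S] {φ : R →+* S}
    (h : Function.Bijective φ) : IsWeaklyEtaleHom φ := by
  letI := φ.toAlgebra
  haveI : IsLocalization (⊥ : Submonoid R) S :=
    IsLocalization.of_le_isUnit_of_bijective (fun x hx => by
      obtain ⟨r, hr, rfl⟩ := hx
      rw [SetLike.mem_coe, Submonoid.mem_bot] at hr
      subst hr
      exact (map_one (algebraMap R S)).symm ▸ isUnit_one) h
  exact isWeaklyEtaleHom_iff.mpr (weaklyEtale_localization ⊥)

theorem IsWeaklyEtaleHom.comp {R S T : Type u} [CommRing R] [CommRing S] [CommRing T]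
    {φ : R →+* S} {ψ : S →+* T} (h₁ : IsWeaklyEtaleHom φ) (h₂ : IsWeaklyEtaleHom ψ) :
    IsWeaklyEtaleHom (ψ.comp φ) := by
  algebraize [φ, ψ, ψ.comp φ]
  haveI : Algebra.WeaklyEtale R S := isWeaklyEtaleHom_iff.mp h₁
  haveI : Algebra.WeaklyEtale S T := isWeaklyEtaleHom_iff.mp h₂
  exact isWeaklyEtaleHom_iff.mpr (Algebra.WeaklyEtale.trans R S T)

theorem isWeaklyEtaleHom_respectsIso :
    RingHom.RespectsIso @IsWeaklyEtaleHom.{u} :=
  ⟨fun _ e h => h.comp (IsWeaklyEtaleHom.of_bijective e.bijective),
    fun _ e h => (IsWeaklyEtaleHom.of_bijective e.bijective).comp h⟩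

/-- Weakly étale is a property of the local ring maps. -/
theorem isWeaklyEtaleHom_iff_localRingHom {A B : Type u} [CommRing A] [CommRing B] (φ : A →+* B) :
    IsWeaklyEtaleHom φ ↔ ∀ (P : Ideal B) [P.IsPrime],
      IsWeaklyEtaleHom (Localization.localRingHom (P.comap φ) P φ rfl) := by
  algebraize [φ]
  rw [show φ = algebraMap A B from rfl, isWeaklyEtaleHom_iff]
  constructor
  · intro _ P _
    let p := P.comap (algebraMap A B)
    let ψ := Localization.localRingHom p P (algebraMap A B) rfl
    letI : Algebra (Localization.AtPrime p) (Localization.AtPrime P) := ψ.toAlgebra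
    haveI : IsScalarTower A (Localization.AtPrime p) (Localization.AtPrime P) :=
      IsScalarTower.of_algebraMap_eq fun a =>
        (IsScalarTower.algebraMap_apply A B _ a).trans
          (Localization.localRingHom_to_map p P (algebraMap A B) rfl a).symm
    haveI : Algebra.WeaklyEtale A (Localization.AtPrime p) := weaklyEtale_localization p.primeCompl
    haveI : Algebra.WeaklyEtale B (Localization.AtPrime P) := weaklyEtale_localization P.primeCompl
    haveI : Algebra.WeaklyEtale A (Localization.AtPrime P) := Algebra.WeaklyEtale.trans A B _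
    exact isWeaklyEtaleHom_iff.mpr (Groth.EtaleAlgebra.weaklyEtale_of_tower A _ _)
  · intro h
    have hWE : ∀ (P : Ideal B) [P.IsPrime], Algebra.WeaklyEtale A (Localization.AtPrime P) := by
      intro P _
      let p := P.comap (algebraMap A B)
      let ψ := Localization.localRingHom p P (algebraMap A B) rfl
      letI : Algebra (Localization.AtPrime p) (Localization.AtPrime P) := ψ.toAlgebra
      haveI : IsScalarTower A (Localization.AtPrime p) (Localization.AtPrime P) :=
        IsScalarTower.of_algebraMap_eq fun a =>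
          (IsScalarTower.algebraMap_apply A B _ a).trans
            (Localization.localRingHom_to_map p P (algebraMap A B) rfl a).symm
      haveI : Algebra.WeaklyEtale A (Localization.AtPrime p) :=
        weaklyEtale_localization p.primeCompl
      haveI : Algebra.WeaklyEtale (Localization.AtPrime p) (Localization.AtPrime P) :=
        isWeaklyEtaleHom_iff.mp (h P)
      exact Algebra.WeaklyEtale.trans A (Localization.AtPrime p) _
    refine ⟨?_, ?_⟩
    · exact Module.flat_of_isLocalized_maximal (R := A) (S := B) B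
        (fun P _ => Localization.AtPrime P)
        (fun P _ => Algebra.linearMap B (Localization.AtPrime P))
        fun P _ => (hWE P).flat
    · let μ := (Algebra.TensorProduct.lmul' A (S := B)).toRingHom
      letI : Algebra (TensorProduct A B B) B := μ.toAlgebra
      have key : ∀ (P : Ideal B) [P.IsMaximal],
          Module.Flat (TensorProduct A B B) (Localization.AtPrime P) := by
        intro P _
        haveI := hWE P
        haveI : Module.Flat B (Localization.AtPrime P) :=
          IsLocalization.flat _ P.primeCompl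
        have hι : (IsScalarTower.toAlgHom A B (Localization.AtPrime P)).toRingHom.Flat :=
          RingHom.flat_algebraMap_iff.2 inferInstance
        have hc := RingHom.Flat.comp (RingHom.Flat.tensorProductMap hι hι)
          (Algebra.WeaklyEtale.flat_lmul' A (Localization.AtPrime P))
        rw [← RingHom.flat_algebraMap_iff]
        convert hc using 1
        refine RingHom.ext fun x => ?_
        rw [IsScalarTower.algebraMap_apply (TensorProduct A B B) B (Localization.AtPrime P)]
        induction x with
        | zero => simp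
        | add x y hx hy => simp only [map_add, hx, hy]
        | tmul a b =>
          change algebraMap B _ (μ (a ⊗ₜ b)) = _
          simp [μ]
      exact Module.flat_of_isLocalized_maximal (R := TensorProduct A B B) (S := B) B
        (fun P _ => Localization.AtPrime P)
        (fun P _ => Algebra.linearMap B (Localization.AtPrime P)) fun P _ => key P

theorem isWeaklyEtaleHom_localRingHom_congr {A B : Type u} [CommRing A] [CommRing B] (φ : A →+* B)
    {P P' : Ideal B} [P.IsPrime] [P'.IsPrime] {q : Ideal A} [q.IsPrime] (hq : q = P.comap φ)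
    (hP : P = P') : IsWeaklyEtaleHom (Localization.localRingHom q P φ hq) ↔
      IsWeaklyEtaleHom (Localization.localRingHom (P'.comap φ) P' φ rfl) := by
  subst hP hq
  rfl

theorem weaklyEtale_SpecMap_iff {A B : CommRingCat.{u}} (φ : A ⟶ B) :
    WeaklyEtale (Spec.map φ) ↔ IsWeaklyEtaleHom φ.hom := by
  algebraize [φ.hom]
  rw [weaklyEtale_iff, HasRingHomProperty.Spec_iff (P := @Flat)]
  refine and_congr Iff.rfl ?_
  rw [show φ = CommRingCat.ofHom (algebraMap A B) from rfl, diagonal_SpecMap,
    MorphismProperty.cancel_right_of_respectsIso @Flat, HasRingHomProperty.Spec_iff (P := @Flat)]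
  rfl

theorem weaklyEtale_iff_stalkMap {X Y : Scheme.{u}} (f : X ⟶ Y) :
    WeaklyEtale f ↔ ∀ x : X, IsWeaklyEtaleHom (f.stalkMap x).hom := by
  have hchart : ∀ (V : Y.Opens) (hV : IsAffineOpen V) (U : X.Opens) (hU : IsAffineOpen U)
      (e : U ≤ f ⁻¹ᵁ V), WeaklyEtale (Spec.map (f.appLE V U e)) ↔
        ∀ x, x ∈ U → IsWeaklyEtaleHom (f.stalkMap x).hom := by
    intro V hV U hU e
    rw [weaklyEtale_SpecMap_iff, isWeaklyEtaleHom_iff_localRingHom]
    have hiso : ∀ (x : X) (hx : x ∈ U), IsWeaklyEtaleHom (f.stalkMap x).hom ↔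
        IsWeaklyEtaleHom (Localization.localRingHom
          ((hU.primeIdealOf ⟨x, hx⟩).asIdeal.comap (f.appLE V U e).hom)
          (hU.primeIdealOf ⟨x, hx⟩).asIdeal (f.appLE V U e).hom rfl) := by
      intro x hx
      haveI := RingHom.toMorphismProperty_respectsIso_iff.mp isWeaklyEtaleHom_respectsIso.{u}
      refine ((RingHom.toMorphismProperty @IsWeaklyEtaleHom).arrow_mk_iso_iff
        (IsAffineOpen.arrowStalkMapIso f V hV U hU e hx)).trans ?_
      exact isWeaklyEtaleHom_localRingHom_congr _
        congr($(IsAffineOpen.comap_primeIdealOf_appLE (f := f) V hV U hU e hx).1).symm rfl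
    constructor
    · intro h x hx
      exact (hiso x hx).mpr (h _)
    · intro h P _
      have hz : hU.fromSpec ⟨P, inferInstance⟩ ∈ U := hU.range_fromSpec.le ⟨_, rfl⟩
      have heq : (hU.primeIdealOf ⟨_, hz⟩).asIdeal = P :=
        congrArg PrimeSpectrum.asIdeal
          (hU.fromSpec.isOpenEmbedding.injective (hU.fromSpec_primeIdealOf ⟨_, hz⟩))
      exact (isWeaklyEtaleHom_localRingHom_congr _ rfl heq).mp ((hiso _ hz).mp (h _ hz))
  constructor
  · intro hf x
    obtain ⟨_, ⟨V, hV, rfl⟩, hxV, -⟩ :=
      Y.isBasis_affineOpens.exists_subset_of_mem_open (Set.mem_univ (f x)) isOpen_univ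
    obtain ⟨_, ⟨U, hU, rfl⟩, hxU, hUV⟩ := X.isBasis_affineOpens.exists_subset_of_mem_open
      (show x ∈ ((f ⁻¹ᵁ V : X.Opens) : Set X) from hxV) (f ⁻¹ᵁ V).2
    refine (hchart V hV U hU hUV).mp ?_ x hxU
    haveI : WeaklyEtale (Spec.map (f.appLE V U hUV) ≫ hV.fromSpec) := by
      rw [IsAffineOpen.SpecMap_appLE_fromSpec f hV hU hUV]
      infer_instance
    exact WeaklyEtale.of_comp _ hV.fromSpec
  · intro h
    have hloc : ∀ x : X, ∃ (W : Y.Opens) (U : X.Opens), IsAffineOpen W ∧ IsAffineOpen U ∧
        x ∈ U ∧ U ≤ f ⁻¹ᵁ W := by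
      intro x
      obtain ⟨_, ⟨W, hW, rfl⟩, hxW, -⟩ :=
        Y.isBasis_affineOpens.exists_subset_of_mem_open (Set.mem_univ (f x)) isOpen_univ
      obtain ⟨_, ⟨U, hU, rfl⟩, hxU, hUV⟩ := X.isBasis_affineOpens.exists_subset_of_mem_open
        (show x ∈ ((f ⁻¹ᵁ W : X.Opens) : Set X) from hxW) (f ⁻¹ᵁ W).2
      exact ⟨W, U, hW, hU, hxU, hUV⟩
    choose W U hWaff hUaff hxU hUW using hloc
    refine IsZariskiLocalAtSource.of_iSup_eq_top (P := @WeaklyEtale) U ?_ fun x => ?_
    · exact top_le_iff.mp fun x _ => TopologicalSpace.Opens.mem_iSup.mpr ⟨x, hxU x⟩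
    · have e : U x ≤ f ⁻¹ᵁ W x := hUW x
      haveI := (hchart (W x) (hWaff x) (U x) (hUaff x) e).mpr fun z _ => h z
      rw [← (hUaff x).isoSpec_hom_fromSpec, Category.assoc,
        ← IsAffineOpen.SpecMap_appLE_fromSpec f (hWaff x) (hUaff x) e]
      infer_instance

end Groth.FlatMor2
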