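import Mathlib
import Groth.Agent.FlatMor2.AdaptedOpens

/-!
Primes of a finite type algebra over a valuation ring: below a closed point of the special fibre,
the closed points of the generic fibre are dense.
-/

universe u

open Ideal

namespace Groth.FlatMor2

set_option linter.style.haveILetI false
set_option synthInstance.maxHeartbeats 400000

theorem isIntegrallyClosed_mvPolynomial (R : Type u) [CommRing R] [IsDomain R]
    [IsIntegrallyClosed R] : ∀ n : ℕ, IsIntegrallyClosed (MvPolynomial (Fin n) R)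
  | 0 => IsIntegrallyClosed.of_equiv (MvPolynomial.isEmptyRingEquiv R (Fin 0)).symm
  | n + 1 => by
    haveI := isIntegrallyClosed_mvPolynomial R n
    exact IsIntegrallyClosed.of_equiv (MvPolynomial.finSuccEquiv R n).symm.toRingEquiv

theorem exists_dvd_forall {R ι : Type*} [CommRing R] [IsDomain R] [ValuationRing R]
    (s : Finset ι) (hs : s.Nonempty) (f : ι → R) : ∃ i ∈ s, ∀ j ∈ s, f i ∣ f j := by
  induction hs using Finset.Nonempty.cons_induction with
  | singleton a => exact ⟨a, by simp, by simp⟩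
  | cons a s ha hs ih =>
    obtain ⟨i, hi, hij⟩ := ih
    rcases ValuationRing.dvd_total (f a) (f i) with h | h
    · refine ⟨a, by simp, fun j hj => ?_⟩
      rcases Finset.mem_cons.mp hj with rfl | hj
      exacts [dvd_rfl, h.trans (hij j hj)]
    · refine ⟨i, by simp [hi], fun j hj => ?_⟩
      rcases Finset.mem_cons.mp hj with rfl | hj
      exacts [h, hij j hj]

/-- Key lemma: `R` a valuation ring which is not a field, `B` a domain of finite type over `R`
containing `R`, `p` a maximal ideal of `B` over the maximal ideal of `R`. For `g ≠ 0` there is a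
prime `q ≤ p` over `0` avoiding `g` which is closed in the generic fibre. -/
theorem exists_closed_generic_below {R B : Type u} [CommRing R] [IsDomain R] [ValuationRing R]
    [IsIntegrallyClosed R] [CommRing B] [IsDomain B] [Algebra R B] [Algebra.FiniteType R B]
    (hinj : Function.Injective (algebraMap R B)) (hR : IsLocalRing.maximalIdeal R ≠ ⊥)
    (p : Ideal B) [p.IsMaximal] (hp : p.comap (algebraMap R B) = IsLocalRing.maximalIdeal R)
    (g : B) (hg : g ≠ 0) :
    ∃ q : Ideal B, q.IsPrime ∧ q ≤ p ∧ q.comap (algebraMap R B) = ⊥ ∧ g ∉ q ∧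
      ∀ x ∉ q, ∃ ρ : R, ρ ≠ 0 ∧ ∃ y : B, algebraMap R B ρ - x * y ∈ q := by
  classical
  -- the special fibre
  let m := IsLocalRing.maximalIdeal R
  let k := R ⧸ m
  letI : Field k := Ideal.Quotient.field m
  let J : Ideal B := m.map (algebraMap R B)
  have hJp : J ≤ p := Ideal.map_le_iff_le_comap.mpr hp.ge
  let B₀ := B ⧸ J
  haveI : Nontrivial B₀ := Ideal.Quotient.nontrivial_iff.mpr
    (ne_top_of_le_ne_top (Ideal.IsPrime.ne_top inferInstance) hJp)
  let e₀ : k →+* B₀ := Ideal.Quotient.lift m ((Ideal.Quotient.mk J).comp (algebraMap R B))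
    fun a ha => Ideal.Quotient.eq_zero_iff_mem.mpr (Ideal.mem_map_of_mem _ ha)
  letI : Algebra k B₀ := e₀.toAlgebra
  haveI : IsScalarTower R k B₀ := IsScalarTower.of_algebraMap_eq' rfl
  haveI : Algebra.FiniteType k B₀ :=
    Algebra.FiniteType.of_restrictScalars_finiteType R k B₀
  obtain ⟨n, gbar, gbar_inj, gbar_fin⟩ := exists_finite_inj_algHom_of_fg k B₀
  choose t ht using fun i => Ideal.Quotient.mk_surjective (gbar (MvPolynomial.X i))
  let P := MvPolynomial (Fin n) R
  let φ : P →ₐ[R] B := MvPolynomial.aeval t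
  have hcomp : ∀ F : P, Ideal.Quotient.mk J (φ F) =
      gbar (MvPolynomial.map (Ideal.Quotient.mk m) F) := by
    intro F
    have : (Ideal.Quotient.mk J).comp φ.toRingHom =
        gbar.toRingHom.comp (MvPolynomial.map (Ideal.Quotient.mk m)) := by
      refine MvPolynomial.ringHom_ext (fun a => ?_) (fun i => ?_)
      · change Ideal.Quotient.mk J (MvPolynomial.aeval t (MvPolynomial.C a)) =
          gbar (MvPolynomial.map (Ideal.Quotient.mk m) (MvPolynomial.C a))
        rw [MvPolynomial.aeval_C, MvPolynomial.map_C]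
        exact (gbar.commutes (Ideal.Quotient.mk m a)).symm
      · change Ideal.Quotient.mk J (MvPolynomial.aeval t (MvPolynomial.X i)) =
          gbar (MvPolynomial.map (Ideal.Quotient.mk m) (MvPolynomial.X i))
        rw [MvPolynomial.aeval_X, MvPolynomial.map_X, ht]
    exact RingHom.congr_fun this F
  -- `φ` is injective
  have φ_inj : Function.Injective φ := by
    rw [injective_iff_map_eq_zero]
    intro F hF
    by_contra hF0
    obtain ⟨d, hd, hdvd⟩ := exists_dvd_forall F.support
      (MvPolynomial.support_nonempty.mpr hF0) fun d => F.coeff d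
    have hd0 : F.coeff d ≠ 0 := MvPolynomial.mem_support_iff.mp hd
    have hC : MvPolynomial.C (F.coeff d) ∣ F := by
      rw [MvPolynomial.C_dvd_iff_dvd_coeff]
      intro j
      by_cases hj : j ∈ F.support
      · exact hdvd j hj
      · rw [MvPolynomial.notMem_support_iff.mp hj]
        exact dvd_zero _
    obtain ⟨F₁, hF₁⟩ := hC
    have hφ₁ : φ F₁ = 0 := by
      have := hF
      rw [hF₁, map_mul, MvPolynomial.aeval_C] at this
      exact (mul_eq_zero.mp this).resolve_left fun h => hd0 (hinj (h.trans (map_zero _).symm))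
    have hcoef : F₁.coeff d = 1 := by
      have h2 := congrArg (MvPolynomial.coeff d) hF₁
      rw [MvPolynomial.coeff_C_mul] at h2
      exact mul_left_cancel₀ hd0 (h2.symm.trans (mul_one _).symm)
    have h0 := hcomp F₁
    rw [hφ₁, map_zero] at h0
    have h3 : MvPolynomial.map (Ideal.Quotient.mk m) F₁ = 0 :=
      gbar_inj (h0.symm.trans (map_zero gbar).symm)
    have h4 := congrArg (MvPolynomial.coeff d) h3
    rw [MvPolynomial.coeff_map, hcoef, map_one, MvPolynomial.coeff_zero] at h4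
    exact one_ne_zero h4
  letI : Algebra P B := φ.toRingHom.toAlgebra
  haveI : IsScalarTower R P B := IsScalarTower.of_algebraMap_eq' φ.comp_algebraMap.symm
  haveI : Algebra.FiniteType P B := Algebra.FiniteType.of_restrictScalars_finiteType R P B
  haveI : IsIntegrallyClosed P := isIntegrallyClosed_mvPolynomial R n
  -- quasi-finiteness at `p`
  haveI : Algebra.WeaklyQuasiFiniteAt P p := by
    let I : Ideal B := (p.under P).map (algebraMap P B)
    have hJI : J ≤ I := by
      rw [Ideal.map_le_iff_le_comap]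
      intro a ha
      have hmem : algebraMap R P a ∈ p.under P := by
        change algebraMap P B (algebraMap R P a) ∈ p
        rw [← IsScalarTower.algebraMap_apply]
        exact hp.ge ha
      change algebraMap R B a ∈ I
      rw [IsScalarTower.algebraMap_apply R P B]
      exact Ideal.mem_map_of_mem _ hmem
    have hfin : ((Ideal.Quotient.mk I).comp φ.toRingHom).Finite := by
      have h1 : (Ideal.Quotient.mk I).comp φ.toRingHom = (Ideal.Quotient.factor hJI).comp
          (gbar.toRingHom.comp (MvPolynomial.map (Ideal.Quotient.mk m))) := by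
        refine RingHom.ext fun F => ?_
        have := congrArg (Ideal.Quotient.factor hJI) (hcomp F)
        rw [Ideal.Quotient.factor_mk] at this
        exact this
      rw [h1]
      exact RingHom.Finite.comp (RingHom.Finite.of_surjective _ (Ideal.Quotient.factor_surjective hJI))
        (RingHom.Finite.comp gbar_fin (RingHom.Finite.of_surjective _
          (MvPolynomial.map_surjective _ Ideal.Quotient.mk_surjective)))
    haveI : Module.Finite P (B ⧸ I) := by
      refine RingHom.finite_algebraMap.mp ?_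
      exact hfin
    infer_instance
  -- Zariski's main theorem
  obtain ⟨r, hrp, hr, hrx⟩ := Algebra.zariskisMainProperty_iff.mp
    (Algebra.ZariskisMainProperty.of_finiteType_of_weaklyQuasiFiniteAt (R := P) p)
  let S' := integralClosure P B
  haveI : Algebra.IsIntegral P S' := IsIntegralClosure.isIntegral_algebra P B
  haveI : FaithfulSMul P S' := (faithfulSMul_iff_algebraMap_injective _ _).mpr fun a b hab =>
    φ_inj (congrArg Subtype.val hab)
  let rS : S' := ⟨r, hr⟩
  have hr0 : r ≠ 0 := fun h => hrp (h ▸ p.zero_mem)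
  obtain ⟨mg, hmg⟩ := hrx g
  let cS : S' := rS * ⟨r ^ mg * g, hmg⟩
  have hc0 : cS ≠ 0 := fun h => mul_ne_zero hr0 (mul_ne_zero (pow_ne_zero _ hr0) hg)
    (congrArg Subtype.val h)
  obtain ⟨G, hGmem, hG0⟩ := Submodule.exists_mem_ne_zero_of_ne_bot
    (Ideal.comap_ne_bot_of_integral_mem (R := P) hc0 (Ideal.mem_span_singleton_self cS)
      (Algebra.IsIntegral.isIntegral cS))
  -- an integral point of `R[X]` lifting the closed point
  let L := AlgebraicClosure (FractionRing R)
  let Rb := integralClosure R L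
  haveI : Algebra.IsIntegral R Rb := IsIntegralClosure.isIntegral_algebra R L
  have hRL : Function.Injective (algebraMap R L) := by
    rw [IsScalarTower.algebraMap_eq R (FractionRing R) L, RingHom.coe_comp]
    exact (algebraMap (FractionRing R) L).injective.comp
      (IsFractionRing.injective R (FractionRing R))
  haveI : FaithfulSMul R Rb := (faithfulSMul_iff_algebraMap_injective _ _).mpr fun a b hab =>
    hRL (congrArg Subtype.val hab)
  obtain ⟨M, hMmax, hMover⟩ := Ideal.exists_maximal_ideal_liesOver_of_isIntegral (S := Rb) m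
  let kb := Rb ⧸ M
  letI : Field kb := Ideal.Quotient.field M
  haveI : IsAlgClosed kb := by
    refine IsAlgClosed.of_exists_root _ fun f hfm hfirr => ?_
    obtain ⟨f', hf'map, hf'deg, hf'm⟩ := Polynomial.lifts_and_degree_eq_and_monic
      ((Polynomial.lifts_iff_coeff_lifts f).mpr fun i => Ideal.Quotient.mk_surjective (f.coeff i))
      hfm
    have hdeg : (f'.map (algebraMap Rb L)).degree ≠ 0 := by
      rw [hf'm.degree_map, hf'deg]
      exact (Polynomial.degree_pos_of_irreducible hfirr).ne'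
    obtain ⟨z, hz⟩ := IsAlgClosed.exists_root (f'.map (algebraMap Rb L)) hdeg
    have hz' : IsIntegral Rb z := ⟨f', hf'm, by
      rw [← Polynomial.eval_map]
      exact hz⟩
    have hzR : IsIntegral R z := isIntegral_trans z hz'
    let zb : Rb := ⟨z, hzR⟩
    refine ⟨Ideal.Quotient.mk M zb, ?_⟩
    have h0 : f'.eval zb = 0 := by
      refine Subtype.val_injective (p := fun x => x ∈ Rb) ?_
      have := hz
      rw [Polynomial.IsRoot, show z = algebraMap Rb L zb from rfl,
        Polynomial.eval_map_apply] at this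
      simpa using this
    rw [← hf'map, Polynomial.eval_map_apply, h0, map_zero]
  let ek : k →+* kb := Ideal.Quotient.lift m ((Ideal.Quotient.mk M).comp (algebraMap R Rb))
    fun a ha => Ideal.Quotient.eq_zero_iff_mem.mpr ((hMover.over ▸ ha : a ∈ M.under R))
  letI : Algebra k kb := ek.toAlgebra
  haveI : IsScalarTower R k kb := IsScalarTower.of_algebraMap_eq' rfl
  let Lp := B ⧸ p
  letI : Field Lp := Ideal.Quotient.field p
  let eL : k →+* Lp := Ideal.Quotient.lift m ((Ideal.Quotient.mk p).comp (algebraMap R B))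
    fun a ha => Ideal.Quotient.eq_zero_iff_mem.mpr (hp.ge ha)
  letI : Algebra k Lp := eL.toAlgebra
  haveI : IsScalarTower R k Lp := IsScalarTower.of_algebraMap_eq' rfl
  haveI : Algebra.FiniteType k Lp := Algebra.FiniteType.of_restrictScalars_finiteType R k Lp
  haveI : Module.Finite k Lp := finite_of_finite_type_of_isJacobsonRing k Lp
  let ψ : Lp →ₐ[k] kb := IsAlgClosed.lift
  choose a₀ ha₀ using fun i => Ideal.Quotient.mk_surjective (ψ (Ideal.Quotient.mk p (t i)))
  have hMinf : ((fun x : Rb => algebraMap Rb L x) '' (M : Set Rb)).Infinite := by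
    obtain ⟨ϖ, hϖ, hϖ0⟩ := Submodule.exists_mem_ne_zero_of_ne_bot hR
    refine Set.infinite_of_injective_forall_mem (f := fun j : ℕ => algebraMap R L (ϖ ^ (j + 1)))
      (hRL.comp fun i j hij => ?_) fun j => ⟨algebraMap R Rb (ϖ ^ (j + 1)), ?_, ?_⟩
    · have : i + 1 = j + 1 := by
        refine pow_injective_of_not_isUnit ?_ hϖ0 hij
        exact (IsLocalRing.mem_maximalIdeal _).mp hϖ
      omega
    · change ϖ ^ (j + 1) ∈ M.under R
      rw [← hMover.over]
      exact Ideal.pow_mem_of_mem _ hϖ _ (Nat.succ_pos j)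
    · exact (IsScalarTower.algebraMap_apply R Rb L _).symm
  obtain ⟨x, hx, hxG⟩ : ∃ x ∈ Set.pi Set.univ (fun i : Fin n =>
      (fun z => algebraMap Rb L (a₀ i) + z) '' ((fun x : Rb => algebraMap Rb L x) '' (M : Set Rb))),
      MvPolynomial.eval x (MvPolynomial.map (algebraMap R L) G) ≠ 0 := by
    by_contra! hall
    refine hG0 (MvPolynomial.map_injective _ hRL ?_)
    rw [map_zero]
    exact MvPolynomial.funext_set _ (fun i => hMinf.image (add_right_injective _).injOn)
      fun x hx => by rw [hall x hx, map_zero]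
  choose z hzM hzx using fun i => hx i (Set.mem_univ i)
  choose e heM hez using hzM
  let a : Fin n → Rb := fun i => a₀ i + e i
  have hax : ∀ i, algebraMap Rb L (a i) = x i := by
    intro i
    rw [← hzx i, ← hez i, map_add]
  let θ : P →ₐ[R] Rb := MvPolynomial.aeval a
  have hθG : θ G ≠ 0 := by
    intro h
    apply hxG
    have h2 := congrArg (algebraMap Rb L) h
    rw [map_zero, ← MvPolynomial.aeval_algebraMap_apply, MvPolynomial.aeval_def] at h2
    rw [MvPolynomial.eval_map, ← funext hax]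
    exact h2
  have hθp : ∀ F : P, Ideal.Quotient.mk M (θ F) = ψ (Ideal.Quotient.mk p (φ F)) := by
    intro F
    have : (Ideal.Quotient.mkₐ R M).comp θ =
        (ψ.restrictScalars R).comp ((Ideal.Quotient.mkₐ R p).comp φ) := by
      refine MvPolynomial.algHom_ext fun i => ?_
      simp only [θ, φ, AlgHom.comp_apply, MvPolynomial.aeval_X, Ideal.Quotient.mkₐ_eq_mk,
        AlgHom.restrictScalars_apply, a, map_add, Ideal.Quotient.eq_zero_iff_mem.mpr (heM i),
        add_zero, ha₀]
    exact AlgHom.congr_fun this F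
  let κ : Ideal P := RingHom.ker θ
  haveI : κ.IsPrime := RingHom.ker_isPrime _
  have hκp : κ ≤ p.under P := by
    intro F hF
    have h := hθp F
    rw [RingHom.mem_ker.mp hF, map_zero] at h
    change φ F ∈ p
    exact Ideal.Quotient.eq_zero_iff_mem.mp (ψ.toRingHom.injective (h.symm.trans (map_zero _).symm))
  -- going down
  let pS : Ideal S' := p.under S'
  haveI : pS.LiesOver (p.under P) := ⟨(Ideal.under_under p).symm⟩
  obtain ⟨q1, hq1p, hq1prime, hq1over⟩ :=
    Ideal.exists_ideal_le_liesOver_of_le (S := S') (p := κ) (q := p.under P) pS hκp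
  have hq1κ : ∀ F : P, algebraMap P S' F ∈ q1 → θ F = 0 := fun F hF => by
    have hF' : F ∈ q1.under P := hF
    rw [← hq1over.over] at hF'
    exact hF'
  have hrq1 : rS ∉ q1 := fun h => hrp (hq1p h)
  have hcq1 : cS ∉ q1 := fun h => hθG (hq1κ G (by
    obtain ⟨w, hw⟩ := Ideal.mem_span_singleton'.mp (Ideal.mem_comap.mp hGmem)
    rw [← hw]
    exact q1.mul_mem_left _ h))
  -- the prime of `B`
  let q : Ideal B :=
    { carrier := {x | ∃ (j : ℕ) (s : S'), s ∈ q1 ∧ (s : B) = r ^ j * x}
      add_mem' := by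
        rintro x y ⟨j, s, hs, hsx⟩ ⟨l, w, hw, hwy⟩
        refine ⟨j + l, rS ^ l * s + rS ^ j * w,
          q1.add_mem (q1.mul_mem_left _ hs) (q1.mul_mem_left _ hw), ?_⟩
        push_cast
        rw [hsx, hwy]
        ring
      zero_mem' := ⟨0, 0, q1.zero_mem, by simp⟩
      smul_mem' := by
        rintro b x ⟨j, s, hs, hsx⟩
        obtain ⟨l, hl⟩ := hrx b
        refine ⟨l + j, ⟨r ^ l * b, hl⟩ * s, q1.mul_mem_left _ hs, ?_⟩
        push_cast
        rw [hsx, smul_eq_mul]
        ring }
  have hqmem : ∀ {x : B}, x ∈ q ↔ ∃ (j : ℕ) (s : S'), s ∈ q1 ∧ (s : B) = r ^ j * x := Iff.rfl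
  have hlift : ∀ {x : B}, x ∈ q → ∀ (j : ℕ) (s : S'), (s : B) = r ^ j * x → s ∈ q1 := by
    intro x hx j s hs
    obtain ⟨l, w, hw, hwx⟩ := hqmem.mp hx
    have h : rS ^ l * s = rS ^ j * w := by
      refine Subtype.ext ?_
      push_cast
      rw [hs, hwx]
      ring
    refine (hq1prime.mem_or_mem (h ▸ q1.mul_mem_left _ hw)).resolve_left ?_
    exact fun hh => hrq1 (hq1prime.mem_of_pow_mem _ hh)
  refine ⟨q, ?_, ?_, ?_, ?_, ?_⟩
  · refine ⟨(Ideal.ne_top_iff_one _).mpr fun h => ?_, fun {x y} hxy => ?_⟩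
    · exact hq1prime.ne_top ((Ideal.eq_top_iff_one _).mpr (hlift h 0 1 (by simp)))
    · obtain ⟨j, hj⟩ := hrx x
      obtain ⟨l, hl⟩ := hrx y
      rcases hq1prime.mem_or_mem (hlift hxy (j + l) (⟨_, hj⟩ * ⟨_, hl⟩) (by
        push_cast
        ring)) with h | h
      · exact Or.inl (hqmem.mpr ⟨j, _, h, rfl⟩)
      · exact Or.inr (hqmem.mpr ⟨l, _, h, rfl⟩)
  · intro x hx
    obtain ⟨j, s, hs, hsx⟩ := hqmem.mp hx
    have : (s : B) ∈ p := hq1p hs
    rw [hsx] at this
    exact ((inferInstance : p.IsPrime).mem_or_mem this).resolve_left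
      fun h => hrp ((inferInstance : p.IsPrime).mem_of_pow_mem _ h)
  · rw [eq_bot_iff]
    intro ρ hρ
    have h := hq1κ (algebraMap R P ρ) (hlift (Ideal.mem_comap.mp hρ) 0
      (algebraMap P S' (algebraMap R P ρ))
      (by
        simp only [pow_zero, one_mul]
        exact (IsScalarTower.algebraMap_apply R P B ρ).symm))
    rw [AlgHom.commutes] at h
    exact hRL (by rw [map_zero]; exact congrArg Subtype.val h)
  · intro h
    exact hcq1 (q1.mul_mem_left rS (hlift h mg ⟨_, hmg⟩ rfl))
  · intro x hxq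
    obtain ⟨j, hj⟩ := hrx x
    let s : S' := ⟨r ^ j * x, hj⟩
    have hs : s ∉ q1 := fun h => hxq (hqmem.mpr ⟨j, s, h, rfl⟩)
    obtain ⟨Q, hQmem, hQκ⟩ := Set.exists_of_ssubset (Ideal.comap_lt_comap_of_integral_mem_sdiff
      (R := P) (I := q1) (J := q1 ⊔ Ideal.span {s}) le_sup_left
      (x := s) ⟨Ideal.mem_sup_right (Ideal.mem_span_singleton_self s), hs⟩
      (Algebra.IsIntegral.isIntegral s))
    let D := P ⧸ κ
    haveI : Algebra.IsIntegral R D := Algebra.IsIntegral.of_injective
      (Ideal.kerLiftAlg θ) (Ideal.kerLiftAlg_injective θ)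
    have hQ0 : Ideal.Quotient.mk κ Q ≠ 0 := fun h => hQκ (by
      change Q ∈ q1.under P
      rw [← hq1over.over]
      exact Ideal.Quotient.eq_zero_iff_mem.mp h)
    obtain ⟨ρ, hρmem, hρ0⟩ := Submodule.exists_mem_ne_zero_of_ne_bot
      (Ideal.comap_ne_bot_of_integral_mem (R := R) hQ0
        (Ideal.mem_span_singleton_self (Ideal.Quotient.mk κ Q))
        (Algebra.IsIntegral.isIntegral _))
    obtain ⟨w, hw⟩ := Ideal.mem_span_singleton'.mp (Ideal.mem_comap.mp hρmem)
    obtain ⟨W, rfl⟩ := Ideal.Quotient.mk_surjective w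
    have hmem : algebraMap P S' (algebraMap R P ρ) ∈ q1 ⊔ Ideal.span {s} := by
      have h1 : algebraMap R P ρ - W * Q ∈ q1.under P := by
        rw [← hq1over.over]
        refine Ideal.Quotient.eq.mp ?_
        rw [map_mul]
        exact hw.symm
      have h2 : algebraMap P S' (W * Q) ∈ q1 ⊔ Ideal.span {s} := by
        rw [map_mul]
        exact Ideal.mul_mem_left _ _ hQmem
      have h3 := (q1 ⊔ Ideal.span {s}).add_mem (Ideal.mem_sup_left h1) h2
      rwa [map_sub, sub_add_cancel] at h3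
    obtain ⟨u, hu, v, hv, huv⟩ := Submodule.mem_sup.mp hmem
    obtain ⟨v', rfl⟩ := Ideal.mem_span_singleton'.mp hv
    refine ⟨ρ, hρ0, r ^ j * (v' : B), hqmem.mpr ⟨0, u, hu, ?_⟩⟩
    have := congrArg Subtype.val huv
    push_cast at this
    rw [IsScalarTower.algebraMap_apply R P B ρ]
    change (u : B) = r ^ 0 * (algebraMap P B (algebraMap R P ρ) - x * (r ^ j * (v' : B)))
    rw [show algebraMap P B (algebraMap R P ρ) = (u : B) + (v' : B) * (r ^ j * x) from this.symm]
    ring

/-- Ring form of the density of closed points of a fibre between a specialization. -/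
theorem exists_closed_in_fibre_between {A B : Type u} [CommRing A] [CommRing B] [Algebra A B]
    [Algebra.FiniteType A B] (px p' : Ideal B) [px.IsPrime] [p'.IsPrime] (hle : px ≤ p')
    (hne : px.comap (algebraMap A B) ≠ p'.comap (algebraMap A B))
    (hmax : ∀ q : Ideal B, q.IsPrime → p' ≤ q →
      q.comap (algebraMap A B) = p'.comap (algebraMap A B) → q = p')
    (g : B) (hg : g ∉ px) :
    ∃ q : Ideal B, q.IsPrime ∧ px ≤ q ∧ q ≤ p' ∧
      q.comap (algebraMap A B) = px.comap (algebraMap A B) ∧ g ∉ q ∧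
      ∀ q' : Ideal B, q'.IsPrime → q ≤ q' →
        q'.comap (algebraMap A B) = px.comap (algebraMap A B) → q' = q := by
  classical
  let K := FractionRing (B ⧸ px)
  let β : B →+* K := (algebraMap (B ⧸ px) K).comp (Ideal.Quotient.mk px)
  have hβ0 : ∀ {b : B}, β b = 0 ↔ b ∈ px := by
    intro b
    change algebraMap (B ⧸ px) K (Ideal.Quotient.mk px b) = 0 ↔ _
    rw [IsFractionRing.to_map_eq_zero_iff, Ideal.Quotient.eq_zero_iff_mem]
  have hunit : ∀ y : p'.primeCompl, IsUnit (β y) := fun y =>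
    isUnit_iff_ne_zero.mpr fun h => y.2 (hle (hβ0.mp h))
  let fl : Localization.AtPrime p' →+* K := IsLocalization.lift (M := p'.primeCompl) hunit
  have hfl : ∀ b, fl (algebraMap B _ b) = β b := fun b => IsLocalization.lift_eq hunit b
  obtain ⟨V, hV, hVloc⟩ := IsLocalRing.exists_factor_valuationRing fl
  have hβV : ∀ b, β b ∈ V := fun b => hfl b ▸ hV _
  have hcenter : ∀ b, (⟨β b, hβV b⟩ : V) ∈ IsLocalRing.maximalIdeal V ↔ b ∈ p' := by
    intro b
    have h1 : fl.codRestrict V.toSubring hV (algebraMap B _ b) = ⟨β b, hβV b⟩ :=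
      Subtype.ext (hfl b)
    rw [IsLocalRing.mem_maximalIdeal, mem_nonunits_iff]
    constructor
    · intro h
      by_contra hb
      refine h (h1 ▸ ?_)
      exact IsUnit.map (fl.codRestrict V.toSubring hV)
        (IsLocalization.map_units (M := p'.primeCompl) (Localization.AtPrime p') ⟨b, hb⟩)
    · intro hb hu
      have := hVloc.map_nonunit (algebraMap B _ b) (h1 ▸ hu)
      exact (IsLocalization.AtPrime.isUnit_to_map_iff (Localization.AtPrime p') p' b).mp this hb
  let α : A →+* K := β.comp (algebraMap A B)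
  let K₀ : Subfield K := Subfield.closure (Set.range α)
  let R : ValuationSubring K₀ := V.comap K₀.subtype
  let eR : R →+* K := K₀.subtype.comp R.subtype
  letI : Algebra R K := eR.toAlgebra
  have heR : Function.Injective eR := K₀.subtype.injective.comp Subtype.val_injective
  have hαR : ∀ a, ∃ r : R, eR r = α a := fun a =>
    ⟨⟨⟨α a, Subfield.subset_closure ⟨a, rfl⟩⟩, hβV _⟩, rfl⟩
  obtain ⟨gens, hgens⟩ := (inferInstance : Algebra.FiniteType A B).out
  let B2 : Subalgebra R K := Algebra.adjoin R ((gens.image β : Finset K) : Set K)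
  haveI : Algebra.FiniteType R B2 :=
    (Subalgebra.fg_iff_finiteType _).mp (Subalgebra.fg_adjoin_finset _)
  have hB2V : ∀ z ∈ B2, z ∈ V := by
    intro z hz
    induction hz using Algebra.adjoin_induction with
    | mem z hz =>
      obtain ⟨b, -, rfl⟩ := Finset.mem_image.mp (Finset.mem_coe.mp hz)
      exact hβV b
    | algebraMap r => exact r.2
    | add _ _ _ _ ha hb => exact add_mem ha hb
    | mul _ _ _ _ ha hb => exact mul_mem ha hb
  have hβB2 : ∀ b, β b ∈ B2 := by
    intro b
    have hb : b ∈ Algebra.adjoin A (gens : Set B) := hgens ▸ Algebra.mem_top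
    induction hb using Algebra.adjoin_induction with
    | mem z hz =>
      exact Algebra.subset_adjoin (Finset.mem_coe.mpr (Finset.mem_image_of_mem _ hz))
    | algebraMap a =>
      obtain ⟨r, hr⟩ := hαR a
      change α a ∈ B2
      rw [← hr]
      exact B2.algebraMap_mem r
    | add _ _ _ _ ha hb => rw [map_add]; exact add_mem ha hb
    | mul _ _ _ _ ha hb => rw [map_mul]; exact mul_mem ha hb
  -- denominators
  have hden : ∀ z ∈ B2, ∃ (a : A) (b : B), algebraMap A B a ∉ px ∧ α a * z = β b := by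
    intro z hz
    induction hz using Algebra.adjoin_induction with
    | mem z hz =>
      obtain ⟨b, -, rfl⟩ := Finset.mem_image.mp (Finset.mem_coe.mp hz)
      exact ⟨1, b, by rw [map_one]; exact px.one_notMem, by rw [map_one, one_mul]⟩
    | algebraMap r =>
      obtain ⟨y, hy, w, hw, hyw⟩ := Subfield.mem_closure_iff.mp (r : K₀).2
      rw [← RingHom.coe_range, Subring.closure_eq] at hy hw
      obtain ⟨a1, rfl⟩ := hy
      obtain ⟨a2, rfl⟩ := hw
      change ∃ a b, _ ∧ α a * ((r : K₀) : K) = β b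
      rw [← hyw]
      by_cases h2 : algebraMap A B a2 ∈ px
      · refine ⟨1, 0, by rw [map_one]; exact px.one_notMem, ?_⟩
        have : α a2 = 0 := hβ0.mpr h2
        rw [this, div_zero, mul_zero, map_zero]
      · have : α a2 ≠ 0 := fun h => h2 (hβ0.mp h)
        exact ⟨a2, algebraMap A B a1, h2, mul_div_cancel₀ _ this⟩
    | add x y _ _ hx hy =>
      obtain ⟨a, b, ha, hb⟩ := hx
      obtain ⟨c, d, hc, hd⟩ := hy
      refine ⟨a * c, algebraMap A B c * b + algebraMap A B a * d, ?_, ?_⟩
      · rw [map_mul]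
        exact fun h => (‹px.IsPrime›.mem_or_mem h).elim ha hc
      · change _ = β _
        rw [map_mul α, map_add, map_mul β, map_mul β, ← hb, ← hd]
        change _ = α c * _ + α a * _
        ring
    | mul x y _ _ hx hy =>
      obtain ⟨a, b, ha, hb⟩ := hx
      obtain ⟨c, d, hc, hd⟩ := hy
      refine ⟨a * c, b * d, ?_, ?_⟩
      · rw [map_mul]
        exact fun h => (‹px.IsPrime›.mem_or_mem h).elim ha hc
      · rw [map_mul β, ← hb, ← hd, map_mul α]
        ring
  let ι2 : B2 →+* V := B2.val.toRingHom.codRestrict V.toSubring fun z => hB2V _ z.2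
  let β2 : B →+* B2 := β.codRestrict B2 hβB2
  let p2 : Ideal B2 := (IsLocalRing.maximalIdeal V).comap ι2
  obtain ⟨p2m, hp2m, hp2le⟩ := Ideal.exists_le_maximal p2 (Ideal.IsPrime.ne_top inferInstance)
  -- the maximal ideal of `R` is the trace of that of `V`
  have hmR : IsLocalRing.maximalIdeal R ≤ p2.comap (algebraMap R B2) := by
    intro r hr
    change ι2 (algebraMap R B2 r) ∈ IsLocalRing.maximalIdeal V
    rw [IsLocalRing.mem_maximalIdeal, mem_nonunits_iff] at hr ⊢
    intro hu
    refine hr ?_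
    have hne0 : ((r : K₀) : K) ≠ 0 := fun h => by
      have : ι2 (algebraMap R B2 r) = 0 := Subtype.ext h
      exact not_isUnit_zero (this ▸ hu)
    obtain ⟨v, hv⟩ := hu.exists_right_inv
    refine IsUnit.of_mul_eq_one ⟨(r : K₀)⁻¹, ?_⟩ (Subtype.ext ?_)
    · have hv' : ((r : K₀) : K) * (v : K) = 1 := congrArg Subtype.val hv
      change (((r : K₀)⁻¹ : K₀) : K) ∈ V
      rw [Subfield.coe_inv, ← eq_inv_of_mul_eq_one_right hv']
      exact v.2
    · change (r : K₀) * (r : K₀)⁻¹ = 1
      exact mul_inv_cancel₀ fun h => hne0 (congrArg Subtype.val h)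
  have hp2mR : p2m.comap (algebraMap R B2) = IsLocalRing.maximalIdeal R :=
    ((IsLocalRing.maximalIdeal.isMaximal R).eq_of_le (Ideal.IsPrime.ne_top inferInstance)
      (hmR.trans (Ideal.comap_mono hp2le))).symm
  have hR : IsLocalRing.maximalIdeal R ≠ ⊥ := by
    obtain ⟨a, ha, ha'⟩ : ∃ a, algebraMap A B a ∈ p' ∧ algebraMap A B a ∉ px := by
      by_contra! h
      exact hne (le_antisymm (Ideal.comap_mono hle) fun a ha => h a ha)
    obtain ⟨r, hr⟩ := hαR a
    intro hbot
    have hmem : r ∈ IsLocalRing.maximalIdeal R := by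
      rw [← hp2mR]
      refine hp2le ?_
      change ι2 (algebraMap R B2 r) ∈ IsLocalRing.maximalIdeal V
      have : ι2 (algebraMap R B2 r) = ⟨β (algebraMap A B a), hβV _⟩ := Subtype.ext hr
      rw [this, hcenter]
      exact ha
    rw [hbot, Ideal.mem_bot] at hmem
    rw [hmem, map_zero] at hr
    exact ha' (hβ0.mp hr.symm)
  have hg2 : β2 g ≠ 0 := fun h => hg (hβ0.mp (congrArg Subtype.val h))
  obtain ⟨q2, hq2, hq2le, hq2R, hq2g, hq2alg⟩ := exists_closed_generic_below
    (R := R) (B := B2) (fun r s h => heR (congrArg (fun z : B2 => (z : K)) h)) hR p2m hp2mR (β2 g) hg2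
  have hp2B : p2.comap β2 = p' := Ideal.ext fun b => hcenter b
  have hp2mB : p2m.comap β2 = p' := by
    refine hmax _ inferInstance (hp2B ▸ Ideal.comap_mono hp2le) ?_
    ext a
    obtain ⟨r, hr⟩ := hαR a
    have h2 : β2 (algebraMap A B a) = algebraMap R B2 r := Subtype.ext hr.symm
    rw [← hp2B]
    simp only [Ideal.mem_comap, h2]
    refine ⟨fun h => hmR ?_, fun h => hp2le h⟩
    rw [← hp2mR]
    exact h
  have hpx : px ≤ q2.comap β2 := fun b hb => by
    have : β2 b = 0 := Subtype.ext (hβ0.mpr hb)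
    change β2 b ∈ q2
    rw [this]
    exact q2.zero_mem
  have hqA : (q2.comap β2).comap (algebraMap A B) = px.comap (algebraMap A B) := by
    refine le_antisymm (fun a ha => ?_) (Ideal.comap_mono hpx)
    obtain ⟨r, hr⟩ := hαR a
    have h2 : β2 (algebraMap A B a) = algebraMap R B2 r := Subtype.ext hr.symm
    have hr0 : r ∈ q2.comap (algebraMap R B2) := by
      change algebraMap R B2 r ∈ q2
      rw [← h2]
      exact ha
    rw [hq2R, Ideal.mem_bot] at hr0
    rw [hr0, map_zero] at hr
    exact hβ0.mp hr.symm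
  refine ⟨q2.comap β2, inferInstance, hpx, hp2mB ▸ Ideal.comap_mono hq2le, hqA, hq2g,
    fun q' hq' hle' hq'A => le_antisymm (fun x hx => ?_) hle'⟩
  by_contra hxq
  obtain ⟨ρ, hρ, y, hy⟩ := hq2alg (β2 x) hxq
  obtain ⟨a3, b, ha3, hb⟩ := hden _ y.2
  obtain ⟨a2, b2, ha2, hb2⟩ := hden _ (B2.algebraMap_mem ρ)
  -- `a3 a2 ρ - a2 x (a3 y)` lies in the prime
  have key : algebraMap A B a3 * b2 - algebraMap A B a2 * x * b ∈ q2.comap β2 := by
    change β2 _ ∈ q2
    have : β2 (algebraMap A B a3 * b2 - algebraMap A B a2 * x * b) =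
        β2 (algebraMap A B a3 * algebraMap A B a2) * (algebraMap R B2 ρ - β2 x * y) := by
      refine Subtype.ext ?_
      simp only [map_sub, map_mul]
      change β (algebraMap A B a3) * β b2 - β (algebraMap A B a2) * β x * β b =
        β (algebraMap A B a3) * β (algebraMap A B a2) * (algebraMap R K ρ - β x * (y : K))
      rw [← hb, ← hb2]
      change α a3 * (α a2 * _) - α a2 * β x * (α a3 * _) = α a3 * α a2 * _
      ring
    rw [this]
    exact q2.mul_mem_left _ hy
  -- `b2` can be chosen in the image of `A`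
  obtain ⟨y1, hy1, w1, hw1, hyw⟩ := Subfield.mem_closure_iff.mp (ρ : K₀).2
  rw [← RingHom.coe_range, Subring.closure_eq] at hy1 hw1
  obtain ⟨c1, rfl⟩ := hy1
  obtain ⟨c2, rfl⟩ := hw1
  have hb2q' : b2 ∈ q' := by
    have h1 := hle' key
    have h2 : algebraMap A B a2 * x * b ∈ q' := q'.mul_mem_right _ (q'.mul_mem_left _ hx)
    have h3 : algebraMap A B a3 * b2 ∈ q' := by
      have := q'.add_mem h1 h2
      rwa [sub_add_cancel] at this
    exact (hq'.mem_or_mem h3).resolve_left fun h => ha3 (hq'A.le h)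
  have hc2 : α c2 ≠ 0 := fun h => hρ (heR (by
    rw [map_zero]
    change ((ρ : K₀) : K) = 0
    rw [← hyw, h, div_zero]))
  have hρK : ((ρ : K₀) : K) * α c2 = α c1 := by rw [← hyw, div_mul_cancel₀ _ hc2]
  have hcmp : algebraMap A B c2 * b2 - algebraMap A B a2 * algebraMap A B c1 ∈ px := by
    refine hβ0.mp ?_
    rw [map_sub, map_mul, map_mul, ← hb2]
    change α c2 * (α a2 * ((ρ : K₀) : K)) - α a2 * α c1 = 0
    rw [← hρK]
    ring
  have h4 : algebraMap A B (a2 * c1) ∈ q' := by
    have := q'.sub_mem (q'.mul_mem_left (algebraMap A B c2) hb2q') (hle' (hpx hcmp))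
    rw [sub_sub_cancel] at this
    rwa [map_mul]
  have h5 : algebraMap A B (a2 * c1) ∈ px := hq'A.le h4
  rw [map_mul] at h5
  refine (‹px.IsPrime›.mem_or_mem h5).elim ha2 fun h => hρ (heR ?_)
  rw [map_zero]
  change ((ρ : K₀) : K) = 0
  rw [← hyw]
  rw [show α c1 = 0 from hβ0.mpr h, zero_div]

open AlgebraicGeometry CategoryTheory in
/-- Closed points of a fibre between a specialization are dense. -/
theorem exists_closed_point_of_fibre_between {X S : Scheme.{u}} (f : X ⟶ S) [LocallyOfFiniteType f]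
    (x x' : X) (hsp : x ⤳ x') (hne : f x ≠ f x')
    (hcl : IsClosed (Subtype.val ⁻¹' {x'} : Set ↑(f ⁻¹' {f x'}))) (O : Set X) (hO : IsOpen O)
    (hxO : x ∈ O) :
    ∃ x₁ ∈ O, f x₁ = f x ∧ IsClosed (Subtype.val ⁻¹' {x₁} : Set ↑(f ⁻¹' {f x})) ∧
      x ⤳ x₁ ∧ x₁ ⤳ x' := by
  obtain ⟨_, ⟨V, hV, rfl⟩, hx'V, -⟩ :=
    S.isBasis_affineOpens.exists_subset_of_mem_open (Set.mem_univ (f x')) isOpen_univ
  obtain ⟨_, ⟨U, hU, rfl⟩, hx'U, hUV⟩ := X.isBasis_affineOpens.exists_subset_of_mem_open
    (show x' ∈ ((f ⁻¹ᵁ V : X.Opens) : Set X) from hx'V) (f ⁻¹ᵁ V).2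
  have e : U ≤ f ⁻¹ᵁ V := hUV
  have hxU : x ∈ U := hsp.mem_open U.2 hx'U
  obtain ⟨g, hgO, hxg⟩ := hU.exists_basicOpen_le (V := U ⊓ ⟨O, hO⟩) ⟨x, hxU, hxO⟩ hxU
  algebraize [(f.appLE V U e).hom]
  haveI : Algebra.FiniteType Γ(S, V) Γ(X, U) := f.finiteType_appLE hV hU e
  have hfs : ∀ (z : X) (hz : z ∈ U),
      (hU.primeIdealOf ⟨z, hz⟩).comap (f.appLE V U e).hom = hV.primeIdealOf ⟨f z, e hz⟩ :=
    fun z hz => IsAffineOpen.comap_primeIdealOf_appLE V hV U hU e hz
  have hspec : ∀ (z w : X) (hz : z ∈ U) (hw : w ∈ U),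
      z ⤳ w ↔ (hU.primeIdealOf ⟨z, hz⟩).asIdeal ≤ (hU.primeIdealOf ⟨w, hw⟩).asIdeal := by
    intro z w hz hw
    have h := (hU.fromSpec.isOpenEmbedding.isInducing.specializes_iff
      (x := hU.primeIdealOf ⟨z, hz⟩) (y := hU.primeIdealOf ⟨w, hw⟩))
    rw [hU.fromSpec_primeIdealOf, hU.fromSpec_primeIdealOf] at h
    rw [h]
    exact (PrimeSpectrum.le_iff_specializes _ _).symm
  have hfeq : ∀ (z w : X) (hz : z ∈ U) (hw : w ∈ U),
      (f z = f w ↔ (hU.primeIdealOf ⟨z, hz⟩).asIdeal.comap (algebraMap Γ(S, V) Γ(X, U)) =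
        (hU.primeIdealOf ⟨w, hw⟩).asIdeal.comap (algebraMap Γ(S, V) Γ(X, U))) := by
    intro z w hz hw
    have hz' := congrArg PrimeSpectrum.asIdeal (hfs z hz)
    have hw' := congrArg PrimeSpectrum.asIdeal (hfs w hw)
    change (hU.primeIdealOf ⟨z, hz⟩).asIdeal.comap (algebraMap Γ(S, V) Γ(X, U)) = _ at hz'
    change (hU.primeIdealOf ⟨w, hw⟩).asIdeal.comap (algebraMap Γ(S, V) Γ(X, U)) = _ at hw'
    rw [hz', hw']
    constructor
    · intro h
      exact congrArg PrimeSpectrum.asIdeal (congrArg hV.primeIdealOf (Subtype.ext h))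
    · intro h
      have := congrArg hV.fromSpec (PrimeSpectrum.ext h)
      rwa [hV.fromSpec_primeIdealOf, hV.fromSpec_primeIdealOf] at this
  have hpt : ∀ q : Ideal Γ(X, U), q.IsPrime → ∃ (z : X) (hz : z ∈ U),
      (hU.primeIdealOf ⟨z, hz⟩).asIdeal = q := by
    intro q hq
    have hz : hU.fromSpec ⟨q, hq⟩ ∈ U := hU.range_fromSpec.le ⟨_, rfl⟩
    refine ⟨_, hz, ?_⟩
    exact congrArg PrimeSpectrum.asIdeal
      (hU.fromSpec.isOpenEmbedding.injective (hU.fromSpec_primeIdealOf ⟨_, hz⟩))
  obtain ⟨q, hq, hxq, hqx', hqA, hgq, hqmax⟩ := exists_closed_in_fibre_between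
    (A := Γ(S, V)) (hU.primeIdealOf ⟨x, hxU⟩).asIdeal (hU.primeIdealOf ⟨x', hx'U⟩).asIdeal
    ((hspec x x' hxU hx'U).mp hsp) (fun h => hne ((hfeq x x' hxU hx'U).mpr h))
    (fun q hq hle hqA => by
      obtain ⟨z, hz, rfl⟩ := hpt q hq
      have hfz : f z = f x' := (hfeq z x' hz hx'U).mpr hqA
      have hs : x' ⤳ z := (hspec x' z hx'U hz).mpr hle
      have hs' : (⟨x', rfl⟩ : ↑(f ⁻¹' {f x'})) ⤳ ⟨z, hfz⟩ := (subtype_specializes_iff _ _).mpr hs
      have hzz : (⟨z, hfz⟩ : ↑(f ⁻¹' {f x'})) ∈ Subtype.val ⁻¹' {x'} :=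
        hs'.mem_closed hcl rfl
      change z = x' at hzz
      subst hzz
      rfl)
    g ((mem_basicOpen_iff_notMem_primeIdealOf hU ⟨x, hxU⟩ g).mp hxg)
  obtain ⟨x₁, hx₁, rfl⟩ := hpt q hq
  have hfx₁ : f x₁ = f x := (hfeq x₁ x hx₁ hxU).mpr hqA
  refine ⟨x₁, ?_, hfx₁, ?_, (hspec x x₁ hxU hx₁).mpr hxq, (hspec x₁ x' hx₁ hx'U).mpr hqx'⟩
  · have : x₁ ∈ X.basicOpen g :=
      (mem_basicOpen_iff_notMem_primeIdealOf hU ⟨x₁, hx₁⟩ g).mpr hgq
    exact (hgO this).2
  · haveI : JacobsonSpace ↑(f ⁻¹' {f x}) :=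
      JacobsonSpace.of_isOpenEmbedding (f.fiberHomeo (f x)).symm.isOpenEmbedding
    have hset : (Subtype.val ⁻¹' {x₁} : Set ↑(f ⁻¹' {f x})) = {⟨x₁, hfx₁⟩} := by
      ext z
      simp [Subtype.ext_iff]
    rw [hset]
    refine isClosed_singleton_of_isLocallyClosed_singleton ?_
    refine ⟨Subtype.val ⁻¹' (U : Set X), closure {⟨x₁, hfx₁⟩},
      U.2.preimage continuous_subtype_val, isClosed_closure, ?_⟩
    refine Set.Subset.antisymm (Set.singleton_subset_iff.mpr ⟨hx₁, subset_closure rfl⟩) ?_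
    rintro ⟨z, hfz⟩ ⟨hz, hzc⟩
    have hs : x₁ ⤳ z := (subtype_specializes_iff _ _).mp (specializes_iff_mem_closure.mpr hzc)
    have := hqmax _ inferInstance ((hspec x₁ z hx₁ hz).mp hs) ((hfeq z x hz hxU).mp hfz)
    refine Subtype.ext ?_
    have h2 := congrArg hU.fromSpec (PrimeSpectrum.ext this)
    rwa [hU.fromSpec_primeIdealOf, hU.fromSpec_primeIdealOf] at h2

end Groth.FlatMor2
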