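import Mathlib
import Groth.Agent.SpectralTopology.Spectral

/-!
Completely decomposed morphisms locally of finite presentation have sections over the members of a
finite cover by finitely presented immersions.
-/

universe u

open AlgebraicGeometry CategoryTheory Limits Topology

namespace Groth.FlatMor2

set_option linter.style.haveILetI false

theorem exists_lift_mod_fg {A B K : Type u} [CommRing A] [CommRing B] [Algebra A B]
    [Algebra.FinitePresentation A B] [Field K] (ψ : B →+* K)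
    (hfrac : ∀ c : K, ∃ a s : A, ψ (algebraMap A B s) ≠ 0 ∧
      c * ψ (algebraMap A B s) = ψ (algebraMap A B a)) :
    ∃ (s : A) (J : Ideal (Localization.Away s)), J.FG ∧
      (∃ e : Localization.Away s →+* K, e.comp (algebraMap A _) = ψ.comp (algebraMap A B) ∧
        J ≤ RingHom.ker e) ∧ Nonempty (B →ₐ[A] Localization.Away s ⧸ J) := by
  classical
  obtain ⟨n, f, hf, hker⟩ := ‹Algebra.FinitePresentation A B›
  choose a t ht hat using fun i : Fin n => hfrac (ψ (f (MvPolynomial.X i)))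
  let s := ∏ i, t i
  let ε := ψ.comp (algebraMap A B)
  have hs : ε s ≠ 0 := by
    simp only [s, map_prod]
    exact Finset.prod_ne_zero_iff.mpr fun i _ => ht i
  let e : Localization.Away s →+* K := IsLocalization.Away.lift s (isUnit_iff_ne_zero.mpr hs)
  have he : ∀ x, e (algebraMap A _ x) = ε x := IsLocalization.Away.lift_eq s _
  have hu : ∀ i, IsUnit (algebraMap A (Localization.Away s) (t i)) := by
    intro i
    refine isUnit_of_dvd_unit ?_ (IsLocalization.Away.algebraMap_isUnit (S := Localization.Away s) s)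
    exact map_dvd _ (Finset.dvd_prod_of_mem t (Finset.mem_univ i))
  let v : Fin n → Localization.Away s := fun i => algebraMap A _ (a i) * ↑(hu i).unit⁻¹
  have hev : ∀ i, e (v i) = ψ (f (MvPolynomial.X i)) := by
    intro i
    refine mul_right_cancel₀ (ht i) ?_
    rw [hat i]
    change e (v i) * ε (t i) = ε (a i)
    rw [← he, ← map_mul, ← he]
    congr 1
    rw [mul_assoc, IsUnit.val_inv_mul, mul_one]
  let g : MvPolynomial (Fin n) A →ₐ[A] Localization.Away s := MvPolynomial.aeval v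
  have hg : e.comp g.toRingHom = ψ.comp f.toRingHom := by
    refine MvPolynomial.ringHom_ext (fun x => ?_) (fun i => ?_)
    · change e (MvPolynomial.aeval v (MvPolynomial.C x)) = ψ (f (MvPolynomial.C x))
      rw [MvPolynomial.aeval_C, he, ← MvPolynomial.algebraMap_eq, AlgHom.commutes]
      rfl
    · change e (MvPolynomial.aeval v (MvPolynomial.X i)) = _
      rw [MvPolynomial.aeval_X, hev]
      rfl
  refine ⟨s, (RingHom.ker f.toRingHom).map g.toRingHom, hker.map _, ⟨e, RingHom.ext he, ?_⟩, ?_⟩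
  · rw [Ideal.map_le_iff_le_comap]
    intro r hr
    change e (g.toRingHom r) = 0
    rw [← RingHom.comp_apply, hg, RingHom.comp_apply, RingHom.mem_ker.mp hr, map_zero]
  · exact ⟨AlgHom.liftOfSurjective f hf ((Ideal.Quotient.mkₐ A _).comp g) fun r hr => by
      change Ideal.Quotient.mk _ (g r) = 0
      exact Ideal.Quotient.eq_zero_iff_mem.mpr (Ideal.mem_map_of_mem _ hr)⟩

theorem exists_immersion_with_section {X Y : Scheme.{u}} (f : X ⟶ Y) [LocallyOfFinitePresentation f]
    [CompactSpace Y] [QuasiSeparatedSpace Y] (y : Y) (x : X) (hxy : f x = y)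
    (hbij : Function.Bijective (f.residueFieldMap x)) :
    ∃ (Z : Scheme.{u}) (z : Z ⟶ Y), IsImmersion z ∧ LocallyOfFinitePresentation z ∧
      QuasiCompact z ∧ QuasiSeparated z ∧ y ∈ Set.range z ∧ ∃ s₀ : Z ⟶ X, s₀ ≫ f = z := by
  subst hxy
  obtain ⟨_, ⟨V, hV, rfl⟩, hxV, -⟩ :=
    Y.isBasis_affineOpens.exists_subset_of_mem_open (Set.mem_univ (f x)) isOpen_univ
  obtain ⟨_, ⟨U, hU, rfl⟩, hxU, hUV⟩ := X.isBasis_affineOpens.exists_subset_of_mem_open
    (show x ∈ ((f ⁻¹ᵁ V : X.Opens) : Set X) from hxV) (f ⁻¹ᵁ V).2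
  have e : U ≤ f ⁻¹ᵁ V := hUV
  algebraize [(f.appLE V U e).hom]
  haveI : Algebra.FinitePresentation Γ(Y, V) Γ(X, U) := f.finitePresentation_appLE hV hU e
  let σ := RingEquiv.ofBijective (f.residueFieldMap x).hom hbij
  let ψ : Γ(X, U) →+* Y.residueField (f x) := σ.symm.toRingHom.comp (X.evaluation U x hxU).hom
  have hψ : ∀ a, ψ (algebraMap Γ(Y, V) Γ(X, U) a) = Y.evaluation V (f x) hxV a := by
    intro a
    change σ.symm (X.evaluation U x hxU (f.appLE V U e a)) = _
    rw [RingEquiv.symm_apply_eq]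
    change _ = f.residueFieldMap x (Y.evaluation V (f x) hxV a)
    rw [Scheme.evaluation_naturality_apply, Scheme.Hom.appLE]
    simp only [Scheme.evaluation, CommRingCat.comp_apply]
    erw [TopCat.Presheaf.germ_res_apply]
  have hfrac : ∀ c : Y.residueField (f x), ∃ a t : Γ(Y, V), ψ (algebraMap Γ(Y, V) Γ(X, U) t) ≠ 0 ∧
      c * ψ (algebraMap Γ(Y, V) Γ(X, U) t) = ψ (algebraMap Γ(Y, V) Γ(X, U) a) := by
    intro c
    obtain ⟨c', rfl⟩ := Y.residue_surjective (f x) c
    haveI := hV.isLocalization_stalk ⟨f x, hxV⟩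
    letI := TopCat.Presheaf.algebra_section_stalk Y.presheaf ⟨f x, hxV⟩
    obtain ⟨⟨a, t⟩, hat⟩ := IsLocalization.surj
      (hV.primeIdealOf ⟨f x, hxV⟩).asIdeal.primeCompl c'
    refine ⟨a, t, ?_, ?_⟩
    · rw [hψ]
      exact ((IsLocalization.map_units _ t).map (Y.residue (f x)).hom).ne_zero
    · rw [hψ, hψ]
      exact ((map_mul (Y.residue (f x)).hom c' _).symm.trans (congrArg _ hat))
  obtain ⟨s, J, hJ, ⟨ev, hev, hJev⟩, ⟨χ⟩⟩ := exists_lift_mod_fg ψ hfrac
  let z₁ : Spec (.of (Localization.Away s ⧸ J)) ⟶ Spec (.of (Localization.Away s)) :=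
    Spec.map (CommRingCat.ofHom (Ideal.Quotient.mk J))
  let z₂ : Spec (.of (Localization.Away s)) ⟶ Spec Γ(Y, V) :=
    Spec.map (CommRingCat.ofHom (algebraMap Γ(Y, V) (Localization.Away s)))
  haveI : IsClosedImmersion z₁ :=
    IsClosedImmersion.spec_of_surjective _ Ideal.Quotient.mk_surjective
  haveI : LocallyOfFinitePresentation z₁ := by
    refine (HasRingHomProperty.Spec_iff (P := @LocallyOfFinitePresentation)).mpr ?_
    exact RingHom.FinitePresentation.of_surjective _ Ideal.Quotient.mk_surjective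
      (by rwa [CommRingCat.hom_ofHom, Ideal.mk_ker])
  haveI : IsOpenImmersion z₂ := IsOpenImmersion.of_isLocalization s
  let z := z₁ ≫ z₂ ≫ hV.fromSpec
  haveI : IsImmersion z := inferInstanceAs (IsImmersion (z₁ ≫ z₂ ≫ hV.fromSpec))
  refine ⟨_, z, inferInstance, inferInstanceAs (LocallyOfFinitePresentation (z₁ ≫ z₂ ≫ hV.fromSpec)),
    inferInstance, inferInstance, ?_, Spec.map (CommRingCat.ofHom χ.toRingHom) ≫ hU.fromSpec, ?_⟩
  · let e' : Localization.Away s ⧸ J →+* Y.residueField (f x) :=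
      Ideal.Quotient.lift J ev fun a ha => hJev ha
    refine ⟨Spec.map (CommRingCat.ofHom e') (IsLocalRing.closedPoint _), ?_⟩
    have : Spec.map (CommRingCat.ofHom e') ≫ z = Y.fromSpecResidueField (f x) := by
      simp only [z, z₁, z₂, ← Spec.map_comp_assoc]
      rw [Scheme.fromSpecResidueField, ← hV.fromSpecStalk_eq_fromSpecStalk hxV,
        IsAffineOpen.fromSpecStalk, ← Spec.map_comp_assoc]
      congr 2
      refine CommRingCat.hom_ext (RingHom.ext fun a => ?_)
      change e' (Ideal.Quotient.mk J (algebraMap _ _ a)) = _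
      rw [Ideal.Quotient.lift_mk]
      exact (RingHom.congr_fun hev a).trans (hψ a)
    rw [← Scheme.Hom.comp_apply, this]
    exact Y.fromSpecResidueField_apply _ _
  · rw [Category.assoc, ← IsAffineOpen.SpecMap_appLE_fromSpec f hV hU e, ← Spec.map_comp_assoc]
    simp only [z, z₁, z₂, ← Spec.map_comp_assoc]
    congr 2
    exact CommRingCat.hom_ext χ.comp_algebraMap

theorem exists_finite_subcover_constructible {T : Type*} [TopologicalSpace T] [CompactSpace T]
    [QuasiSober T] [PrespectralSpace T] [QuasiSeparatedSpace T] {ι : Type*} (E : ι → Set T)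
    (hE : ∀ i, IsConstructible (E i)) (hcov : ∀ y, ∃ i, y ∈ E i) :
    ∃ t : Finset ι, ∀ y, ∃ i ∈ t, y ∈ E i := by
  obtain ⟨t, ht⟩ := @IsCompact.elim_finite_subcover T (constructibleTopology T) _ _
    (@CompactSpace.isCompact_univ T (constructibleTopology T)
      Groth.SpectralTopology.compactSpace_ct) E
    (fun i => (Groth.SpectralTopology.isClopen_ct_of_isConstructible (hE i)).2)
    fun y _ => Set.mem_iUnion.mpr (hcov y)
  exact ⟨t, fun y => let ⟨i, hi, hy⟩ := Set.mem_iUnion₂.mp (ht (Set.mem_univ y)); ⟨i, hi, hy⟩⟩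

theorem exists_finite_cover_with_sections {X Y : Scheme.{u}} (f : X ⟶ Y)
    [LocallyOfFinitePresentation f] [CompactSpace Y] [QuasiSeparatedSpace Y]
    (hcd : ∀ y : Y, ∃ x : X, f x = y ∧ Function.Bijective (f.residueFieldMap x)) :
    ∃ (n : ℕ) (Z : Fin n → Scheme.{u}) (z : ∀ i, Z i ⟶ Y),
      (∀ y : Y, ∃ i, y ∈ Set.range ⇑(z i)) ∧
      ∀ i, IsImmersion (z i) ∧ LocallyOfFinitePresentation (z i) ∧ QuasiCompact (z i) ∧
        QuasiSeparated (z i) ∧ ∃ s : Z i ⟶ pullback f (z i), s ≫ pullback.snd f (z i) = 𝟙 (Z i) := by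
  classical
  choose x hx hbij using hcd
  choose Z z h1 h2 h3 h4 hy s₀ hs₀ using fun y =>
    exists_immersion_with_section f y (x y) (hx y) (hbij y)
  obtain ⟨t, ht⟩ := exists_finite_subcover_constructible (fun y => Set.range (z y)) (fun y => by
    haveI := h2 y
    haveI := h3 y
    have hc := Scheme.Hom.isConstructible_image (z y) (s := Set.univ) IsConstructible.univ
    rwa [Set.image_univ] at hc) fun y => ⟨y, hy y⟩
  refine ⟨t.card, fun i => Z (t.equivFin.symm i), fun i => z (t.equivFin.symm i), fun y => ?_,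
    fun i => ⟨h1 _, h2 _, h3 _, h4 _,
      pullback.lift (s₀ _) (𝟙 _) (by rw [hs₀, Category.id_comp]), pullback.lift_snd _ _ _⟩⟩
  obtain ⟨w, hw, hyw⟩ := ht y
  refine ⟨t.equivFin ⟨w, hw⟩, ?_⟩
  beta_reduce
  rwa [t.equivFin.symm_apply_apply]

end Groth.FlatMor2
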