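import Groth.Agent.FibreDim.Constructible
import Groth.Agent.FibreDim.BaseChange
import Groth.Agent.FibreDim.Retrocompact
import Mathlib.RingTheory.Spectrum.Prime.ConstructibleSet

/-!
# Noetherian approximation for constructible, base change invariant properties of fibres

If `E` is a constructible subset of `Spec R₀` containing the image of `Spec R`, then it already
contains the image of `Spec R₁` for a finitely generated extension `R₁` of the image of `R₀` in `R`.
Consequently a property of fibres which is constructible on the base and invariant under base change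
descends to a model over a finitely generated `ℤ`-algebra.
-/

set_option linter.style.haveILetI false

universe u

open CategoryTheory CategoryTheory.Limits AlgebraicGeometry Topology

namespace Groth.FlatMor2.ApproxCons

theorem exists_finset_comap_mem {R₀ R : Type u} [CommRing R₀] [CommRing R] (g : R₀ →+* R)
    (E : Set (PrimeSpectrum R₀)) (hE : IsConstructible E)
    (h : ∀ p, PrimeSpectrum.comap g p ∈ E) :
    ∃ T : Finset R, ∀ {R₁ : Type u} [CommRing R₁] (a : R₀ →+* R₁) (b : R₁ →+* R),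
      Function.Injective b → b.comp a = g → (T : Set R) ⊆ Set.range b →
        ∀ q, PrimeSpectrum.comap a q ∈ E := by
  classical
  obtain ⟨s, hs⟩ := PrimeSpectrum.exists_constructibleSetData_iff.2 hE.compl
  have hmiss : ∀ C : s, ∃ (n : ℕ) (r : Fin C.1.n → R), g C.1.f ^ n = ∑ i, r i * g (C.1.g i) := by
    intro C
    have hrad : g C.1.f ∈ (Ideal.span (Set.range fun i => g (C.1.g i))).radical := by
      rw [Ideal.radical_eq_sInf]
      refine Ideal.mem_sInf.2 fun {P} hP => ?_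
      by_contra hf
      let p : PrimeSpectrum R := ⟨P, hP.2⟩
      have hmem : PrimeSpectrum.comap g p ∈ C.1.toSet := by
        refine ⟨?_, fun hh => hf ?_⟩
        · rintro _ ⟨i, rfl⟩
          exact hP.1 (Ideal.subset_span ⟨i, rfl⟩)
        · exact hh rfl
      have h2 : PrimeSpectrum.comap g p ∈ s.toSet :=
        Set.mem_biUnion (Finset.mem_coe.2 C.2) hmem
      rw [hs] at h2
      exact h2 (h p)
    obtain ⟨n, hn⟩ := hrad
    obtain ⟨r, hr⟩ := Ideal.mem_span_range_iff_exists_fun.1 hn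
    exact ⟨n, r, hr.symm⟩
  choose n r hr using hmiss
  refine ⟨Finset.univ.biUnion fun C : s => Finset.univ.image (r C),
    fun {R₁} _ a b hb hab hT q => ?_⟩
  by_contra hq
  have hmem : PrimeSpectrum.comap a q ∈ s.toSet := by rw [hs]; exact hq
  obtain ⟨C, hC, hCg, hCf⟩ := Set.mem_iUnion₂.1 hmem
  refine hCf ?_
  rintro _ rfl
  let C' : s := ⟨C, hC⟩
  have hr1 : ∀ i, ∃ x, b x = r C' i := fun i => hT (Finset.mem_coe.2
    (Finset.mem_biUnion.2 ⟨C', Finset.mem_univ _, Finset.mem_image.2 ⟨i, Finset.mem_univ i, rfl⟩⟩))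
  choose x hx using hr1
  have hgab : ∀ z, b (a z) = g z := fun z => DFunLike.congr_fun hab z
  have heq : a C.f ^ n C' = ∑ i, x i * a (C.g i) := by
    apply hb
    simp only [map_pow, map_sum, map_mul, hgab, hx]
    exact hr C'
  refine q.2.mem_of_pow_mem (n C') ?_
  rw [heq]
  exact Ideal.sum_mem _ fun i _ => Ideal.mul_mem_left _ _ (hCg ⟨i, rfl⟩)

/-- Models of a finitely presented ring map over finitely generated `ℤ`-algebras. -/
theorem exists_model_finiteType {R A : CommRingCat.{u}} (φ : R ⟶ A) (hφ : φ.hom.FinitePresentation) :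
    ∃ (R₀ A₀ : CommRingCat.{u}) (φ₀ : R₀ ⟶ A₀) (g : R₀ ⟶ R) (g' : A₀ ⟶ A),
      Algebra.FiniteType ℤ R₀ ∧ φ₀.hom.FinitePresentation ∧
      IsPullback (Spec.map g') (Spec.map φ) (Spec.map φ₀) (Spec.map g) := by
  algebraize [φ.hom]
  let P := Algebra.Presentation.ofFinitePresentation R A
  haveI : IsNoetherianRing P.Core := Algebra.FiniteType.isNoetherianRing ℤ _
  let R₀ : CommRingCat.{u} := CommRingCat.of P.Core
  let A₀ : CommRingCat.{u} := CommRingCat.of (P.ModelOfHasCoeffs P.Core)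
  let e := P.tensorModelOfHasCoeffsEquiv P.Core
  let φ₀ : R₀ ⟶ A₀ := CommRingCat.ofHom (algebraMap P.Core (P.ModelOfHasCoeffs P.Core))
  let g : R₀ ⟶ R := CommRingCat.ofHom (algebraMap P.Core R)
  let g' : A₀ ⟶ A :=
    CommRingCat.ofHom (e.toRingHom.comp Algebra.TensorProduct.includeRight.toRingHom)
  have hft : φ₀.hom.FinitePresentation :=
    RingHom.finitePresentation_algebraMap.mpr (Algebra.FinitePresentation.of_finiteType.1 inferInstance)
  have hpo : IsPushout g φ₀ φ g' :=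
    (CommRingCat.isPushout_tensorProduct P.Core R (P.ModelOfHasCoeffs P.Core)).of_iso
      (Iso.refl _) (Iso.refl _) (Iso.refl _) e.toRingEquiv.toCommRingCatIso (by simp [g, R₀]) (by simp [φ₀, R₀, A₀])
      (by ext r; exact e.commutes r) (CommRingCat.hom_ext rfl)
  exact ⟨R₀, A₀, φ₀, g, g', inferInstanceAs (Algebra.FiniteType ℤ P.Core), hft,
    (isPullback_SpecMap_of_isPushout _ _ _ _ hpo).flip⟩

/-- **Noetherian approximation** of a property `P` of fibres which is constructible on the base and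
invariant under base change. -/
theorem exists_model (P : ∀ {X S : Scheme.{u}}, (X ⟶ S) → S → Prop)
    (hcons : ∀ {X S : Scheme.{u}} (f : X ⟶ S) [IsAffine X] [IsAffine S]
      [LocallyOfFinitePresentation f], IsLocallyNoetherian S →
        IsLocallyConstructible {s : S | P f s})
    (hbc : ∀ {X S X' S' : Scheme.{u}} (f : X ⟶ S) (g : S' ⟶ S) (f' : X' ⟶ S') (g' : X' ⟶ X)
      [LocallyOfFiniteType f], IsPullback g' f' f g → ∀ s' : S', P f' s' ↔ P f (g s'))
    {X S : Scheme.{u}} (f : X ⟶ S) [IsAffine X] [IsAffine S] [LocallyOfFinitePresentation f]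
    (hf : ∀ s, P f s) :
    ∃ (X₀ S₀ : Scheme.{u}) (f₀ : X₀ ⟶ S₀) (g : S ⟶ S₀) (g' : X ⟶ X₀), IsAffine X₀ ∧ IsAffine S₀ ∧
      IsPullback g' f f₀ g ∧ Algebra.FiniteType ℤ Γ(S₀, ⊤) ∧ LocallyOfFiniteType f₀ ∧
        LocallyOfFinitePresentation f₀ ∧ ∀ s₀, P f₀ s₀ := by
  classical
  obtain ⟨ρ, hρ⟩ := Spec.map_surjective (X.isoSpec.inv ≫ f ≫ S.isoSpec.hom)
  have hfp : ρ.hom.FinitePresentation := by
    have h1 : LocallyOfFinitePresentation (Spec.map ρ) := by rw [hρ]; infer_instance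
    exact (HasRingHomProperty.Spec_iff (P := @LocallyOfFinitePresentation)).1 h1
  obtain ⟨R₀, A₀, φ₀, g₀, g₀', hR₀, hφ₀, hsq⟩ := exists_model_finiteType ρ hfp
  haveI : IsNoetherianRing R₀ := Algebra.FiniteType.isNoetherianRing ℤ R₀
  haveI hlfp : LocallyOfFinitePresentation (Spec.map φ₀) :=
    (HasRingHomProperty.Spec_iff (P := @LocallyOfFinitePresentation)).2 hφ₀
  have hsqX : IsPullback (X.isoSpec.hom ≫ Spec.map g₀') f (Spec.map φ₀)
      (S.isoSpec.hom ≫ Spec.map g₀) := by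
    refine hsq.of_iso X.isoSpec.symm (Iso.refl _) S.isoSpec.symm (Iso.refl _) ?_ ?_ ?_ ?_
    · simp
    · simp [hρ]
    · simp
    · simp
  let E : Set (PrimeSpectrum R₀) := {s | P (Spec.map φ₀) s}
  have hE : IsConstructible E := (hcons (Spec.map φ₀) inferInstance).isConstructible
  have hEmem : ∀ p, PrimeSpectrum.comap g₀.hom p ∈ E := by
    intro p
    have h1 := (hbc (Spec.map φ₀) _ f _ hsqX (S.isoSpec.inv p)).1 (hf _)
    rw [← Scheme.Hom.comp_apply, Iso.inv_hom_id_assoc] at h1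
    exact h1
  obtain ⟨T, hT⟩ := exists_finset_comap_mem g₀.hom E hE hEmem
  obtain ⟨t₀, ht₀⟩ := hR₀.out
  let R₁ : Subalgebra ℤ Γ(S, ⊤) := Algebra.adjoin ℤ ((t₀.image g₀.hom ∪ T : Finset _) : Set Γ(S, ⊤))
  have hg₀ : ∀ z, g₀.hom z ∈ R₁ := by
    intro z
    have hz : z ∈ Algebra.adjoin ℤ (t₀ : Set R₀) := ht₀ ▸ Algebra.mem_top
    have h1 : g₀.hom z ∈ (Algebra.adjoin ℤ (t₀ : Set R₀)).map g₀.hom.toIntAlgHom :=
      ⟨z, hz, rfl⟩
    rw [AlgHom.map_adjoin] at h1
    refine Algebra.adjoin_mono ?_ h1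
    rintro _ ⟨w, hw, rfl⟩
    exact Finset.mem_coe.2 (Finset.mem_union_left _ (Finset.mem_image_of_mem _ hw))
  let a : R₀ ⟶ CommRingCat.of R₁ := CommRingCat.ofHom (g₀.hom.codRestrict R₁ hg₀)
  let b : CommRingCat.of R₁ ⟶ Γ(S, ⊤) := CommRingCat.ofHom R₁.val.toRingHom
  have hab : a ≫ b = g₀ := by ext z; rfl
  haveI : Algebra.FiniteType ℤ R₁ :=
    (Subalgebra.fg_iff_finiteType _).1 (Subalgebra.fg_adjoin_finset _)
  have hE₁ : ∀ q, PrimeSpectrum.comap a.hom q ∈ E :=
    hT a.hom b.hom Subtype.val_injective (congrArg CommRingCat.Hom.hom hab) fun x hx =>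
      ⟨⟨x, Algebra.subset_adjoin (Finset.mem_coe.2 (Finset.mem_union_right _ hx))⟩, rfl⟩
  have hg : (S.isoSpec.hom ≫ Spec.map b) ≫ Spec.map a = S.isoSpec.hom ≫ Spec.map g₀ := by
    rw [Category.assoc, ← Spec.map_comp, hab]
  let f₁ := pullback.snd (Spec.map φ₀) (Spec.map a)
  let g₁' : X ⟶ pullback (Spec.map φ₀) (Spec.map a) :=
    pullback.lift (X.isoSpec.hom ≫ Spec.map g₀') (f ≫ S.isoSpec.hom ≫ Spec.map b)
      (by rw [hsqX.w, Category.assoc, hg])
  have hpb : IsPullback g₁' f f₁ (S.isoSpec.hom ≫ Spec.map b) := by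
    refine IsPullback.of_right ?_ (pullback.lift_snd _ _ _)
      (IsPullback.of_hasPullback (Spec.map φ₀) (Spec.map a))
    rw [pullback.lift_fst, hg]
    exact hsqX
  refine ⟨_, Spec (.of R₁), f₁, S.isoSpec.hom ≫ Spec.map b, g₁', inferInstance, inferInstance, hpb,
    ?_, ?_, ?_, fun q => ?_⟩
  · exact Algebra.FiniteType.equiv ‹Algebra.FiniteType ℤ R₁›
      (Scheme.ΓSpecIso (.of R₁)).symm.commRingCatIsoToRingEquiv.toIntAlgEquiv
  · exact MorphismProperty.pullback_snd _ _ (inferInstanceAs (LocallyOfFiniteType (Spec.map φ₀)))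
  · exact MorphismProperty.pullback_snd _ _ hlfp
  · exact (hbc (Spec.map φ₀) _ f₁ _
      (IsPullback.of_hasPullback (Spec.map φ₀) (Spec.map a)) q).2 (hE₁ q)

theorem exists_model_dim_fiber_eq {X S : Scheme.{u}} (f : X ⟶ S) [IsAffine X] [IsAffine S]
    [LocallyOfFinitePresentation f] (d : WithBot ℕ∞)
    (hd : ∀ s : S, topologicalKrullDim ↥(f.fiber s) = d) :
    ∃ (X₀ S₀ : Scheme.{u}) (f₀ : X₀ ⟶ S₀) (g : S ⟶ S₀) (g' : X ⟶ X₀), IsAffine X₀ ∧ IsAffine S₀ ∧
      IsPullback g' f f₀ g ∧ Algebra.FiniteType ℤ Γ(S₀, ⊤) ∧ LocallyOfFiniteType f₀ ∧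
        ∀ s₀ : S₀, topologicalKrullDim ↥(f₀.fiber s₀) = d := by
  obtain ⟨X₀, S₀, f₀, g, g', h1, h2, h3, h4, h5, -, h7⟩ :=
    exists_model (fun {_ _} h s => topologicalKrullDim ↥(h.fiber s) = d)
      (fun {_ _} h _ _ _ _ => Groth.FibreDim.isLocallyConstructible_dim_fiber_eq h d)
      (fun {_ _ _ _} h g h' g' _ hc s' => by
        rw [Groth.FibreDim.dim_fiber_baseChange h g h' g' hc]) f hd
  exact ⟨X₀, S₀, f₀, g, g', h1, h2, h3, h4, h5, h7⟩

end Groth.FlatMor2.ApproxCons
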