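import Mathlib.RingTheory.Ideal.Over
import Mathlib.RingTheory.Ideal.GoingUp
import Mathlib.RingTheory.Localization.FractionRing
import Mathlib.RingTheory.Noetherian.Basic
import Mathlib.RingTheory.IntegralClosure.IsIntegralClosure.Basic
import Mathlib.RingTheory.Adjoin.FG
import Mathlib.RingTheory.TensorProduct.Basic
import Mathlib.LinearAlgebra.TensorProduct.RightExactness
import Mathlib.LinearAlgebra.Basis.VectorSpace
import Mathlib.Algebra.Module.Torsion.Basic

/-!
# First Čech cohomology of modules on a punctured affine scheme, elementwise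

`GoodModule a M`: every Čech 1-cocycle of `M` on the `D(a i)` is a coboundary.
`AffData a`: functions `r l` on `⋃ D(a i)` with `∑ a l * r l = 1`, given by fractions.
-/

set_option autoImplicit false

universe u v w

open TensorProduct

namespace Groth.FlatMor2

variable {A : Type u} [CommRing A] {n : ℕ} (a : Fin n → A)

/-- A 1-cocycle with denominators `(a i * a j) ^ N`. -/
def IsCocycle {M : Type v} [AddCommGroup M] [Module A M] (N : ℕ) (c : Fin n → Fin n → M) : Prop :=
  ∀ i j k, a i ^ N • c j k + a k ^ N • c i j = a j ^ N • c i k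

/-- The coboundary of a 0-cochain with denominators `a i ^ N`. -/
def coBd {M : Type v} [AddCommGroup M] [Module A M] (N : ℕ) (b : Fin n → M) (i j : Fin n) : M :=
  a i ^ N • b j - a j ^ N • b i

/-- All 1-cocycles are coboundaries. -/
def GoodModule (M : Type v) [AddCommGroup M] [Module A M] : Prop :=
  ∀ (N : ℕ) (c : Fin n → Fin n → M), IsCocycle a N c →
    ∃ (m : ℕ) (b : Fin n → M), ∀ i j, (a i * a j) ^ m • c i j = coBd a (N + m) b i j

/-- Fractions `x l i / a i ^ N` agreeing on overlaps with `∑ a l ^ (e l) * x l = 1`. -/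
def PowData (e : Fin n → ℕ) : Prop :=
  ∃ (N : ℕ) (x : Fin n → Fin n → A), (∀ l i j, a j ^ N * x l i = a i ^ N * x l j) ∧
    ∀ i, ∑ l, a l ^ e l * x l i = a i ^ N

/-- Data witnessing that `⋃ D(a i)` is affine. -/
def AffData : Prop := PowData a fun _ => 1

variable {a} {M : Type v} [AddCommGroup M] [Module A M]

lemma isCocycle_coBd (N : ℕ) (b : Fin n → M) : IsCocycle a N (coBd a N b) := fun i j k => by
  simp only [coBd, smul_sub, smul_smul]
  module

lemma IsCocycle.pow_smul {N : ℕ} {c : Fin n → Fin n → M} (h : IsCocycle a N c) (m : ℕ) :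
    IsCocycle a (N + m) fun i j => (a i * a j) ^ m • c i j := fun i j k => by
  have := congrArg (fun z => (a i * a j * a k) ^ m • z) (h i j k)
  simp only [smul_add, smul_smul] at this
  simp only [smul_smul]
  linear_combination (norm := (simp only [mul_pow, pow_add]; module)) this

lemma IsCocycle.map {M' : Type w} [AddCommGroup M'] [Module A M'] {N : ℕ} {c : Fin n → Fin n → M}
    (h : IsCocycle a N c) (f : M →ₗ[A] M') : IsCocycle a N fun i j => f (c i j) := fun i j k => by
  simp only [← map_smul, ← map_add, h i j k]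

lemma IsCocycle.sub {N : ℕ} {c c' : Fin n → Fin n → M} (h : IsCocycle a N c) (h' : IsCocycle a N c') :
    IsCocycle a N fun i j => c i j - c' i j := fun i j k => by
  simp only [smul_sub, ← h i j k, ← h' i j k]
  abel

lemma map_coBd {M' : Type w} [AddCommGroup M'] [Module A M'] (f : M →ₗ[A] M') (N : ℕ) (b : Fin n → M)
    (i j : Fin n) : f (coBd a N b i j) = coBd a N (fun i => f (b i)) i j := by
  simp [coBd]

/-- Goodness is stable under extensions. -/
lemma GoodModule.of_submodule (p : Submodule A M) (h₁ : GoodModule a p) (h₂ : GoodModule a (M ⧸ p)) :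
    GoodModule a M := by
  intro N c hc
  obtain ⟨m, b'', hb''⟩ := h₂ N _ (hc.map p.mkQ)
  choose b hb using fun i => p.mkQ_surjective (b'' i)
  have hd : ∀ i j, (a i * a j) ^ m • c i j - coBd a (N + m) b i j ∈ p := fun i j => by
    rw [← p.ker_mkQ, LinearMap.mem_ker, map_sub, map_smul, map_coBd, hb'' i j, sub_eq_zero]
    simp only [hb]
  obtain ⟨m', b', hb'⟩ := h₁ (N + m) (fun i j => ⟨_, hd i j⟩) fun i j k =>
    Subtype.ext (((hc.pow_smul m).sub (isCocycle_coBd (N + m) b)) i j k)
  refine ⟨m + m', fun i => a i ^ m' • b i + (b' i : M), fun i j => ?_⟩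
  have := congrArg Subtype.val (hb' i j)
  simp only [coBd, Submodule.coe_smul, AddSubgroupClass.coe_sub, smul_sub, smul_smul] at this
  simp only [coBd, smul_add, smul_smul]
  linear_combination (norm := (simp only [mul_pow, pow_add]; module)) this

lemma GoodModule.of_linearEquiv {M' : Type w} [AddCommGroup M'] [Module A M'] (e : M ≃ₗ[A] M')
    (h : GoodModule a M) : GoodModule a M' := fun N c hc => by
  obtain ⟨m, b, hb⟩ := h N _ (hc.map e.symm.toLinearMap)
  exact ⟨m, fun i => e (b i), fun i j => by
    have := congrArg e (hb i j)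
    simpa [map_coBd e.toLinearMap, coBd] using this⟩

lemma GoodModule.of_smul_eq_zero (h : ∀ i (x : M), a i • x = 0) : GoodModule a M := fun N c _ =>
  ⟨1, 0, fun i j => by simp [coBd, mul_smul, h]⟩

/-- If multiplication by `s` is injective, the quotient by it is good and `s` kills all classes,
the module is good. -/
lemma GoodModule.of_smul_injective (s : A) (hinj : Function.Injective fun x : M => s • x)
    (hq : GoodModule a (M ⧸ LinearMap.range (LinearMap.lsmul A M s)))
    (hs : ∀ (N : ℕ) (c : Fin n → Fin n → M), IsCocycle a N c →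
      ∃ (m : ℕ) (b : Fin n → M), ∀ i j, (a i * a j) ^ m • s • c i j = coBd a (N + m) b i j) :
    GoodModule a M := by
  intro N c hc
  obtain ⟨m, b'', hb''⟩ := hq N _ (hc.map (Submodule.mkQ _))
  choose b hb using fun i => Submodule.mkQ_surjective _ (b'' i)
  have hd : ∀ i j, ∃ z : M, s • z = (a i * a j) ^ m • c i j - coBd a (N + m) b i j := fun i j => by
    have : (a i * a j) ^ m • c i j - coBd a (N + m) b i j ∈ LinearMap.range (LinearMap.lsmul A M s) := by
      rw [← Submodule.ker_mkQ (LinearMap.range _), LinearMap.mem_ker, map_sub, map_smul, map_coBd,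
        hb'' i j, sub_eq_zero]
      simp only [hb]
    exact this
  choose c' hc' using hd
  have hcoc : IsCocycle a (N + m) c' := fun i j k => hinj (by
    simp only [smul_add, smul_comm s, hc']
    exact ((hc.pow_smul m).sub (isCocycle_coBd (N + m) b)) i j k)
  obtain ⟨m', b', hb'⟩ := hs (N + m) c' hcoc
  refine ⟨m + m', fun i => a i ^ m' • b i + b' i, fun i j => ?_⟩
  have := hb' i j
  rw [hc'] at this
  simp only [coBd, smul_sub, smul_smul] at this
  simp only [coBd, smul_add, smul_smul]
  linear_combination (norm := (simp only [mul_pow, pow_add]; module)) this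

lemma PowData.double {e : Fin n → ℕ} (h : PowData a e) (q : Fin n) :
    PowData a (Function.update e q (2 * e q)) := by
  classical
  obtain ⟨N, x, hx, hsum⟩ := h
  refine ⟨2 * N, fun l i => if l = q then x q i ^ 2 else x l i * (a i ^ N + a q ^ e q * x q i),
    fun l i j => ?_, fun i => ?_⟩
  · dsimp only
    split_ifs
    · calc a j ^ (2 * N) * x q i ^ 2 = (a j ^ N * x q i) ^ 2 := by ring
        _ = (a i ^ N * x q j) ^ 2 := by rw [hx]
        _ = a i ^ (2 * N) * x q j ^ 2 := by ring
    · linear_combination (a i ^ N * a j ^ N + a j ^ N * (a q ^ e q * x q i)) * hx l i j +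
        a i ^ N * x l j * a q ^ e q * hx q i j
  · have h0 : a i ^ N = a q ^ e q * x q i + ∑ l ∈ Finset.univ.erase q, a l ^ e l * x l i := by
      rw [← hsum i]
      exact (Finset.add_sum_erase _ (fun l => a l ^ e l * x l i) (Finset.mem_univ q)).symm
    rw [← Finset.add_sum_erase _ _ (Finset.mem_univ q)]
    simp only [Function.update_self, if_true]
    rw [Finset.sum_congr rfl (g := fun l => a l ^ e l * x l i * (a i ^ N + a q ^ e q * x q i))
      fun l hl => by
        rw [Function.update_of_ne (Finset.mem_erase.mp hl).1, if_neg (Finset.mem_erase.mp hl).1,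
          mul_assoc], ← Finset.sum_mul]
    linear_combination -(a i ^ N + a q ^ e q * x q i) * h0

lemma PowData.mono {e e' : Fin n → ℕ} (hle : e' ≤ e) (h : PowData a e) : PowData a e' := by
  obtain ⟨N, x, hx, hsum⟩ := h
  refine ⟨N, fun l i => a l ^ (e l - e' l) * x l i, fun l i j => by linear_combination a l ^ (e l - e' l) * hx l i j,
    fun i => (Finset.sum_congr rfl fun l _ => ?_).trans (hsum i)⟩
  rw [← mul_assoc, ← pow_add, Nat.add_sub_cancel' (hle l)]

lemma AffData.powData (h : AffData a) (M : ℕ) : PowData a fun _ => M := by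
  suffices ∀ k, PowData a fun _ => 2 ^ k from
    (this M).mono fun _ => (Nat.lt_two_pow_self).le
  intro k
  induction k with
  | zero => exact h
  | succ k ih =>
    suffices ∀ s : Finset (Fin n), PowData a fun l => if l ∈ s then 2 ^ (k + 1) else 2 ^ k by
      simpa using this Finset.univ
    intro s
    induction s using Finset.induction_on with
    | empty => simpa using ih
    | insert q s hq ih' =>
      convert ih'.double q using 1
      funext l
      by_cases hl : l = q
      · subst hl; simp [hq, pow_succ, mul_comm]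
      · simp [hl, Function.update_of_ne]

lemma AffData.map {B : Type w} [CommRing B] (φ : A →+* B) (h : AffData a) : AffData (φ ∘ a) := by
  obtain ⟨N, x, hx, hsum⟩ := h
  refine ⟨N, fun l i => φ (x l i), fun l i j => ?_, fun i => ?_⟩
  · simpa only [Function.comp_apply, map_mul, map_pow] using congrArg φ (hx l i j)
  · simpa only [Function.comp_apply, map_sum, map_mul, map_pow] using congrArg φ (hsum i)

/-- Modules over an algebra with affine data are good. -/
lemma goodModule_of_affData {B : Type w} [CommRing B] [Algebra A B]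
    (h : AffData (algebraMap A B ∘ a)) (H : Type v) [AddCommGroup H] [Module B H] [Module A H]
    [IsScalarTower A B H] : GoodModule a H := by
  intro N c hc
  obtain ⟨P, y, hy, hsum⟩ := h.powData N
  refine ⟨P, fun i => ∑ l, y l i • c l i, fun i j => ?_⟩
  have conv : ∀ (r : A) (z : H), r • z = algebraMap A B r • z := fun r z => (algebraMap_smul B r z).symm
  simp only [coBd, Finset.smul_sum, ← Finset.sum_sub_distrib, conv, smul_smul]
  have key : ∀ l, (algebraMap A B (a i ^ (N + P)) * y l j) • c l j -
      (algebraMap A B (a j ^ (N + P)) * y l i) • c l i =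
      (algebraMap A B (a j ^ P) * y l i * algebraMap A B (a l ^ N)) • c i j := fun l => by
    have h1 := hc l i j
    simp only [conv] at h1
    have h3 : algebraMap A B (a i ^ (N + P)) * y l j =
        algebraMap A B (a j ^ P) * y l i * algebraMap A B (a i ^ N) := by
      have := hy l i j
      simp only [Function.comp_apply] at this
      simp only [map_pow, pow_add, map_mul]
      linear_combination -(algebraMap A B (a i) ^ N) * this
    rw [h3]
    linear_combination (norm := (simp only [map_pow, pow_add]; module))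
      -((algebraMap A B (a j ^ P) * y l i) • h1)
  rw [Finset.sum_congr rfl fun l _ => key l, ← Finset.sum_smul]
  congr 1
  have := hsum i
  simp only [Function.comp_apply] at this
  rw [mul_pow, map_mul, map_pow, map_pow, ← this, Finset.sum_mul]
  refine Finset.sum_congr rfl fun l _ => ?_
  simp only [map_pow]
  ring

open Submodule in
/-- Chevalley: over a Noetherian ring all finite modules are good, given affine data on a finite
algebra with a prime over every prime not containing all `a i`. -/
theorem goodModule_of_finite_algebra [IsNoetherianRing A] {B : Type u} [CommRing B] [Algebra A B]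
    [Module.Finite A B] (hB : AffData (algebraMap A B ∘ a))
    (hlies : ∀ p : Ideal A, p.IsPrime → (∃ i, a i ∉ p) → ∃ Q : Ideal B, Q.IsPrime ∧ Q.LiesOver p)
    (M : Type u) [AddCommGroup M] [Module A M] [Module.Finite A M] : GoodModule a M := by
  suffices key : ∀ (I : Ideal A) (M : Type u) [AddCommGroup M] [Module A M] [Module.Finite A M],
      (∀ r ∈ I, ∀ x : M, r • x = 0) → GoodModule a M from
    key ⊥ M fun r hr x => by rw [(Submodule.mem_bot A).mp hr, zero_smul]
  intro I
  induction I using IsNoetherian.induction with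
  | hgt I ih =>
  intro M _ _ _ hI
  by_cases htop : I = ⊤
  · exact GoodModule.of_smul_eq_zero fun i x => hI (a i) (htop ▸ Submodule.mem_top) x
  by_cases hp : Ideal.IsPrime I
  swap
  · obtain ⟨x, hx, y, hy, hxy⟩ : ∃ x, x ∉ I ∧ ∃ y, y ∉ I ∧ x * y ∈ I := by
      by_contra! H
      exact hp ⟨htop, fun {x y} hxy => or_iff_not_imp_left.mpr fun hx => by_contra fun hy => H x hx y hy hxy⟩
    refine GoodModule.of_submodule (LinearMap.range (LinearMap.lsmul A M x))
      (ih (I ⊔ Ideal.span {y}) ?_ _ ?_) (ih (I ⊔ Ideal.span {x}) ?_ _ ?_)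
    · exact left_lt_sup.mpr fun h => hy (h (Ideal.mem_span_singleton_self y))
    · rintro r hr ⟨_, z, rfl⟩
      obtain ⟨s, hs, _, ht, rfl⟩ := Submodule.mem_sup.mp hr
      obtain ⟨t, rfl⟩ := Ideal.mem_span_singleton'.mp ht
      refine Subtype.ext ?_
      show (s + t * y) • x • z = 0
      rw [add_smul, hI s hs, smul_smul, mul_assoc, mul_comm y x, hI _ (Ideal.mul_mem_left I t hxy), add_zero]
    · exact left_lt_sup.mpr fun h => hx (h (Ideal.mem_span_singleton_self x))
    · rintro r hr z
      obtain ⟨z, rfl⟩ := Submodule.mkQ_surjective _ z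
      obtain ⟨s, hs, _, ht, rfl⟩ := Submodule.mem_sup.mp hr
      obtain ⟨t, rfl⟩ := Ideal.mem_span_singleton'.mp ht
      rw [← map_smul, Submodule.mkQ_apply, Submodule.Quotient.mk_eq_zero]
      exact ⟨t • z, by simp [add_smul, hI s hs, smul_smul, mul_comm x]⟩
  by_cases hJ : ∀ i, a i ∈ I
  · exact GoodModule.of_smul_eq_zero fun i x => hI _ (hJ i) x
  obtain ⟨Q, hQ, hQI⟩ := hlies I hp (not_forall.mp hJ)
  -- a functional on `B ⧸ Q` not vanishing at one
  obtain ⟨s, hs, lam, hlam⟩ : ∃ s ∉ I, ∃ lam : (B ⧸ Q) →ₗ[A] (A ⧸ I), lam 1 = Ideal.Quotient.mk I s := by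
    classical
    have := hp
    let K := FractionRing (A ⧸ I)
    let L := FractionRing (B ⧸ Q)
    have : Module.Finite (A ⧸ I) (B ⧸ Q) := Module.Finite.of_restrictScalars_finite A _ _
    let : Algebra K L := FractionRing.liftAlgebra (A ⧸ I) L
    obtain ⟨f, hf⟩ := LinearMap.exists_leftInverse_of_injective (Algebra.linearMap K L)
      (LinearMap.ker_eq_bot.mpr (algebraMap K L).injective)
    obtain ⟨gens, hgens⟩ := Module.Finite.fg_top (R := A ⧸ I) (M := B ⧸ Q)
    let F : (B ⧸ Q) →ₗ[A ⧸ I] K := (f.restrictScalars (A ⧸ I)).comp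
      ((IsScalarTower.toAlgHom (A ⧸ I) (B ⧸ Q) L).toLinearMap)
    obtain ⟨d, hd⟩ := IsLocalization.exist_integer_multiples_of_finset (nonZeroDivisors (A ⧸ I))
      (gens.image F)
    have hint : ∀ b, (d : A ⧸ I) • F b ∈ LinearMap.range (Algebra.linearMap (A ⧸ I) K) := fun b => by
      have : (⊤ : Submodule (A ⧸ I) (B ⧸ Q)) ≤
          (LinearMap.range (Algebra.linearMap (A ⧸ I) K)).comap ((d : A ⧸ I) • F) := by
        rw [← hgens, Submodule.span_le]
        intro g hg
        obtain ⟨z, hz⟩ := hd (F g) (Finset.mem_image_of_mem F hg)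
        exact ⟨z, hz⟩
      exact this trivial
    let lam₀ := ((LinearEquiv.ofInjective (Algebra.linearMap (A ⧸ I) K)
      (IsFractionRing.injective (A ⧸ I) K)).symm.toLinearMap).comp
        (LinearMap.codRestrict _ ((d : A ⧸ I) • F) hint)
    obtain ⟨s, hs⟩ := Ideal.Quotient.mk_surjective (d : A ⧸ I)
    refine ⟨s, fun h => nonZeroDivisors.coe_ne_zero d (hs ▸ Ideal.Quotient.eq_zero_iff_mem.mpr h),
      lam₀.restrictScalars A, ?_⟩
    apply IsFractionRing.injective (A ⧸ I) K
    rw [hs]
    have h1 : F 1 = 1 := by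
      have := LinearMap.congr_fun hf 1
      simpa [F] using this
    show (Algebra.linearMap (A ⧸ I) K) (lam₀ 1) = _
    simp only [lam₀, LinearMap.comp_apply, LinearEquiv.coe_coe]
    rw [← LinearEquiv.ofInjective_apply (h := IsFractionRing.injective (A ⧸ I) K),
      LinearEquiv.apply_symm_apply]
    simp [h1, Algebra.smul_def]
  -- split off the `s`-power torsion
  obtain ⟨k, hk⟩ := monotone_stabilizes_iff_noetherian.mpr (inferInstance : IsNoetherian A M)
    ⟨fun k => LinearMap.ker (LinearMap.lsmul A M (s ^ k)), monotone_nat_of_le_succ fun k z hz => by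
      simp only [LinearMap.mem_ker, LinearMap.lsmul_apply] at hz ⊢
      rw [pow_succ', mul_smul, hz, smul_zero]⟩
  simp only [OrderHom.coe_mk] at hk
  set T := LinearMap.ker (LinearMap.lsmul A M (s ^ k))
  refine GoodModule.of_submodule T (ih (I ⊔ Ideal.span {s ^ k}) ?_ _ ?_) ?_
  · exact left_lt_sup.mpr fun h => hs (hp.mem_of_pow_mem k (h (Ideal.mem_span_singleton_self _)))
  · rintro r hr ⟨z, hz⟩
    obtain ⟨s', hs', _, ht, rfl⟩ := Submodule.mem_sup.mp hr
    obtain ⟨t, rfl⟩ := Ideal.mem_span_singleton'.mp ht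
    refine Subtype.ext ?_
    show (s' + t * s ^ k) • z = 0
    rw [add_smul, hI s' hs', mul_smul, show s ^ k • z = 0 from hz, smul_zero, add_zero]
  have hI' : ∀ r ∈ I, ∀ z : M ⧸ T, r • z = 0 := fun r hr z => by
    obtain ⟨z, rfl⟩ := T.mkQ_surjective z
    rw [← map_smul, hI r hr, map_zero]
  refine GoodModule.of_smul_injective s ?_ (ih (I ⊔ Ideal.span {s}) ?_ _ ?_) ?_
  · intro z z' h
    obtain ⟨z, rfl⟩ := T.mkQ_surjective z
    obtain ⟨z', rfl⟩ := T.mkQ_surjective z'
    simp only [Submodule.mkQ_apply, ← Submodule.Quotient.mk_smul, Submodule.Quotient.eq] at h ⊢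
    have : z - z' ∈ LinearMap.ker (LinearMap.lsmul A M (s ^ (k + 1))) := by
      rw [LinearMap.mem_ker, LinearMap.lsmul_apply, pow_succ, mul_smul, smul_sub]
      exact h
    rwa [← hk (k + 1) k.le_succ] at this
  · exact left_lt_sup.mpr fun h => hs (h (Ideal.mem_span_singleton_self _))
  · intro r hr z
    obtain ⟨z, rfl⟩ := Submodule.mkQ_surjective _ z
    obtain ⟨s', hs', _, ht, rfl⟩ := Submodule.mem_sup.mp hr
    obtain ⟨t, rfl⟩ := Ideal.mem_span_singleton'.mp ht
    rw [← map_smul, Submodule.mkQ_apply, Submodule.Quotient.mk_eq_zero]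
    exact ⟨t • z, by simp [add_smul, hI' s' hs', smul_smul, mul_comm t s]⟩
  -- `s` kills all classes, as the module is a retract up to `s` of a `B`-module
  intro N c hc
  let M' := M ⧸ T
  have htor : Module.IsTorsionBySet A M' (I : Set A) := fun z r => hI' r.1 r.2 z
  let : Module (A ⧸ I) M' := htor.module
  have : IsScalarTower A (A ⧸ I) M' := htor.isScalarTower
  let H := (B ⧸ Q) ⊗[A] M'
  let ι₀ : M' →ₗ[A] H := TensorProduct.mk A (B ⧸ Q) M' 1
  let π₀ : H →ₗ[A] M' := TensorProduct.lift
    (LinearMap.mk₂ A (fun q z => lam q • z) (fun q q' z => by rw [map_add, add_smul])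
      (fun r q z => by rw [map_smul, smul_assoc]) (fun q z z' => smul_add _ _ _)
      (fun r q z => smul_comm _ _ _))
  have hπ : ∀ z, π₀ (ι₀ z) = s • z := fun z => by
    show lam 1 • z = s • z
    rw [hlam]
    exact algebraMap_smul (A ⧸ I) s z
  obtain ⟨m, b, hb⟩ := goodModule_of_affData hB H N _ (hc.map ι₀)
  refine ⟨m, fun i => π₀ (b i), fun i j => ?_⟩
  rw [← map_coBd, ← hb i j, map_smul, hπ]

/-- Affine data from goodness of the module of relations. -/
theorem affData_of_goodModule
    (h : GoodModule a ↥(LinearMap.ker (Fintype.linearCombination A a))) : AffData a := by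
  classical
  let ε : Fin n → Fin n → A := fun i => Pi.single i 1
  have hker : ∀ i j, coBd a 1 ε i j ∈ LinearMap.ker (Fintype.linearCombination A a) := fun i j => by
    rw [LinearMap.mem_ker, map_coBd]
    simp only [coBd, pow_one, Fintype.linearCombination_apply_single, ε, smul_eq_mul]
    ring
  obtain ⟨m, b, hb⟩ := h 1 (fun i j => ⟨_, hker i j⟩) fun i j k =>
    Subtype.ext (isCocycle_coBd 1 ε i j k)
  refine ⟨1 + m, fun l i => a i ^ m * ε i l - (b i).1 l, fun l i j => ?_, fun i => ?_⟩
  · have := congrFun (congrArg Subtype.val (hb i j)) l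
    simp only [coBd, Submodule.coe_smul, AddSubgroupClass.coe_sub, Pi.smul_apply, Pi.sub_apply,
      smul_eq_mul, pow_one] at this
    simp only [mul_pow, pow_add, pow_one] at this ⊢
    linear_combination -this
  · have h1 : Fintype.linearCombination A a (b i).1 = 0 := (b i).2
    have h2 : Fintype.linearCombination A a (fun l => a i ^ m * ε i l - (b i).1 l) = a i ^ (1 + m) := by
      rw [show (fun l => a i ^ m * ε i l - (b i).1 l) = a i ^ m • ε i - (b i).1 from rfl, map_sub, h1,
        sub_zero, map_smul]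
      simp [ε, Fintype.linearCombination_apply_single, pow_add, mul_comm]
    rw [← h2]
    simp [Fintype.linearCombination_apply, mul_comm]

/-- Chevalley's affineness theorem for quasi-affine schemes, in algebraic form. -/
theorem affData_of_subalgebra {C : Type u} [CommRing C] [Algebra A C] (gens : Finset C)
    (hint : ∀ g ∈ gens, IsIntegral A g) (N : ℕ) (x : Fin n → Fin n → C)
    (hx : ∀ l i, x l i ∈ gens) (hcompat : ∀ l i j, algebraMap A C (a j) ^ N * x l i = algebraMap A C (a i) ^ N * x l j)
    (hsum : ∀ i, ∑ l, algebraMap A C (a l) * x l i = algebraMap A C (a i) ^ N)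
    (hsurj : ∀ (p : Ideal A), p.IsPrime → (∃ i, a i ∉ p) → ∃ Q : Ideal C, Q.IsPrime ∧ Q.LiesOver p) :
    AffData a := by
  classical
  rcases subsingleton_or_nontrivial A with hA | hA
  · exact ⟨0, fun _ _ => 0, fun _ _ _ => Subsingleton.elim _ _, fun _ => Subsingleton.elim _ _⟩
  choose P hP hPg using fun g : gens => hint g.1 g.2
  let coeffs : Finset A := Finset.univ.image a ∪ Finset.univ.biUnion (fun g : gens =>
    (Finset.range ((P g).natDegree + 1)).image (P g).coeff)
  let A₀ := Algebra.adjoin ℤ (coeffs : Set A)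
  have : IsNoetherianRing A₀ := isNoetherianRing_of_fg ⟨coeffs, rfl⟩
  let a₀ : Fin n → A₀ := fun i => ⟨a i, Algebra.subset_adjoin
    (Finset.mem_union_left _ (Finset.mem_image_of_mem a (Finset.mem_univ i)))⟩
  let B₀ := Algebra.adjoin A₀ (gens : Set C)
  have hint₀ : ∀ g ∈ gens, IsIntegral A₀ g := fun g hg => by
    have hl : P ⟨g, hg⟩ ∈ Polynomial.lifts (algebraMap A₀ A) := by
      rw [Polynomial.lifts_iff_coeff_lifts]
      intro k
      by_cases hk : k ≤ (P ⟨g, hg⟩).natDegree
      · exact ⟨⟨_, Algebra.subset_adjoin (Finset.mem_union_right _ (Finset.mem_biUnion.mpr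
          ⟨⟨g, hg⟩, Finset.mem_univ _, Finset.mem_image_of_mem _ (Finset.mem_range.mpr (by omega))⟩))⟩, rfl⟩
      · exact ⟨0, by rw [Polynomial.coeff_eq_zero_of_natDegree_lt (by omega), map_zero]⟩
    obtain ⟨p, hp, -, hmon⟩ := Polynomial.lifts_and_degree_eq_and_monic hl (hP ⟨g, hg⟩)
    refine ⟨p, hmon, ?_⟩
    rw [IsScalarTower.algebraMap_eq A₀ A C, ← Polynomial.eval₂_map, hp]
    exact hPg ⟨g, hg⟩
  have : Module.Finite A₀ B₀ := Algebra.finite_adjoin_of_finite_of_isIntegral gens.finite_toSet hint₀
  have hdata : AffData (algebraMap A₀ B₀ ∘ a₀) :=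
    ⟨N, fun l i => ⟨x l i, Algebra.subset_adjoin (hx l i)⟩,
      fun l i j => Subtype.ext (by simpa [a₀, IsScalarTower.algebraMap_apply A₀ A C] using hcompat l i j),
      fun i => Subtype.ext (by simpa [a₀, IsScalarTower.algebraMap_apply A₀ A C] using hsum i)⟩
  have hlies : ∀ p : Ideal A₀, p.IsPrime → (∃ i, a₀ i ∉ p) → ∃ Q : Ideal B₀, Q.IsPrime ∧ Q.LiesOver p := by
    intro p hp ⟨i, hi⟩
    have : Algebra.IsIntegral A₀ B₀ := Algebra.IsIntegral.of_finite _ _
    obtain ⟨Q, -, hQ, hQp⟩ := Ideal.exists_ideal_over_prime_of_isIntegral (R := A₀) (S := B₀) p ⊥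
      fun r hr => by
        have hr0 : algebraMap A C r.1 = 0 := congrArg Subtype.val (Ideal.mem_bot.mp hr)
        have hnil : IsNilpotent (a i * r.1) := by
          rw [← mem_nilradical, nilradical_eq_sInf, Submodule.mem_sInf]
          intro q (hq : Ideal.IsPrime q)
          by_cases hiq : a i ∈ q
          · exact Ideal.mul_mem_right _ q hiq
          obtain ⟨Q, hQ, hQq⟩ := hsurj q hq ⟨i, hiq⟩
          refine Ideal.mul_mem_left q _ ?_
          rw [hQq.over]
          exact (Ideal.mem_comap).mpr (hr0 ▸ Q.zero_mem)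
        obtain ⟨k, hk⟩ := hnil
        refine ((hp.mem_or_mem ?_).resolve_left hi)
        refine hp.mem_of_pow_mem k ?_
        have : (a₀ i * r) ^ k = 0 := Subtype.ext hk
        rw [this]
        exact p.zero_mem
    exact ⟨Q, hQ, ⟨hQp.symm⟩⟩
  have : AffData a₀ := affData_of_goodModule (goodModule_of_finite_algebra hdata hlies _)
  exact this.map (algebraMap A₀ A)

end Groth.FlatMor2
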