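import Groth.Agent.FlatMor2.AffineThickening
import Mathlib.AlgebraicGeometry.Morphisms.ClosedImmersion
import Mathlib.AlgebraicGeometry.Morphisms.Immersion
import Mathlib.AlgebraicGeometry.Morphisms.Affine
import Mathlib.AlgebraicGeometry.Morphisms.IsIso
import Mathlib.AlgebraicGeometry.Morphisms.QuasiCompact

/-!
# Closed immersions and lifting against injective ring maps
-/

universe u

open AlgebraicGeometry CategoryTheory Limits

namespace Groth.FlatMor2

variable {X Y : Scheme.{u}}

/-- Lifting against injective maps of affine schemes. -/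
def LiftsInjective (f : X ⟶ Y) : Prop :=
  ∀ (A B : Type u) [CommRing A] [CommRing B] (φ : A →+* B), Function.Injective φ →
      ∀ (a : Spec (CommRingCat.of B) ⟶ X) (b : Spec (CommRingCat.of A) ⟶ Y), Spec.map (CommRingCat.ofHom φ) ≫ b = a ≫ f →
        ∃ l : Spec (CommRingCat.of A) ⟶ X, Spec.map (CommRingCat.ofHom φ) ≫ l = a ∧ l ≫ f = b

lemma liftsInjective_of_isClosedImmersion (f : X ⟶ Y) [IsClosedImmersion f] : LiftsInjective f := by
  intro A B _ _ φ hφ a b h
  let p := pullback.snd f b
  have : IsAffine (pullback f b) := isAffine_of_isAffineHom p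
  let t : Spec (CommRingCat.of B) ⟶ pullback f b := pullback.lift a (Spec.map (CommRingCat.ofHom φ)) h.symm
  have ht : t ≫ p = Spec.map (CommRingCat.ofHom φ) := pullback.lift_snd _ _ _
  have hinj : Function.Injective (Spec.map (CommRingCat.ofHom φ)).appTop := by
    intro x y hxy
    apply (ConcreteCategory.bijective_of_isIso (Scheme.ΓSpecIso (CommRingCat.of A)).hom).1
    apply hφ
    have e := Scheme.ΓSpecIso_naturality (CommRingCat.ofHom φ)
    exact ((congr($e x)).symm.trans (congrArg (Scheme.ΓSpecIso (CommRingCat.of B)).hom hxy)).trans (congr($e y))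
  have : IsIso p.appTop := by
    refine (ConcreteCategory.isIso_iff_bijective _).mpr ⟨?_, p.app_surjective ⊤ (isAffineOpen_top _)⟩
    rw [← ht, Scheme.Hom.comp_appTop] at hinj
    exact Function.Injective.of_comp (f := t.appTop) hinj
  have : IsIso p := (HasAffineProperty.iff_of_isAffine (P := MorphismProperty.isomorphisms Scheme) (f := p)).mpr ⟨inferInstance, ‹_›⟩
  refine ⟨inv p ≫ pullback.fst f b, ?_, ?_⟩
  · rw [← ht, Category.assoc, IsIso.hom_inv_id_assoc]; exact pullback.lift_fst _ _ _
  · rw [Category.assoc, pullback.condition, IsIso.inv_hom_id_assoc]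

lemma LiftsInjective.baseChange_openImmersion {f : X ⟶ Y} (hf : LiftsInjective f) {X' Y' : Scheme.{u}}
    {g : X' ⟶ X} {f' : X' ⟶ Y'} {j : Y' ⟶ Y} (hc : IsPullback g f' f j) : LiftsInjective f' := by
  intro A B _ _ φ hφ a b h
  obtain ⟨l, hl, hl'⟩ := hf A B φ hφ (a ≫ g) (b ≫ j) (by rw [reassoc_of% h, Category.assoc, hc.w])
  refine ⟨hc.lift l b hl', ?_, hc.lift_snd _ _ _⟩
  exact hc.hom_ext (by rw [Category.assoc, hc.lift_fst, hl]) (by rw [Category.assoc, hc.lift_snd, h])

lemma sigmaDesc_appTop_injective (𝒰 : X.OpenCover) [Small.{u} 𝒰.I₀] :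
    Function.Injective (Sigma.desc 𝒰.f).appTop := by
  intro x y hxy
  apply X.sheaf.eq_of_locally_eq' (fun i => (𝒰.f i).opensRange) ⊤ (fun i => homOfLE le_top)
    (by rw [𝒰.iSup_opensRange])
  intro i
  have h := congrArg (Sigma.ι 𝒰.X i).appTop hxy
  rw [← CommRingCat.comp_apply, ← CommRingCat.comp_apply, ← Scheme.Hom.comp_appTop, Sigma.ι_desc] at h
  have : IsIso ((𝒰.f i).app (𝒰.f i).opensRange) := (𝒰.f i).isIso_app _ le_rfl
  apply ((ConcreteCategory.bijective_of_isIso ((𝒰.f i).app (𝒰.f i).opensRange)).1)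
  have key : ∀ z : Γ(X, ⊤), (𝒰.f i).app (𝒰.f i).opensRange (X.presheaf.map (homOfLE le_top).op z) =
      (𝒰.X i).presheaf.map (homOfLE le_top).op ((𝒰.f i).appTop z) := fun z =>
    congr($((𝒰.f i).naturality (homOfLE (le_top : (𝒰.f i).opensRange ≤ ⊤)).op) z)
  exact (key x).trans ((congrArg _ h).trans (key y).symm)

lemma isClosedImmersion_of_liftsInjective_affine (f : X ⟶ Y) [IsAffine Y] [CompactSpace X]
    (hf : LiftsInjective f) : IsClosedImmersion f := by
  let 𝒰 : X.OpenCover := X.affineCover.finiteSubcover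
  let W := ∐ 𝒰.X
  let a₀ : W ⟶ X := Sigma.desc 𝒰.f
  let a : Spec Γ(W, ⊤) ⟶ X := W.isoSpec.inv ≫ a₀
  have ha : Function.Injective a.appTop := by
    rw [Scheme.Hom.comp_appTop]
    have : IsIso W.isoSpec.inv.appTop := inferInstanceAs (IsIso (W.isoSpec.inv.app ⊤))
    exact (ConcreteCategory.bijective_of_isIso W.isoSpec.inv.appTop).1.comp (sigmaDesc_appTop_injective 𝒰)
  have hasurj : Surjective a := by
    have : Surjective a₀ := inferInstance
    infer_instance
  obtain ⟨χ, hχ⟩ := Spec.map_surjective (a ≫ f ≫ Y.isoSpec.hom)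
  let q : Γ(Y, ⊤) ⟶ CommRingCat.of χ.hom.range := CommRingCat.ofHom χ.hom.rangeRestrict
  let φ : χ.hom.range →+* Γ(W, ⊤) := χ.hom.range.subtype
  let b : Spec (CommRingCat.of χ.hom.range) ⟶ Y := Spec.map q ≫ Y.isoSpec.inv
  have : IsClosedImmersion (Spec.map q) :=
    IsClosedImmersion.spec_of_surjective q χ.hom.rangeRestrict_surjective
  have hsq : Spec.map (CommRingCat.ofHom φ) ≫ b = a ≫ f := by
    have : q ≫ CommRingCat.ofHom φ = χ := by ext x; rfl
    rw [← cancel_mono Y.isoSpec.hom]
    simp only [b, Category.assoc, Iso.inv_hom_id, Category.comp_id]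
    rw [← Spec.map_comp, this, hχ]
  obtain ⟨l, hl, hlf⟩ := hf _ _ φ Subtype.val_injective a b hsq
  have : IsClosedImmersion (l ≫ f) := hlf ▸ inferInstance
  have : IsImmersion l := IsImmersion.of_comp l f
  have : Surjective (Spec.map (CommRingCat.ofHom φ) ≫ l) := hl.symm ▸ hasurj
  have : Surjective l := Surjective.of_comp (Spec.map (CommRingCat.ofHom φ)) l
  have : IsPreimmersion l := inferInstance
  have : IsClosedImmersion l := .of_isPreimmersion l (by rw [l.surjective.range_eq]; exact isClosed_univ)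
  have : IsAffine X := isAffine_of_surjective_closedImmersion l
  have hlinj : Function.Injective l.appTop := by
    rw [← hl, Scheme.Hom.comp_appTop] at ha
    exact Function.Injective.of_comp (f := (Spec.map (CommRingCat.ofHom φ)).appTop) ha
  have : IsIso l := by
    have : IsIso l.appTop := (ConcreteCategory.isIso_iff_bijective _).mpr
      ⟨hlinj, l.app_surjective ⊤ (isAffineOpen_top X)⟩
    exact (HasAffineProperty.iff_of_isAffine (P := MorphismProperty.isomorphisms Scheme) (f := l)).mpr ⟨inferInstance, ‹_›⟩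
  have : f = inv l ≫ b := by rw [← hlf, IsIso.inv_hom_id_assoc]
  rw [this]
  infer_instance

theorem isClosedImmersion_iff_liftsInjective (f : X ⟶ Y) [QuasiCompact f] :
    IsClosedImmersion f ↔ LiftsInjective f := by
  refine ⟨fun _ => liftsInjective_of_isClosedImmersion f, fun hf => ?_⟩
  rw [IsZariskiLocalAtTarget.iff_of_iSup_eq_top (P := @IsClosedImmersion) _ (iSup_affineOpens_eq_top Y)]
  intro V
  have : IsAffine V.1 := V.2
  have : CompactSpace (f ⁻¹ᵁ V.1) := isCompact_iff_compactSpace.mp (f.isCompact_preimage V.2.isCompact)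
  exact isClosedImmersion_of_liftsInjective_affine _
    (hf.baseChange_openImmersion (isPullback_morphismRestrict f V.1).flip)

end Groth.FlatMor2
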