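import Groth.Agent.LocImm.FiniteFactor
import Mathlib.AlgebraicGeometry.Morphisms.Immersion
import Mathlib.AlgebraicGeometry.Morphisms.Finite
import Mathlib.AlgebraicGeometry.Limits

/-!
# Extending finite surjective morphisms from quasi-compact opens
-/

universe u

open CategoryTheory CategoryTheory.Limits AlgebraicGeometry TopologicalSpace

set_option linter.style.haveILetI false

namespace Groth.FlatMor2

/-- A finite surjective morphism to a quasi-compact open extends. -/
theorem exists_finite_surjective_extension {S V : Scheme.{u}} [CompactSpace ↑S] [QuasiSeparatedSpace ↑S]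
    (U : S.Opens) (hU : IsCompact (U : Set ↑S)) (v : V ⟶ (U : Scheme.{u})) [IsFinite v] [Surjective v] :
    ∃ (V' : Scheme.{u}) (π : V' ⟶ S) (i : V ⟶ V'), Surjective π ∧ IsFinite π ∧ IsPullback i v π U.ι := by
  haveI : CompactSpace U := isCompact_iff_compactSpace.1 hU
  haveI : CompactSpace V := QuasiCompact.compactSpace_of_compactSpace v
  haveI : LocallyOfFiniteType (v ≫ U.ι) := inferInstance
  haveI : LocallyQuasiFinite (v ≫ U.ι) := inferInstance
  haveI : QuasiCompact (v ≫ U.ι) := quasiCompact_of_compactSpace _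
  obtain ⟨T, j, π₀, hj, hπ₀, hfac⟩ := Groth.LocImmersion.exists_isOpenImmersion_comp_isFinite (v ≫ U.ι)
  haveI : CompactSpace T := QuasiCompact.compactSpace_of_compactSpace π₀
  haveI : QuasiSeparatedSpace T := quasiSeparatedSpace_of_quasiSeparated π₀
  haveI : QuasiCompact j := quasiCompact_of_compactSpace _
  -- the range of `j` is closed in the preimage of `U`
  let O : T.Opens := π₀ ⁻¹ᵁ U
  have hrange : Set.range j ⊆ O := by
    rintro _ ⟨x, rfl⟩
    change π₀ (j x) ∈ U
    rw [← Scheme.Hom.comp_apply, hfac, Scheme.Hom.comp_apply]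
    exact (v x).2
  let j' : V ⟶ (O : Scheme.{u}) := IsOpenImmersion.lift O.ι j (by rwa [Scheme.Opens.range_ι])
  have hj' : j' ≫ O.ι = j := IsOpenImmersion.lift_fac _ _ _
  have hfin : IsFinite (j' ≫ π₀ ∣_ U) := by
    have h : j' ≫ π₀ ∣_ U = v := by
      rw [← cancel_mono U.ι, Category.assoc, morphismRestrict_ι]
      exact (Category.assoc _ _ _).symm.trans ((congrArg (· ≫ π₀) hj').trans hfac)
    rw [h]
    infer_instance
  haveI : IsFinite j' := IsFinite.of_comp j' (π₀ ∣_ U)
  have hclosed : IsClosed (Set.range j') := j'.isClosedMap.isClosed_range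
  let Z : TopologicalSpace.Closeds S := ⟨(U : Set ↑S)ᶜ, U.2.isClosed_compl⟩
  let z := (Scheme.IdealSheafData.vanishingIdeal Z).subschemeι
  have hz : Set.range z = (U : Set ↑S)ᶜ := by
    rw [Scheme.IdealSheafData.range_subschemeι]
    rfl
  let π : j.image ⨿ (Scheme.IdealSheafData.vanishingIdeal Z).subscheme ⟶ S :=
    coprod.desc (j.imageι ≫ π₀) z
  let i : V ⟶ j.image ⨿ (Scheme.IdealSheafData.vanishingIdeal Z).subscheme := j.toImage ≫ coprod.inl
  have hcomm : i ≫ π = v ≫ U.ι := by
    rw [Category.assoc, coprod.inl_desc, Scheme.Hom.toImage_imageι_assoc, hfac]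
  have key : π ⁻¹ᵁ U.ι.opensRange = i.opensRange := by
    rw [Scheme.Opens.opensRange_ι]
    refine Opens.ext (Set.ext fun x => ⟨fun hx => ?_, ?_⟩)
    · obtain ⟨(t | t), rfl⟩ := (coprodMk _ _).surjective x
      · rw [coprodMk_inl] at hx ⊢
        change π (coprod.inl (C := Scheme.{u}) t) ∈ U at hx
        rw [← Scheme.Hom.comp_apply, coprod.inl_desc, Scheme.Hom.comp_apply] at hx
        have hcl : j.imageι t ∈ closure (Set.range j) := by
          have h : j.imageι t ∈ Set.range j.imageι := ⟨t, rfl⟩
          rwa [Scheme.Hom.imageι, Scheme.IdealSheafData.range_subschemeι, Scheme.Hom.support_ker] at h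
        have hmem : (⟨j.imageι t, hx⟩ : O) ∈ closure (Set.range j') := by
          rw [O.ι.isOpenEmbedding.isInducing.closure_eq_preimage_closure_image]
          change j.imageι t ∈ closure (O.ι '' Set.range j')
          rw [← Set.range_comp]
          have h : O.ι ∘ j' = j := funext fun y =>
            (Scheme.Hom.comp_apply j' O.ι y).symm.trans (by rw [hj'])
          rw [h]
          exact hcl
        rw [hclosed.closure_eq] at hmem
        obtain ⟨y, hy⟩ := hmem
        refine ⟨y, ?_⟩
        rw [Scheme.Hom.comp_apply]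
        refine congrArg _ (j.imageι.isEmbedding.injective ?_)
        rw [← Scheme.Hom.comp_apply, Scheme.Hom.toImage_imageι]
        calc j y = O.ι (j' y) := by rw [← Scheme.Hom.comp_apply, hj']
          _ = j.imageι t := congrArg O.ι hy
      · rw [coprodMk_inr] at hx
        change π (coprod.inr (C := Scheme.{u}) t) ∈ U at hx
        rw [← Scheme.Hom.comp_apply, coprod.inr_desc] at hx
        exact absurd hx (hz.le ⟨t, rfl⟩)
    · rintro ⟨y, rfl⟩
      change π (i y) ∈ U
      rw [← Scheme.Hom.comp_apply, hcomm, Scheme.Hom.comp_apply]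
      exact (v y).2
  refine ⟨_, π, i, ⟨fun s => ?_⟩, inferInstance, (IsOpenImmersion.isPullback v i U.ι π hcomm key).flip⟩
  by_cases hs : s ∈ U
  · obtain ⟨y, hy⟩ := v.surjective ⟨s, hs⟩
    refine ⟨i y, ?_⟩
    rw [← Scheme.Hom.comp_apply, hcomm, Scheme.Hom.comp_apply, hy]
    rfl
  · obtain ⟨t, ht⟩ := hz.ge hs
    refine ⟨coprod.inr (C := Scheme.{u}) t, ?_⟩
    rw [← Scheme.Hom.comp_apply, coprod.inr_desc]
    exact ht

end Groth.FlatMor2
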