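import Groth.Agent.FlatMor2.FlatSupportAlg
import Groth.Agent.FibreDim.LowerSemicont
import Groth.Agent.QCohMod.Affine
import Groth.Agent.QCohMod.SupportPullback
import Groth.Agent.CohC3.LimitSys
import Groth.Prelude.Def_FlatMod2

/-!
# Fibre dimension of the support of a flat module
-/

universe u

open CategoryTheory CategoryTheory.Limits AlgebraicGeometry TopologicalSpace Topology

set_option linter.style.haveILetI false

namespace Groth.FlatMor2.FlatSupport

variable {X S : Scheme.{u}} (f : X ⟶ S) [LocallyOfFiniteType f] [IrreducibleSpace ↑S]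
  (F : X.Modules) (hF : Coh.IsCoh F)

omit [LocallyOfFiniteType f] [IrreducibleSpace ↑S] in
/-- Points of `Spec O_x` in the support of the stalk give points in the support. -/
theorem fromSpecStalk_mem_support [F.IsQuasicoherent] (x : X) (Q : PrimeSpectrum (X.presheaf.stalk x))
    (hQ : Q ∈ Module.support (X.presheaf.stalk x) (F.presheaf.stalk x)) :
    (X.fromSpecStalk x).base Q ∈ CohB1.support F := by
  obtain ⟨U, hU, hxU, -⟩ := exists_isAffineOpen_mem_and_subset (U := ⊤) (Set.mem_univ x)
  set x' := (X.fromSpecStalk x).base Q with hx'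
  have hsp : x' ⤳ x := (Scheme.range_fromSpecStalk (x := x)).le ⟨Q, rfl⟩
  have hx'U : x' ∈ U := hsp.mem_open U.isOpen hxU
  rw [Groth.QCohMod.mem_support_iff F hU x' hx'U, Module.mem_support_iff']
  obtain ⟨t, ht⟩ := Module.mem_support_iff'.1 hQ
  obtain ⟨a, m, ha, hm⟩ := Groth.QCohMod.exists_smul_germ_eq F hU x hxU t
  refine ⟨m, fun r hr h0 => ?_⟩
  have hb := (Groth.QCohMod.mem_basicOpen_iff_notMem_primeIdealOf hU r x' hx'U).2 hr
  have hnot : X.presheaf.germ U x hxU r ∉ Q.asIdeal := by
    have h1 : Q ∈ (X.fromSpecStalk x).base ⁻¹' (X.basicOpen r : Set X) := hb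
    rw [← TopologicalSpace.Opens.coe_comap] at h1
    have h2 : Q ∈ (X.fromSpecStalk x) ⁻¹ᵁ X.basicOpen r := hb
    rw [Scheme.preimage_basicOpen, Scheme.fromSpecStalk_app hxU, CommRingCat.comp_apply,
      CommRingCat.comp_apply, Scheme.basicOpen_res] at h2
    have h3 := h2.2
    rw [basicOpen_eq_of_affine] at h3
    exact h3
  refine ht _ hnot ?_
  have hu : IsUnit (X.presheaf.germ U x hxU a) := (Scheme.mem_basicOpen X a x hxU).1 ha
  refine hu.smul_eq_zero.1 ?_
  rw [← smul_comm, hm, ← Groth.QCohMod.germ_smul, h0, map_zero]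

include hF in
theorem exists_generic_point (hfl : FlatMod.IsFlatOver f F) (x : X) (hx : x ∈ CohB1.support F) :
    ∃ x' : X, f.base x' = genericPoint ↑S ∧ x' ∈ CohB1.support F ∧
      Groth.Variety2.Dim.relTrdeg f x ≤ Groth.Variety2.Dim.relTrdeg f x' := by
  haveI := hF.1
  letI := FlatMod.moduleStalkOver f F x
  haveI hflat : Module.Flat (S.presheaf.stalk (f.base x)) (F.presheaf.stalk x) := hfl x
  letI : Algebra (S.presheaf.stalk (f.base x)) (X.presheaf.stalk x) := (f.stalkMap x).hom.toAlgebra
  haveI : IsScalarTower (S.presheaf.stalk (f.base x)) (X.presheaf.stalk x) (F.presheaf.stalk x) :=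
    IsScalarTower.of_algebraMap_smul fun r m => rfl
  haveI : Module.Finite (X.presheaf.stalk x) (F.presheaf.stalk x) := Groth.QCohMod.finite_stalk F hF.2 x
  haveI : Nontrivial (F.presheaf.stalk x) := not_subsingleton_iff_nontrivial.1 hx
  haveI : IsLocalHom (algebraMap (S.presheaf.stalk (f.base x)) (X.presheaf.stalk x)) :=
    inferInstanceAs (IsLocalHom (f.stalkMap x).hom)
  -- a transcendence basis of the residue field
  letI : Algebra (S.residueField (f.base x)) (X.residueField x) := (f.residueFieldMap x).hom.toAlgebra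
  haveI : FaithfulSMul (S.residueField (f.base x)) (X.residueField x) :=
    (faithfulSMul_iff_algebraMap_injective _ _).2 (f.residueFieldMap x).hom.injective
  obtain ⟨ι, ybar, hy⟩ := exists_isTranscendenceBasis' (S.residueField (f.base x)) (X.residueField x)
  choose y hy' using fun i => Scheme.residue_surjective X x (ybar i)
  have hy'' : AlgebraicIndependent (IsLocalRing.ResidueField (S.presheaf.stalk (f.base x)))
      fun i => IsLocalRing.residue (X.presheaf.stalk x) (y i) := by
    have : (fun i => IsLocalRing.residue (X.presheaf.stalk x) (y i)) = ybar := funext hy'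
    rw [this]
    exact hy.1
  -- the generic point as a prime of the local ring of the base
  obtain ⟨p₀, hp₀⟩ : genericPoint ↑S ∈ Set.range (S.fromSpecStalk (f.base x)).base :=
    (Scheme.range_fromSpecStalk (x := f.base x)).ge (genericPoint_specializes _)
  have hmin : p₀.asIdeal ∈ minimalPrimes (S.presheaf.stalk (f.base x)) := by
    refine ⟨⟨p₀.2, bot_le⟩, fun P hP hle => ?_⟩
    haveI := hP.1
    have hs : (⟨P, hP.1⟩ : PrimeSpectrum (S.presheaf.stalk (f.base x))) ⤳ p₀ :=
      (PrimeSpectrum.le_iff_specializes _ p₀).1 hle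
    have he : (S.fromSpecStalk (f.base x)).base ⟨P, hP.1⟩ = (S.fromSpecStalk (f.base x)).base p₀ := by
      refine ((hs.map (S.fromSpecStalk (f.base x)).continuous).antisymm ?_).eq
      rw [hp₀]
      exact genericPoint_specializes _
    exact (congrArg PrimeSpectrum.asIdeal ((S.fromSpecStalk (f.base x)).isEmbedding.injective he)).ge
  obtain ⟨Q, hQ, hQp, hQy⟩ := exists_prime (M := F.presheaf.stalk x) y hy'' p₀.asIdeal hmin
  let x' := (X.fromSpecStalk x).base Q
  have hfx' : f.base x' = genericPoint ↑S := by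
    rw [← hp₀]
    show (X.fromSpecStalk x ≫ f).base Q = _
    rw [← Scheme.SpecMap_stalkMap_fromSpecStalk f, Scheme.Hom.comp_apply]
    exact congrArg _ (PrimeSpectrum.ext hQp)
  refine ⟨x', hfx', fromSpecStalk_mem_support F x Q hQ, ?_⟩
  -- the images of `y` in the residue field of `x'`
  have hsp : x' ⤳ x := (Scheme.range_fromSpecStalk (x := x)).le ⟨Q, rfl⟩
  let θ : X.presheaf.stalk x ⟶ X.residueField x' := X.presheaf.stalkSpecializes hsp ≫ X.residue x'
  let θ₀ : S.presheaf.stalk (f.base x) ⟶ S.residueField (f.base x') :=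
    S.presheaf.stalkSpecializes (hsp.map f.continuous) ≫ S.residue (f.base x')
  have hker : ∀ {T : Scheme.{u}} (t t' : T) (h : t' ⤳ t) (P : PrimeSpectrum (T.presheaf.stalk t)),
      (T.fromSpecStalk t).base P = t' →
        RingHom.ker (T.presheaf.stalkSpecializes h ≫ T.residue t').hom = P.asIdeal := by
    intro T t t' h P hP
    have h1 : (Spec.map (T.presheaf.stalkSpecializes h ≫ T.residue t') ≫ T.fromSpecStalk t).base
        (IsLocalRing.closedPoint (T.residueField t')) = t' := by
      rw [Spec.map_comp, Category.assoc, Scheme.SpecMap_stalkSpecializes_fromSpecStalk]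
      exact Scheme.fromSpecResidueField_apply _ _
    rw [Scheme.Hom.comp_apply] at h1
    have h2 := congrArg PrimeSpectrum.asIdeal ((T.fromSpecStalk t).isEmbedding.injective (h1.trans hP.symm))
    refine Eq.trans ?_ h2
    show _ = Ideal.comap _ (IsLocalRing.maximalIdeal (T.residueField t'))
    rw [IsLocalRing.maximalIdeal_eq_bot, ← RingHom.ker_eq_comap_bot]
  have hθ : RingHom.ker θ.hom = Q.asIdeal := hker x x' hsp Q rfl
  have hθ₀ : RingHom.ker θ₀.hom = p₀.asIdeal :=
    hker (f.base x) (f.base x') (hsp.map f.continuous) p₀ (by rw [hp₀, hfx'])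
  have hcomm : θ₀ ≫ f.residueFieldMap x' = f.stalkMap x ≫ θ := by
    simp only [θ, θ₀, Category.assoc]
    rw [Scheme.residue_residueFieldMap, ← Scheme.Hom.stalkSpecializes_stalkMap_assoc f x' x hsp]
  let L := X.residueField x'
  let K := S.residueField (f.base x')
  letI : Algebra K L := (f.residueFieldMap x').hom.toAlgebra
  let D := S.presheaf.stalk (f.base x) ⧸ p₀.asIdeal
  letI : Algebra D K := (Ideal.Quotient.lift p₀.asIdeal θ₀.hom fun a ha => by
    rw [← hθ₀] at ha; exact ha).toAlgebra
  haveI : FaithfulSMul D K := (faithfulSMul_iff_algebraMap_injective _ _).2 <| by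
    rw [RingHom.algebraMap_toAlgebra]
    exact RingHom.lift_injective_of_ker_le_ideal _ _ hθ₀.le
  have hfrac : IsFractionRing D K := IsFractionRing.of_field _ _ fun w => by
    obtain ⟨V, hV, hsV, -⟩ := exists_isAffineOpen_mem_and_subset (U := ⊤) (Set.mem_univ (f.base x))
    have hηV : f.base x' ∈ V := (hsp.map f.continuous).mem_open V.isOpen hsV
    obtain ⟨a, b, -, rfl⟩ := Groth.Variety2.Dim.exists_evaluation_eq_div hV hηV w
    have hev : ∀ c, algebraMap D K (Ideal.Quotient.mk _ (S.presheaf.germ V _ hsV c)) =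
        S.evaluation V (f.base x') hηV c := fun c => by
      show θ₀.hom (S.presheaf.germ V _ hsV c) = _
      simp only [θ₀, CommRingCat.comp_apply, CommRingCat.hom_comp, RingHom.comp_apply]
      rw [TopCat.Presheaf.germ_stalkSpecializes_apply]
      rfl
    exact ⟨Ideal.Quotient.mk _ (S.presheaf.germ V _ hsV a), Ideal.Quotient.mk _ (S.presheaf.germ V _ hsV b),
      (by rw [hev a, hev b])⟩
  letI : Algebra D L := ((algebraMap K L).comp (algebraMap D K)).toAlgebra
  haveI : IsScalarTower D K L := IsScalarTower.of_algebraMap_eq fun _ => rfl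
  have hind : AlgebraicIndependent D fun i => θ.hom (y i) := by
    rw [algebraicIndependent_iff]
    intro P hP
    obtain ⟨P, rfl⟩ := MvPolynomial.map_surjective _ Ideal.Quotient.mk_surjective P
    have hmem : MvPolynomial.aeval y P ∈ Q.asIdeal := by
      rw [← hθ, RingHom.mem_ker]
      refine Eq.trans ?_ hP
      rw [MvPolynomial.aeval_def, MvPolynomial.aeval_def, MvPolynomial.eval₂_map,
        MvPolynomial.eval₂_comp_left θ.hom]
      congr 1
      ext c
      exact (congr($(congrArg CommRingCat.Hom.hom hcomm) c)).symm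
    ext d
    rw [MvPolynomial.coeff_map, MvPolynomial.coeff_zero, Ideal.Quotient.eq_zero_iff_mem]
    exact hQy P hmem d
  haveI : Algebra.IsAlgebraic D K := IsLocalization.isAlgebraic K (nonZeroDivisors D)
  have hindK : AlgebraicIndependent K fun i => θ.hom (y i) := hind.extendScalars K
  calc Groth.Variety2.Dim.relTrdeg f x = Cardinal.mk ι := hy.cardinalMk_eq_trdeg.symm
    _ ≤ _ := hindK.cardinalMk_le_trdeg

include hF in
theorem dim_le (hfl : FlatMod.IsFlatOver f F) (r : WithBot ℕ∞)
    (h : topologicalKrullDim ↑(f.base ⁻¹' {genericPoint ↑S} ∩ CohB1.support F) ≤ r) (s : S) :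
    topologicalKrullDim ↑(f.base ⁻¹' {s} ∩ CohB1.support F) ≤ r := by
  have hcl := Groth.CohC3.isClosed_support_of_isCoh F hF
  have hdim : ∀ t : S, topologicalKrullDim ↑(f.base ⁻¹' {t} ∩ CohB1.support F) =
      ⨆ z ∈ (f.fiberι t).base ⁻¹' CohB1.support F, ((Order.height z : ℕ∞) : WithBot ℕ∞) := by
    intro t
    rw [← Groth.Variety2.Dim.dim_closed (X := f.fiber t) (hcl.preimage (f.fiberι t).continuous)]
    have e := (f.fiberι t).isEmbedding.homeomorphImage ((f.fiberι t).base ⁻¹' CohB1.support F)
    rw [e.isHomeomorph.topologicalKrullDim_eq]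
    rw [Set.image_preimage_eq_inter_range, f.range_fiberι, Set.inter_comm]
  rw [hdim]
  refine iSup₂_le fun z hz => ?_
  let x := (f.fiberι s).base z
  obtain ⟨x', hx', hx's, hle⟩ := exists_generic_point f F hF hfl x hz
  obtain ⟨n, hn, -⟩ := Groth.FibreDim.exists_relTrdeg_eq_height f x
  have hz' : Order.height z = n := by
    have hfx : f.base x = s := by
      have h1 : x ∈ Set.range (f.fiberι s).base := ⟨z, rfl⟩
      rwa [f.range_fiberι] at h1
    have hkey : ∀ (t : S) (_ : f.base x = t) (w : f.fiber t), (f.fiberι t).base w = x → Order.height w = n := by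
      rintro _ rfl w hw
      obtain ⟨k, hk, hk'⟩ := Groth.FibreDim.exists_relTrdeg_eq_height f x
      rw [show w = f.asFiber x from (f.fiberι _).isEmbedding.injective (hw.trans (f.fiberι_asFiber x).symm), hk']
      exact_mod_cast Nat.cast_injective (R := Cardinal.{u}) (hk.symm.trans hn)
    exact hkey s hfx z rfl
  obtain ⟨m, hm, hm'⟩ := Groth.FibreDim.exists_relTrdeg_eq_height f x'
  rw [hn, hm, Nat.cast_le] at hle
  rw [hz']
  refine le_trans (WithBot.coe_le_coe.2 (Nat.cast_le.2 hle)) ?_
  rw [← hm']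
  have hgen : topologicalKrullDim ↑(f.base ⁻¹' {f.base x'} ∩ CohB1.support F) ≤ r := by rwa [hx']
  rw [hdim] at hgen
  refine le_trans ?_ hgen
  refine le_iSup₂ (f := fun z (_ : z ∈ (f.fiberι (f.base x')).base ⁻¹' CohB1.support F) =>
    ((Order.height z : ℕ∞) : WithBot ℕ∞)) (f.asFiber x') ?_
  show (f.fiberι _).base (f.asFiber x') ∈ CohB1.support F
  rw [f.fiberι_asFiber]
  exact hx's

end Groth.FlatMor2.FlatSupport
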