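import Mathlib

/-!
# Independent residues lift to the support of a flat module
-/

set_option linter.style.haveILetI false

universe u

open IsLocalRing

namespace Groth.FlatMor2.FlatSupport

variable {R₀ R M : Type u} [CommRing R₀] [IsLocalRing R₀] [CommRing R] [IsLocalRing R] [Algebra R₀ R]
  [IsLocalHom (algebraMap R₀ R)] [AddCommGroup M] [Module R M] [Module R₀ M] [IsScalarTower R₀ R M]
  [Module.Finite R M] [Module.Flat R₀ M] [Nontrivial M]

/-- If `M` is flat over `R₀` and elements of `R` have algebraically independent residues, there is a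
prime in the support of `M` over any minimal prime of `R₀` modulo which they stay independent. -/
theorem exists_prime {ι : Type u} (y : ι → R)
    (hy : AlgebraicIndependent (ResidueField R₀) fun i => residue R (y i))
    (p₀ : Ideal R₀) (hp₀ : p₀ ∈ minimalPrimes R₀) :
    ∃ Q : PrimeSpectrum R, Q ∈ Module.support R M ∧ Q.asIdeal.comap (algebraMap R₀ R) = p₀ ∧
      ∀ P : MvPolynomial ι R₀, MvPolynomial.aeval y P ∈ Q.asIdeal → ∀ d, P.coeff d ∈ p₀ := by
  -- an element of `M` outside `m M`, and a functional detecting it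
  obtain ⟨m, hm⟩ : ∃ m : M, (1 : ResidueField R) ⊗ₜ[R] m ≠ 0 := by
    by_contra hcon
    push Not at hcon
    haveI : Nontrivial (TensorProduct R (ResidueField R) M) :=
      (not_subsingleton_iff_nontrivial).1 fun h => not_subsingleton M
        (IsLocalRing.subsingleton_tensorProduct.1 h)
    obtain ⟨t, ht⟩ := exists_ne (0 : TensorProduct R (ResidueField R) M)
    refine ht ?_
    clear ht
    induction t using TensorProduct.induction_on with
    | zero => rfl
    | tmul c m =>
      obtain ⟨r, rfl⟩ := residue_surjective c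
      rw [show residue R r = r • (1 : ResidueField R) from (Algebra.algebraMap_eq_smul_one r),
        ← TensorProduct.smul_tmul', hcon m, smul_zero]
    | add a b ha hb => rw [ha, hb, add_zero]
  obtain ⟨φ₀, hφ₀⟩ : ∃ φ : Module.Dual (ResidueField R) (TensorProduct R (ResidueField R) M),
      φ ((1 : ResidueField R) ⊗ₜ[R] m) ≠ 0 := by
    by_contra hcon
    push Not at hcon
    exact hm ((Module.forall_dual_apply_eq_zero_iff (ResidueField R) _).1 hcon)
  let φ : M →ₗ[R] ResidueField R := (φ₀.restrictScalars R).comp
    (TensorProduct.mk R (ResidueField R) M (1 : ResidueField R))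
  have hφ : φ m ≠ 0 := hφ₀
  let v : (ι →₀ ℕ) → M := fun d => MvPolynomial.aeval y (MvPolynomial.monomial d (1 : R₀)) • m
  haveI : IsScalarTower R₀ (ResidueField R₀) (ResidueField R) :=
    IsScalarTower.of_algebraMap_eq fun a => rfl
  let L : TensorProduct R₀ (ResidueField R₀) M →ₗ[ResidueField R₀] ResidueField R :=
    TensorProduct.AlgebraTensorModule.lift
      ((LinearMap.ringLmapEquivSelf (ResidueField R₀) (ResidueField R₀) (M →ₗ[R₀] ResidueField R)).symm
        (φ.restrictScalars R₀))
  have hL : ∀ b, L (1 ⊗ₜ b) = φ b := fun b => by simp [L]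
  have hmon : LinearIndependent (ResidueField R₀) fun d : ι →₀ ℕ =>
      MvPolynomial.aeval (fun i => residue R (y i)) (MvPolynomial.monomial d (1 : ResidueField R₀)) :=
    ((MvPolynomial.basisMonomials ι (ResidueField R₀)).linearIndependent.map'
      (MvPolynomial.aeval fun i => residue R (y i)).toLinearMap (LinearMap.ker_eq_bot.2
        (algebraicIndependent_iff_injective_aeval.1 hy)))
  have hv : LinearIndependent (ResidueField R₀) (TensorProduct.mk R₀ (ResidueField R₀) M 1 ∘ v) := by
    refine LinearIndependent.of_comp L ?_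
    have := hmon.map' (LinearMap.mulRight (ResidueField R₀) (φ m))
      (LinearMap.ker_eq_bot.2 (mul_left_injective₀ hφ))
    refine (show (L ∘ TensorProduct.mk R₀ (ResidueField R₀) M 1 ∘ v) = _ from ?_) ▸ this
    funext d
    simp only [Function.comp_apply, TensorProduct.mk_apply, hL, v, LinearMap.mulRight_apply, map_smul,
      MvPolynomial.aeval_monomial, map_one, one_mul, Finsupp.prod, Algebra.smul_def]
    rw [map_prod]
    simp only [map_pow]
    rfl
  have hind := Module.IsLocalRing.linearIndependent_of_flat v hv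
  let g : MvPolynomial ι R₀ →+* R := (MvPolynomial.aeval y).toRingHom
  have hg : ∀ P, g P • m = 0 → P = 0 := by
    intro P hP
    have h : ((LinearMap.toSpanSingleton R M m).restrictScalars R₀).comp (MvPolynomial.aeval y).toLinearMap =
        (MvPolynomial.basisMonomials ι R₀).constr R₀ v :=
      (MvPolynomial.basisMonomials ι R₀).ext fun d => by
        rw [Module.Basis.constr_basis, MvPolynomial.coe_basisMonomials]
        rfl
    have h0 : (MvPolynomial.basisMonomials ι R₀).constr R₀ v P = 0 := by rw [← h]; exact hP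
    simp only [Module.Basis.constr_apply] at h0
    exact (MvPolynomial.basisMonomials ι R₀).repr.injective
      ((hind.finsuppLinearCombination_injective (h0.trans (map_zero _).symm)).trans (map_zero _).symm)
  let I := (R ∙ m).annihilator
  have hI : I.comap g = ⊥ := by
    refine le_bot_iff.1 fun P hP => ?_
    exact hg P (Submodule.mem_annihilator_span_singleton _ _ |>.1 hP)
  haveI hp := hp₀.isPrime
  let p' : Ideal (MvPolynomial ι R₀) := RingHom.ker (MvPolynomial.map (Ideal.Quotient.mk p₀))
  have hp' : ∀ P, P ∈ p' ↔ ∀ d, P.coeff d ∈ p₀ := fun P => by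
    rw [RingHom.mem_ker, MvPolynomial.ext_iff]
    simp only [MvPolynomial.coeff_map, MvPolynomial.coeff_zero, Ideal.Quotient.eq_zero_iff_mem]
  have hmin : p' ∈ (I.comap g).minimalPrimes := by
    rw [hI]
    haveI : p'.IsPrime := RingHom.ker_isPrime _
    refine ⟨⟨inferInstance, bot_le⟩, fun Q hQ hle => ?_⟩
    have hQ1 := hQ.1
    have hle₀ : p₀ ≤ Q.comap MvPolynomial.C := hp₀.2 ⟨inferInstance, bot_le⟩ fun a ha => by
      have := (hp' _).1 (hle ha) 0
      rwa [MvPolynomial.coeff_zero_C] at this
    intro P hP
    rw [MvPolynomial.as_sum P]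
    refine Q.sum_mem fun d _ => ?_
    rw [← mul_one (P.coeff d), ← MvPolynomial.C_mul_monomial]
    exact Q.mul_mem_right _ (hle₀ ((hp' P).1 hP d))
  obtain ⟨Q, hQ, hIQ, hQg⟩ := Ideal.exists_comap_eq_of_mem_minimalPrimes g p' hmin
  refine ⟨⟨Q, hQ⟩, Module.mem_support_iff_exists_annihilator.2 ⟨m, hIQ⟩, ?_, ?_⟩
  · ext a
    have : MvPolynomial.C a ∈ Q.comap g ↔ MvPolynomial.C a ∈ p' := by rw [hQg]
    rw [Ideal.mem_comap, hp'] at this
    rw [Ideal.mem_comap]
    refine Iff.trans ?_ (this.trans ⟨fun h => by simpa [MvPolynomial.coeff_zero_C] using h 0, fun ha d => ?_⟩)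
    · show _ ↔ MvPolynomial.aeval y (MvPolynomial.C a) ∈ Q
      rw [MvPolynomial.aeval_C]
    · classical
      rw [MvPolynomial.coeff_C]
      split <;> simp [ha]
  · intro P hP
    exact (hp' P).1 (hQg ▸ hP)

end Groth.FlatMor2.FlatSupport
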