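import Groth.Agent.FlatMorOne.FlatnessCriteria
import Groth.Agent.FlatMor2.NilBaseChange
import Mathlib.RingTheory.Smooth.Fiber
import Mathlib.AlgebraicGeometry.Morphisms.Smooth
import Mathlib.AlgebraicGeometry.Morphisms.Etale
import Mathlib.RingTheory.Nakayama

/-!
# Smoothness and étaleness from the infinitesimal neighbourhoods of a closed subscheme
-/

universe u

open AlgebraicGeometry CategoryTheory Limits TensorProduct

namespace Groth.FlatMor2

section quotient

variable {A B C D : CommRingCat.{u}} {φ : A ⟶ B} {π : A ⟶ C} {ρ : B ⟶ D} {ψ : C ⟶ D}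

lemma smooth_quotient_of_isPushout (H : IsPushout φ π ρ ψ) (hπ : Function.Surjective π)
    (J : Ideal A) (hJ : RingHom.ker π.hom = J) (hψ : ψ.hom.Smooth) :
    letI := φ.hom.toAlgebra
    Algebra.Smooth (A ⧸ J) ((A ⧸ J) ⊗[A] B) := by
  subst hJ
  algebraize [φ.hom, π.hom, ρ.hom, ψ.hom, ψ.hom.comp π.hom]
  have : IsScalarTower A B D := .of_algebraMap_eq fun a => (congr($(H.w) a)).symm
  have : IsScalarTower A C D := .of_algebraMap_eq fun a => rfl
  have hp : Algebra.IsPushout A C B D :=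
    Algebra.IsPushout.symm (CommRingCat.isPushout_iff_isPushout.mp H)
  have : Algebra.Smooth C D := hψ
  have : Algebra.Smooth C (C ⊗[A] B) := .of_equiv (Algebra.IsPushout.equiv A C B D).symm
  let e : (A ⧸ RingHom.ker π.hom) ≃ₐ[A] C :=
    Ideal.quotientKerAlgEquivOfSurjective (f := Algebra.ofId A C) hπ
  let := e.symm.toAlgHom.toRingHom.toAlgebra
  have : IsScalarTower A C (A ⧸ RingHom.ker π.hom) :=
    .of_algebraMap_eq fun a => (e.symm.commutes a).symm
  exact .of_equiv (Algebra.TensorProduct.cancelBaseChange A C (A ⧸ RingHom.ker π.hom) (A ⧸ RingHom.ker π.hom) B)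

end quotient

section ring

variable {A B : Type u} [CommRing A] [CommRing B] [Algebra A B]

set_option backward.defeqAttrib.useBackward true in
set_option backward.isDefEq.respectTransparency false in
/-- Like `Algebra.IsSmoothAt.of_formallySmooth_fiber`, only assuming flatness at `q`. -/
lemma isSmoothAt_of_flat_localization {R S : Type u} [CommRing R] [CommRing S] [Algebra R S]
    [Algebra.FinitePresentation R S] (p : Ideal R) (q : Ideal S)
    [p.IsPrime] [q.IsPrime] [q.LiesOver p] [Module.Flat R (Localization.AtPrime q)]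
    [Algebra.FormallySmooth p.ResidueField (p.Fiber S)] : Algebra.IsSmoothAt R q := by
  let Rp := Localization.AtPrime p
  let Sp := Localization (Algebra.algebraMapSubmonoid S p.primeCompl)
  let Sq := Localization.AtPrime q
  let := Localization.AtPrime.algebraOfLiesOver p q
  let f : Sp →ₐ[S] Sq := IsLocalization.liftAlgHom (M := Algebra.algebraMapSubmonoid S p.primeCompl)
        (f := Algebra.ofId _ _) (by
      rintro ⟨_, x, hx, rfl⟩
      simpa using! IsLocalization.map_units (M := q.primeCompl) Sq ⟨algebraMap _ _ x,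
        by simp_all [q.over_def p]⟩)
  algebraize [f.toRingHom]
  have : IsScalarTower R Sp Sq := .to₁₃₄ _ S _ _
  have : IsScalarTower Rp Sp Sq := .of_algebraMap_eq' <| by
    apply IsLocalization.ringHom_ext p.primeCompl
    simp only [RingHom.comp_assoc, ← IsScalarTower.algebraMap_eq]
  have : IsLocalization (Algebra.algebraMapSubmonoid Sp q.primeCompl) Sq :=
    .isLocalization_of_submonoid_le _ _ (Algebra.algebraMapSubmonoid S p.primeCompl) _
    (by rintro _ ⟨x, hx, rfl⟩; simp_all [q.over_def p])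
  have : Algebra.FinitePresentation Rp Sp := by
    have : Algebra.IsPushout R Rp S Sp :=
      .symm <| Algebra.isPushout_of_isLocalization p.primeCompl _ _ _
    exact .equiv (Algebra.IsPushout.equiv R Rp S Sp)
  have : Algebra.FormallySmooth (IsLocalRing.ResidueField Rp) ((IsLocalRing.ResidueField Rp) ⊗[Rp] Sq) := by
    let : Algebra S ((IsLocalRing.ResidueField Rp) ⊗[R] S) := Algebra.TensorProduct.rightAlgebra
    have : Algebra.FormallySmooth (IsLocalRing.ResidueField Rp) (((IsLocalRing.ResidueField Rp) ⊗[R] S) ⊗[S] Sq) :=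
      .comp _ ((IsLocalRing.ResidueField Rp) ⊗[R] S) _
    let e : (IsLocalRing.ResidueField Rp) ⊗[R] S ≃ₐ[S] S ⊗[R] (IsLocalRing.ResidueField Rp) :=
      { __ := Algebra.TensorProduct.comm _ _ _, commutes' _ := rfl }
    let e' : ((IsLocalRing.ResidueField Rp) ⊗[R] S) ⊗[S] Sq ≃ₐ[R] (IsLocalRing.ResidueField Rp) ⊗[Rp] Sq :=
      ((Algebra.TensorProduct.comm _ _ _).restrictScalars R).trans <|
      ((Algebra.TensorProduct.congr (.refl (R := S)) e).restrictScalars R).trans <|
      ((Algebra.TensorProduct.cancelBaseChange _ _ S _ _).restrictScalars R).trans <|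
      (Algebra.TensorProduct.comm _ _ _).trans (Algebra.TensorProduct.equivOfCompatibleSMul ..)
    have : e'.toAlgHom.comp (IsScalarTower.toAlgHom R p.ResidueField _) =
        IsScalarTower.toAlgHom _ _ _ := by ext
    let e'' : ((IsLocalRing.ResidueField Rp) ⊗[R] S) ⊗[S] Sq ≃ₐ[(IsLocalRing.ResidueField Rp)] (IsLocalRing.ResidueField Rp) ⊗[Rp] Sq :=
      { __ := e', commutes' r := congr($this r) }
    exact .of_equiv e''
  have : Module.Flat Rp Sq := (Module.flat_iff_of_isLocalization Rp p.primeCompl Sq).mpr inferInstance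
  have := Algebra.FormallySmooth.of_formallySmooth_residueField_tensor
    (R := Rp) (S := Sq) (P := Sp) (Algebra.algebraMapSubmonoid _ q.primeCompl)
  exact .comp R Rp Sq

lemma isSmoothAt_of_forall_smooth_quotient [IsNoetherianRing A] [Algebra.FinitePresentation A B]
    (I : Ideal A) (h : ∀ n : ℕ, Algebra.Smooth (A ⧸ I ^ (n + 1)) ((A ⧸ I ^ (n + 1)) ⊗[A] B))
    (q : Ideal B) [q.IsPrime] (hq : I.map (algebraMap A B) ≤ q) : Algebra.IsSmoothAt A q := by
  have : IsNoetherianRing B := Algebra.FiniteType.isNoetherianRing A B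
  have hflat : Module.Flat A (LocalizedModule q.primeCompl B) := by
    refine Groth.FlatMorOne.flat_localizedModule_of_forall_pow I (fun n hn => ?_) q hq
    obtain ⟨m, rfl⟩ := Nat.exists_eq_add_one.mpr hn
    have := h m
    infer_instance
  have : Module.Flat A (Localization.AtPrime q) :=
    Module.Flat.of_linearEquiv ((IsLocalizedModule.linearEquiv q.primeCompl
      (LocalizedModule.mkLinearMap q.primeCompl B) (Algebra.linearMap B (Localization.AtPrime q))).symm.restrictScalars A)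
  let p := q.under A
  have hI : I ≤ p := fun a ha => hq (Ideal.mem_map_of_mem _ ha)
  have hI1 : I ^ (0 + 1) ≤ p := by rwa [zero_add, pow_one]
  let := ((Ideal.Quotient.liftₐ (I ^ (0 + 1)) (Algebra.ofId A p.ResidueField) fun a ha => by
    rw [Algebra.ofId_apply, Ideal.algebraMap_residueField_eq_zero]; exact hI1 ha)).toRingHom.toAlgebra
  have : IsScalarTower A (A ⧸ I ^ (0 + 1)) p.ResidueField := .of_algebraMap_eq fun a => rfl
  have := h 0
  have : Algebra.FormallySmooth p.ResidueField (p.Fiber B) :=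
    .of_equiv (Algebra.TensorProduct.cancelBaseChange A (A ⧸ I ^ (0 + 1)) p.ResidueField p.ResidueField B)
  exact isSmoothAt_of_flat_localization p q

lemma isEtaleAt_of_forall_etale_quotient [IsNoetherianRing A] [Algebra.FinitePresentation A B]
    (I : Ideal A) (h : ∀ n : ℕ, Algebra.Smooth (A ⧸ I ^ (n + 1)) ((A ⧸ I ^ (n + 1)) ⊗[A] B))
    (h0 : (⊤ : Submodule B (Ω[B⁄A])) ≤ I.map (algebraMap A B) • ⊤)
    (q : Ideal B) [q.IsPrime] (hq : I.map (algebraMap A B) ≤ q) : Algebra.IsEtaleAt A q := by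
  have hs : Algebra.FormallySmooth A (Localization.AtPrime q) :=
    isSmoothAt_of_forall_smooth_quotient I h q hq
  obtain ⟨r, hr1, hr⟩ := Submodule.exists_sub_one_mem_and_smul_eq_zero_of_fg_of_le_smul
    (I.map (algebraMap A B)) (⊤ : Submodule B (Ω[B⁄A])) Module.Finite.fg_top h0
  have hrq : r ∉ q := fun hrq => ‹q.IsPrime›.ne_top ((Ideal.eq_top_iff_one q).mpr (by
    simpa using sub_mem hrq (hq hr1)))
  have hu : Algebra.FormallyUnramified A (Localization.AtPrime q) := by
    refine ⟨(KaehlerDifferential.tensorKaehlerEquivOfFormallyEtale A B (Localization.AtPrime q)).symm.subsingleton_congr.mpr ?_⟩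
    refine subsingleton_of_forall_eq 0 fun z => ?_
    induction z using TensorProduct.induction_on with
    | zero => rfl
    | add a b ha hb => rw [ha, hb, add_zero]
    | tmul s w =>
      obtain ⟨u, hu⟩ := IsLocalization.map_units (Localization.AtPrime q) (⟨r, hrq⟩ : q.primeCompl)
      have : s = r • (↑u⁻¹ * s) := by
        rw [Algebra.smul_def, ← mul_assoc, show algebraMap B (Localization.AtPrime q) r = (u : Localization.AtPrime q) from hu.symm, Units.mul_inv, one_mul]
      rw [this, TensorProduct.smul_tmul, hr w trivial, TensorProduct.tmul_zero]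
  exact Algebra.FormallyEtale.of_formallyUnramified_and_formallySmooth

end ring

variable {X S : Scheme.{u}} (f : X ⟶ S) [LocallyOfFinitePresentation f] [IsLocallyNoetherian S]
  (I : S.IdealSheafData)

lemma isPushout_infinitesimal (n : ℕ) (U : S.affineOpens) (V : X.affineOpens) (e : V.1 ≤ f ⁻¹ᵁ U.1) :
    ∃ (C D : CommRingCat.{u}) (π : Γ(S, U.1) ⟶ C) (ρ : Γ(X, V.1) ⟶ D) (ψ : C ⟶ D),
      IsPushout (f.appLE U.1 V.1 e) π ρ ψ ∧ Function.Surjective π ∧
      RingHom.ker π.hom = I.ideal U ^ (n + 1) ∧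
      (Smooth (pullback.snd f (I ^ (n + 1)).subschemeι) → ψ.hom.Smooth) ∧
      (Etale (pullback.snd f (I ^ (n + 1)).subschemeι) → ψ.hom.Smooth ∧ ψ.hom.FormallyUnramified) := by
  have hc := IsPullback.of_hasPullback f (I ^ (n + 1)).subschemeι
  have H := isPushout_app hc.flip.flip U.2 V.2 e
  refine ⟨_, _, _, _, _, H, (I ^ (n + 1)).subschemeι.app_surjective U.1 U.2, ?_, fun h => ?_, fun h => ?_⟩
  · rw [← Scheme.Hom.ker_apply, Scheme.IdealSheafData.ker_subschemeι, Scheme.IdealSheafData.ideal_pow]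
    rfl
  · exact HasRingHomProperty.appLE (P := @Smooth) _ h ⟨_, U.2.preimage _⟩ ⟨_, V.2.preimage _⟩ _
  · exact ⟨HasRingHomProperty.appLE (P := @Smooth) _ inferInstance ⟨_, U.2.preimage _⟩ ⟨_, V.2.preimage _⟩ _,
      HasRingHomProperty.appLE (P := @FormallyUnramified) _ inferInstance ⟨_, U.2.preimage _⟩ ⟨_, V.2.preimage _⟩ _⟩

lemma exists_affine_pair (x : X) :
    ∃ (U : S.affineOpens) (V : X.affineOpens) (_ : V.1 ≤ f ⁻¹ᵁ U.1), x ∈ V.1 := by
  obtain ⟨_, ⟨U, hU, rfl⟩, hxU, -⟩ :=
    S.isBasis_affineOpens.exists_subset_of_mem_open (Set.mem_univ (f x)) isOpen_univ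
  obtain ⟨_, ⟨V, hV, rfl⟩, hxV, hVU⟩ :=
    X.isBasis_affineOpens.exists_subset_of_mem_open hxU (U.2.preimage f.continuous)
  exact ⟨⟨U, hU⟩, ⟨V, hV⟩, hVU, hxV⟩

lemma map_ideal_le_primeIdealOf (U : S.affineOpens) (V : X.affineOpens) (e : V.1 ≤ f ⁻¹ᵁ U.1)
    {x : X} (hxV : x ∈ V.1) (hx : f x ∈ I.support) :
    (I.ideal U).map (f.appLE U.1 V.1 e).hom ≤ (V.2.primeIdealOf ⟨x, hxV⟩).asIdeal := by
  rw [Ideal.map_le_iff_le_comap]
  have h : U.2.primeIdealOf ⟨f x, e hxV⟩ ∈ PrimeSpectrum.zeroLocus (I.ideal U : Set Γ(S, U.1)) := by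
    rw [← IsAffineOpen.fromSpec_preimage_zeroLocus U.2]
    show U.2.fromSpec (U.2.primeIdealOf ⟨f x, e hxV⟩) ∈ (S.zeroLocus (I.ideal U : Set Γ(S, U.1)) : Set S)
    rw [IsAffineOpen.fromSpec_primeIdealOf U.2]
    exact (Set.ext_iff.mp (I.coe_support_inter U) (f x)).mp ⟨hx, e hxV⟩ |>.1
  have h' : U.2.primeIdealOf ⟨f x, e hxV⟩ = PrimeSpectrum.comap (f.appLE U.1 V.1 e).hom (V.2.primeIdealOf ⟨x, hxV⟩) :=
    (IsAffineOpen.comap_primeIdealOf_appLE U.1 U.2 V.1 V.2 e hxV).symm
  rw [h'] at h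
  exact h

lemma mem_smoothLocus_of_infinitesimal (h : ∀ n : ℕ, Smooth (pullback.snd f (I ^ (n + 1)).subschemeι))
    (x : X) (hx : f x ∈ I.support) : x ∈ f.smoothLocus := by
  obtain ⟨U, V, e, hxV⟩ := exists_affine_pair f x
  have : IsNoetherianRing Γ(S, U.1) := IsLocallyNoetherian.component_noetherian U
  have := f.finitePresentation_appLE U.2 V.2 e
  rw [Scheme.Hom.mem_smoothLocus, formallySmooth_stalkMap_iff U.1 U.2 V.1 V.2 e hxV]
  algebraize [(f.appLE U.1 V.1 e).hom]
  refine isSmoothAt_of_forall_smooth_quotient (I.ideal U) (fun n => ?_) _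
    (map_ideal_le_primeIdealOf f I U V e hxV hx)
  obtain ⟨C, D, π, ρ, ψ, H, hπ, hker, hs, -⟩ := isPushout_infinitesimal f I n U V e
  exact smooth_quotient_of_isPushout H hπ _ hker (hs (h n))

lemma exists_etale_nhd_of_infinitesimal (h : ∀ n : ℕ, Etale (pullback.snd f (I ^ (n + 1)).subschemeι))
    (x : X) (hx : f x ∈ I.support) : ∃ W : X.Opens, x ∈ W ∧ Etale (W.ι ≫ f) := by
  obtain ⟨U, V, e, hxV⟩ := exists_affine_pair f x
  have : IsNoetherianRing Γ(S, U.1) := IsLocallyNoetherian.component_noetherian U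
  have := f.finitePresentation_appLE U.2 V.2 e
  algebraize [(f.appLE U.1 V.1 e).hom]
  have : Algebra.IsEtaleAt Γ(S, U.1) (V.2.primeIdealOf ⟨x, hxV⟩).asIdeal := by
    refine isEtaleAt_of_forall_etale_quotient (I.ideal U) (fun n => ?_) ?_ _
      (map_ideal_le_primeIdealOf f I U V e hxV hx)
    · obtain ⟨C, D, π, ρ, ψ, H, hπ, hker, -, hs⟩ := isPushout_infinitesimal f I n U V e
      exact smooth_quotient_of_isPushout H hπ _ hker (hs (h n)).1
    · obtain ⟨C, D, π, ρ, ψ, H, hπ, hker, -, hs⟩ := isPushout_infinitesimal f I 0 U V e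
      have hk := kaehler_eq_smul_of_isPushout H hπ (hs (h 0)).2
      rw [hker, zero_add, pow_one] at hk
      exact hk.le
  have hV : IsAffineOpen V.1 := V.2
  obtain ⟨r, hr, hret⟩ := Algebra.exists_etale_of_isEtaleAt (R := Γ(S, U.1)) (V.2.primeIdealOf ⟨x, hxV⟩).asIdeal
  have e' : X.basicOpen r ≤ f ⁻¹ᵁ U.1 := (X.basicOpen_le r).trans e
  refine ⟨X.basicOpen r, ?_, ?_⟩
  · replace hr : hV.primeIdealOf ⟨x, hxV⟩ ∈ PrimeSpectrum.basicOpen r := hr
    rw [← hV.fromSpec_preimage_basicOpen] at hr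
    have h2 : hV.fromSpec (hV.primeIdealOf ⟨x, hxV⟩) ∈ X.basicOpen r := hr
    rwa [hV.fromSpec_primeIdealOf] at h2
  · have := V.2.isLocalization_basicOpen r
    have het : (f.appLE U.1 (X.basicOpen r) e').hom.Etale := by
      let := (f.appLE U.1 (X.basicOpen r) e').hom.toAlgebra
      have : IsScalarTower Γ(S, U.1) Γ(X, V.1) Γ(X, X.basicOpen r) := .of_algebraMap_eq' <| by
        change (f.appLE U.1 (X.basicOpen r) e').hom = RingHom.comp _ (f.appLE U.1 V.1 e).hom
        rw [← f.appLE_map e (homOfLE (X.basicOpen_le r)).op]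
        rfl
      exact RingHom.etale_algebraMap.mpr (.of_equiv ((IsLocalization.algEquiv (.powers r)
        (Localization.Away r) Γ(X, X.basicOpen r)).restrictScalars Γ(S, U.1)))
    have : IsAffine _ := U.2
    have : IsAffine _ := V.2.basicOpen r
    have : Etale (f.resLE U.1 (X.basicOpen r) e') := by
      rw [HasRingHomProperty.iff_of_isAffine (P := @Etale)]
      exact (RingHom.Etale.respectsIso.arrow_mk_iso_iff (arrowResLEAppIso f U.1 _ e')).mpr het
    rw [← f.resLE_comp_ι e']
    infer_instance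

end Groth.FlatMor2
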