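import Mathlib.AlgebraicGeometry.Normalization
import Mathlib.AlgebraicGeometry.IdealSheaf.Functorial
import Mathlib.AlgebraicGeometry.Morphisms.Finite
import Mathlib.AlgebraicGeometry.Limits

/-!
# Extending surjective integral morphisms from a retrocompact open
-/

universe u

open AlgebraicGeometry CategoryTheory Limits

namespace Groth.FlatMor2

theorem exists_integral_extension {S V : Scheme.{u}} (U : S.Opens) [QuasiCompact U.ι]
    (v : V ⟶ (U : Scheme.{u})) [IsIntegralHom v] [Surjective v] :
    ∃ (V' : Scheme.{u}) (π : V' ⟶ S) (i : V ⟶ V'), Surjective π ∧ IsIntegralHom π ∧ IsPullback i v π U.ι := by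
  let f := v ≫ U.ι
  have hP : IsIso (pullback.fst f U.ι) := inferInstance
  have hsnd : pullback.snd f U.ι = pullback.fst f U.ι ≫ v := by
    rw [← cancel_mono U.ι, Category.assoc]; exact pullback.condition.symm
  have : IsIntegralHom (pullback.snd f U.ι) := by
    rw [hsnd]; exact MorphismProperty.comp_mem _ _ _ inferInstance inferInstance
  have : Smooth U.ι := inferInstance
  have hi0 : f.toNormalization = inv (pullback.fst f U.ι) ≫ ((pullback.snd f U.ι).toNormalization ≫
      f.normalizationPullback U.ι) ≫ pullback.fst f.fromNormalization U.ι := by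
    rw [IsIso.eq_inv_comp, Category.assoc, Scheme.Hom.toNormalization_normalizationPullback_fst]
  have hopen : IsOpenImmersion f.toNormalization := hi0 ▸ inferInstance
  have hrange : Set.range f.toNormalization = f.fromNormalization ⁻¹' (U : Set S) := by
    rw [hi0, Scheme.Hom.comp_base, TopCat.coe_comp, Set.range_comp,
      Set.range_eq_univ.mpr (Scheme.Hom.surjective (inv (pullback.fst f U.ι))), Set.image_univ,
      Scheme.Hom.comp_base, TopCat.coe_comp, Set.range_comp,
      Set.range_eq_univ.mpr (Scheme.Hom.surjective ((pullback.snd f U.ι).toNormalization ≫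
        f.normalizationPullback U.ι)), Set.image_univ, Scheme.Pullback.range_fst, U.range_ι]
  let Z : TopologicalSpace.Closeds S := ⟨(U : Set S)ᶜ, U.2.isClosed_compl⟩
  let C := (Scheme.IdealSheafData.vanishingIdeal Z)
  let π : f.normalization ⨿ C.subscheme ⟶ S := coprod.desc f.fromNormalization C.subschemeι
  let i : V ⟶ f.normalization ⨿ C.subscheme := f.toNormalization ≫ coprod.inl
  have hiπ : i ≫ π = v ≫ U.ι := by
    simp only [i, π, Category.assoc, coprod.inl_desc, Scheme.Hom.toNormalization_fromNormalization]
    rfl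
  have hC : Set.range C.subschemeι = (U : Set S)ᶜ := by
    rw [Scheme.IdealSheafData.range_subschemeι, Scheme.IdealSheafData.coe_support_vanishingIdeal]
    rfl
  have : IsOpenImmersion i := inferInstance
  refine ⟨_, π, i, ⟨fun s => ?_⟩, inferInstance, (IsOpenImmersion.isPullback v i U.ι π hiπ ?_).flip⟩
  · by_cases hs : s ∈ U
    · obtain ⟨x, hx⟩ := v.surjective ⟨s, hs⟩
      exact ⟨i x, by rw [← Scheme.Hom.comp_apply, hiπ, Scheme.Hom.comp_apply, hx]; rfl⟩
    · obtain ⟨c, hc⟩ : s ∈ Set.range C.subschemeι := hC.symm ▸ hs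
      exact ⟨(coprod.inr : C.subscheme ⟶ _) c, by rw [← Scheme.Hom.comp_apply]; simp only [π, coprod.inr_desc, hc]⟩
  · apply TopologicalSpace.Opens.ext
    rw [U.opensRange_ι]
    ext x
    constructor
    · intro hx
      obtain ⟨y | c, rfl⟩ := (coprodMk f.normalization C.subscheme).surjective x
      · rw [coprodMk_inl] at hx ⊢
        have hy : f.fromNormalization y ∈ U := by
          have h : ((coprod.inl : f.normalization ⟶ _) ≫ π) y ∈ U := hx
          simp only [π, coprod.inl_desc] at h
          exact h
        obtain ⟨z, rfl⟩ : y ∈ Set.range f.toNormalization := hrange ▸ hy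
        exact ⟨z, rfl⟩
      · rw [coprodMk_inr] at hx
        have h : ((coprod.inr : C.subscheme ⟶ _) ≫ π) c ∈ U := hx
        simp only [π, coprod.inr_desc] at h
        exact absurd h ((Set.ext_iff.mp hC _).mp ⟨c, rfl⟩)
    · rintro ⟨z, rfl⟩
      show π (i z) ∈ U
      rw [← Scheme.Hom.comp_apply, hiπ, Scheme.Hom.comp_apply]
      exact (v z).2

end Groth.FlatMor2
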