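import Mathlib.Algebra.Colimit.Ring
import Mathlib.RingTheory.Ideal.GoingDown
import Mathlib.RingTheory.Flat.FaithfullyFlat.Algebra
import Mathlib.RingTheory.Ideal.MinimalPrime.Basic
import Mathlib.Data.Set.Card

/-!
# Minimal primes of a colimit of faithfully flat extensions
-/

universe u

namespace Groth.FlatMor2

variable {ι : Type u} [Preorder ι] [IsDirected ι (· ≤ ·)] [Nonempty ι] {G : ι → Type u} [∀ i, CommRing (G i)]
    (f : ∀ i j, i ≤ j → G i →+* G j) [DirectedSystem G fun i j h => f i j h]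

set_option quotPrecheck false
local notation "R∞" => Ring.DirectLimit G fun i j h => ⇑(f i j h)
local notation "of∞" i => Ring.DirectLimit.of G (fun i j h => ⇑(f i j h)) i

lemma of_comp {i j : ι} (h : i ≤ j) : (of∞ j).comp (f i j h) = of∞ i :=
  RingHom.ext fun _ => Ring.DirectLimit.of_f h _

lemma eq_stage {i j : ι} (x : G i) (y : G j) (h : (of∞ i) x = (of∞ j) y) :
    ∃ (k : ι) (hik : i ≤ k) (hjk : j ≤ k), f i k hik x = f j k hjk y := by
  obtain ⟨k, hik, hjk⟩ := exists_ge_ge i j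
  have h0 : (of∞ k) (f i k hik x - f j k hjk y) = 0 := by
    rw [map_sub, Ring.DirectLimit.of_f, Ring.DirectLimit.of_f, h, sub_self]
  obtain ⟨l, hkl, hl⟩ := Ring.DirectLimit.of.zero_exact (f' := f) h0
  refine ⟨l, hik.trans hkl, hjk.trans hkl, ?_⟩
  rw [map_sub, sub_eq_zero] at hl
  rwa [DirectedSystem.map_map (f := fun i j h => ⇑(f i j h)), DirectedSystem.map_map (f := fun i j h => ⇑(f i j h))] at hl

/-- An element killed off the minimal prime. -/
lemma exists_mul_pow_eq_zero {R : Type*} [CommRing R] {P : Ideal R} (hP : P ∈ minimalPrimes R) {x : R} (hx : x ∈ P) :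
    ∃ s ∉ P, ∃ n : ℕ, s * x ^ n = 0 := by
  have := hP.isPrime
  by_contra! H
  have hd : Disjoint ((⊥ : Ideal R) : Set R) (P.primeCompl ⊔ Submonoid.powers x : Submonoid R) := by
    rw [Set.disjoint_left]
    rintro z hz hzS
    obtain ⟨s, hs, _, ⟨n, rfl⟩, rfl⟩ := Submonoid.mem_sup.mp hzS
    exact H s hs n hz
  obtain ⟨Q, hQ, -, hQd⟩ := Ideal.exists_le_prime_disjoint _ _ hd
  have hle : Q ≤ P := fun z hz => by
    by_contra hzP
    exact hQd.le_bot ⟨hz, (le_sup_left : P.primeCompl ≤ P.primeCompl ⊔ Submonoid.powers x) hzP⟩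
  exact hQd.le_bot ⟨hP.2 ⟨hQ, bot_le⟩ hle hx,
    (le_sup_right : Submonoid.powers x ≤ P.primeCompl ⊔ Submonoid.powers x) ⟨1, pow_one x⟩⟩

variable (hf : ∀ i j (h : i ≤ j), letI := (f i j h).toAlgebra
      Module.FaithfullyFlat (G i) (G j))

include hf in
lemma comap_mem_minimalPrimes {P : Ideal R∞} (hP : P ∈ minimalPrimes R∞) (i : ι) :
    P.comap (of∞ i) ∈ minimalPrimes (G i) := by
  have := hP.isPrime
  have hp : (P.comap (of∞ i)).IsPrime := inferInstance
  refine ⟨⟨hp, bot_le⟩, ?_⟩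
  rintro q ⟨hq, -⟩ hqP x hx
  obtain ⟨s, hs, n, hsn⟩ := exists_mul_pow_eq_zero hP hx
  obtain ⟨j, y, rfl⟩ := Ring.DirectLimit.exists_of s
  obtain ⟨k, hjk, hik⟩ := exists_ge_ge j i
  have h0 : (of∞ k) (f j k hjk y * f i k hik x ^ n) = 0 := by
    rw [map_mul, map_pow, Ring.DirectLimit.of_f, Ring.DirectLimit.of_f]; exact hsn
  obtain ⟨l, hkl, hl⟩ := Ring.DirectLimit.of.zero_exact (f' := f) h0
  rw [map_mul, map_pow, DirectedSystem.map_map (f := fun i j h => ⇑(f i j h)),
    DirectedSystem.map_map (f := fun i j h => ⇑(f i j h))] at hl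
  let := (f i l (hik.trans hkl)).toAlgebra
  have := hf i l (hik.trans hkl)
  have : (P.comap (of∞ l)).LiesOver (P.comap (of∞ i)) :=
    ⟨by rw [Ideal.under_def, RingHom.algebraMap_toAlgebra, Ideal.comap_comap, of_comp]⟩
  obtain ⟨Q, hQP, hQ, hQq⟩ := Ideal.exists_ideal_le_liesOver_of_le (p := q) (q := P.comap (of∞ i)) (P.comap (of∞ l)) hqP
  have hyQ : f j l (hjk.trans hkl) y ∉ Q := fun hy => hs <| by
    have := hQP hy
    rwa [Ideal.mem_comap, Ring.DirectLimit.of_f] at this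
  have hxQ : f i l (hik.trans hkl) x ∈ Q := hQ.mem_of_pow_mem n ((hQ.mem_or_mem (hl ▸ Q.zero_mem)).resolve_left hyQ)
  rw [hQq.over, Ideal.mem_comap]
  exact hxQ

include hf in
lemma exists_prime_over (i : ι) (p : Ideal (G i)) [p.IsPrime] :
    ∃ Q : Ideal R∞, Q.IsPrime ∧ Q.comap (of∞ i) = p := by
  refine (Ideal.comap_map_eq_self_iff_of_isPrime p).mp (le_antisymm (fun x hx => ?_) Ideal.le_comap_map)
  have key : ∀ z ∈ p.map (of∞ i), ∃ (j : ι) (hij : i ≤ j) (y : G j), y ∈ p.map (f i j hij) ∧ (of∞ j) y = z := by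
    intro z hz
    induction hz using Submodule.span_induction with
    | mem z hz =>
      obtain ⟨a, ha, rfl⟩ := hz
      exact ⟨i, le_rfl, f i i le_rfl a, Ideal.mem_map_of_mem _ ha, Ring.DirectLimit.of_f _ _⟩
    | zero => exact ⟨i, le_rfl, 0, zero_mem _, map_zero _⟩
    | add z w _ _ hz hw =>
      obtain ⟨j, hij, y, hy, rfl⟩ := hz
      obtain ⟨k, hik, y', hy', rfl⟩ := hw
      obtain ⟨l, hjl, hkl⟩ := exists_ge_ge j k
      have e1 : (f j l hjl).comp (f i j hij) = f i l (hij.trans hjl) :=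
        RingHom.ext fun a => DirectedSystem.map_map (f := fun i j h => ⇑(f i j h)) hij hjl a
      have e2 : (f k l hkl).comp (f i k hik) = f i l (hij.trans hjl) :=
        RingHom.ext fun a => DirectedSystem.map_map (f := fun i j h => ⇑(f i j h)) hik hkl a
      refine ⟨l, hij.trans hjl, f j l hjl y + f k l hkl y', add_mem ?_ ?_, by simp⟩
      · rw [← e1, ← Ideal.map_map]; exact Ideal.mem_map_of_mem _ hy
      · rw [← e2, ← Ideal.map_map]; exact Ideal.mem_map_of_mem _ hy'
    | smul r z _ hz =>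
      obtain ⟨j, hij, y, hy, rfl⟩ := hz
      obtain ⟨k, s, rfl⟩ := Ring.DirectLimit.exists_of r
      obtain ⟨l, hjl, hkl⟩ := exists_ge_ge j k
      have e1 : (f j l hjl).comp (f i j hij) = f i l (hij.trans hjl) :=
        RingHom.ext fun a => DirectedSystem.map_map (f := fun i j h => ⇑(f i j h)) hij hjl a
      refine ⟨l, hij.trans hjl, f k l hkl s * f j l hjl y, Ideal.mul_mem_left _ _ ?_, by simp⟩
      rw [← e1, ← Ideal.map_map]; exact Ideal.mem_map_of_mem _ hy
  obtain ⟨j, hij, y, hy, hyx⟩ := key _ hx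
  obtain ⟨l, hjl, hil, hl⟩ := eq_stage f y x hyx
  let := (f i l hil).toAlgebra
  have := hf i l hil
  rw [← Ideal.comap_map_eq_self_of_faithfullyFlat (B := G l) p]
  show f i l hil x ∈ p.map (f i l hil)
  have e1 : (f j l hjl).comp (f i j hij) = f i l hil :=
    RingHom.ext fun a => DirectedSystem.map_map (f := fun i j h => ⇑(f i j h)) hij hjl a
  rw [← hl, ← e1, ← Ideal.map_map]
  exact Ideal.mem_map_of_mem _ hy

include hf in
theorem encard_minimalPrimes_directLimit :
    (minimalPrimes R∞).encard = ⨆ i, (minimalPrimes (G i)).encard := by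
  classical
  refine le_antisymm ?_ (iSup_le fun i => ?_)
  · refine ENat.forall_natCast_le_iff_le.mp fun m hm => ?_
    obtain ⟨t, ht, htm⟩ := Set.exists_subset_encard_eq hm
    have htf : t.Finite := Set.finite_of_encard_eq_coe htm
    rw [← htm]
    have hsep : ∀ P ∈ t, ∀ Q ∈ t, P ≠ Q → ∃ i : ι, ∀ j, i ≤ j → P.comap (of∞ j) ≠ Q.comap (of∞ j) := by
      intro P _ Q _ hne
      obtain ⟨z, hz⟩ : ∃ z, ¬(z ∈ P ↔ z ∈ Q) := by
        by_contra! H; exact hne (Ideal.ext fun z => H z)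
      obtain ⟨i, y, rfl⟩ := Ring.DirectLimit.exists_of z
      exact ⟨i, fun j hij e => hz (by simpa [Ideal.mem_comap, Ring.DirectLimit.of_f] using Ideal.ext_iff.mp e (f i j hij y))⟩
    choose! stage hstage using hsep
    obtain ⟨i, hi⟩ := (htf.prod htf).toFinset.image (fun PQ => stage PQ.1 PQ.2) |>.exists_le
    refine le_trans ?_ (le_iSup _ i)
    refine Set.encard_le_encard_of_injOn (f := fun P => P.comap (of∞ i)) (fun P hP => comap_mem_minimalPrimes f hf (ht hP) i) ?_
    intro P hP Q hQ e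
    by_contra hne
    exact hstage P hP Q hQ hne i (hi _ (Finset.mem_image.mpr ⟨(P, Q), by simp [hP, hQ], rfl⟩)) e
  · have : ∀ p ∈ minimalPrimes (G i), ∃ P ∈ minimalPrimes R∞, P.comap (of∞ i) = p := by
      intro p hp
      have := hp.isPrime
      obtain ⟨Q, hQ, hQp⟩ := exists_prime_over f hf i p
      obtain ⟨P, hP, hPQ⟩ := Ideal.exists_minimalPrimes_le (I := ⊥) (J := Q) bot_le
      refine ⟨P, hP, le_antisymm ((Ideal.comap_mono hPQ).trans hQp.le) ?_⟩
      exact hp.2 ⟨(comap_mem_minimalPrimes f hf hP i).isPrime, bot_le⟩ ((Ideal.comap_mono hPQ).trans hQp.le)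
    choose! s hs hsp using this
    exact Set.encard_le_encard_of_injOn (f := s) hs fun p hp q hq e => by rw [← hsp p hp, ← hsp q hq, e]

end Groth.FlatMor2
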