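import Groth.Agent.FlatMor2.QuasiFiniteQuot
import Groth.Agent.FlatMor2.FibreDense
import Groth.Agent.FibreDim.DimensionFormula

/-!
# Closed fibre dimension and transcendence degree of essentially finite type local domains
-/

universe u v

open IsLocalRing Ideal

set_option linter.style.haveILetI false

namespace Groth.FlatMor2.TrdegFibre

/-- In a strict inclusion of primes the transcendence degree of the quotient drops. -/
theorem trdeg_quotient_add_one_le {k T : Type u} [Field k] [CommRing T] [Algebra k T]
    (P Q : Ideal T) [P.IsPrime] [Q.IsPrime] (hlt : P < Q) :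
    Algebra.trdeg k (T ⧸ Q) + 1 ≤ Algebra.trdeg k (T ⧸ P) := by
  let π : (T ⧸ P) →ₐ[k] T ⧸ Q :=
    ⟨Ideal.Quotient.factor hlt.le, fun c => rfl⟩
  haveI : Nontrivial (T ⧸ Q) := Ideal.Quotient.nontrivial_iff.2 (IsPrime.ne_top ‹_›)
  obtain ⟨ι, y, hy⟩ := exists_isTranscendenceBasis' k (T ⧸ Q)
  choose z hz using fun i => Ideal.Quotient.factor_surjective hlt.le (y i)
  have hπz : π ∘ z = y := funext hz
  obtain ⟨t, htQ, htP⟩ := SetLike.exists_of_lt hlt
  let x : T ⧸ P := Ideal.Quotient.mk P t
  have hx0 : x ≠ 0 := fun h => htP (Ideal.Quotient.eq_zero_iff_mem.1 h)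
  have hπx : π x = 0 := Ideal.Quotient.eq_zero_iff_mem.2 htQ
  have hz' : AlgebraicIndependent k z := AlgebraicIndependent.of_comp π (hπz ▸ hy.1)
  have htr : Transcendental (Algebra.adjoin k (Set.range z)) x := by
    intro halg
    obtain ⟨r, hr, hdvd⟩ := halg.exists_nonzero_dvd (mem_nonZeroDivisors_of_ne_zero hx0)
    refine hr (Subtype.ext ?_)
    obtain ⟨c, hc⟩ := hdvd
    have hπr : π r.1 = 0 := by
      change π (algebraMap (Algebra.adjoin k (Set.range z)) (T ⧸ P) r) = 0
      rw [hc, map_mul, hπx, zero_mul]
    obtain ⟨p, hp⟩ := (Algebra.adjoin_range_eq_range_aeval k z).le r.2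
    replace hp : MvPolynomial.aeval z p = r.1 := hp
    have h1 : MvPolynomial.aeval y p = 0 := by
      rw [← hπz, ← hπr, ← hp]
      exact (MvPolynomial.comp_aeval_apply _ π p).symm
    rw [hy.1.eq_zero_of_aeval_eq_zero p h1, map_zero] at hp
    exact hp.symm
  have hopt : AlgebraicIndependent k (fun o : Option ι => o.elim x z) :=
    (hz'.option_iff_transcendental x).2 htr
  have := hopt.cardinalMk_le_trdeg
  rwa [Cardinal.mk_option, hy.cardinalMk_eq_trdeg] at this

/-- Along a chain of primes the transcendence degree drops by the length. -/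
theorem trdeg_quotient_add_length_le {k T : Type u} [Field k] [CommRing T] [Algebra k T]
    (s : LTSeries (PrimeSpectrum T)) :
    Algebra.trdeg k (T ⧸ s.last.asIdeal) + (s.length : Cardinal.{u}) ≤
      Algebra.trdeg k (T ⧸ s.head.asIdeal) := by
  suffices h : ∀ i : Fin (s.length + 1), Algebra.trdeg k (T ⧸ (s i).asIdeal) + ((i : ℕ) : Cardinal.{u}) ≤
      Algebra.trdeg k (T ⧸ s.head.asIdeal) from h (Fin.last _)
  intro i
  induction i using Fin.induction with
  | zero => simp [RelSeries.head]; exact le_rfl
  | succ i ih =>
    rw [Fin.val_succ, Nat.cast_add, Nat.cast_one, add_comm ((i : ℕ) : Cardinal.{u}) 1, ← add_assoc]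
    exact (add_le_add (trdeg_quotient_add_one_le _ _ (s.step i)) le_rfl).trans ih

/-- For a flat algebra over a local ring the transcendence degree of a quotient of the closed fibre
is at most the transcendence degree of the algebra. -/
theorem trdeg_le_of_flat {A B T : Type u} [CommRing A] [IsLocalRing A] [CommRing B]
    [CommRing T] [IsDomain T] [Algebra A B] [Module.Flat A B] [Algebra A T]
    [Algebra (ResidueField A) T] [IsScalarTower A (ResidueField A) T]
    (π : B →ₐ[A] T) (hπ : Function.Surjective π) :
    Algebra.trdeg (ResidueField A) T ≤ Algebra.trdeg A B := by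
  obtain ⟨ι, y, hy⟩ := exists_isTranscendenceBasis' (ResidueField A) T
  choose z hz using fun i => hπ (y i)
  have hmon : LinearIndependent (ResidueField A)
      (fun d : ι →₀ ℕ => MvPolynomial.aeval y (MvPolynomial.monomial d (1 : ResidueField A))) :=
    ((MvPolynomial.basisMonomials ι (ResidueField A)).linearIndependent.map'
      (MvPolynomial.aeval y).toLinearMap (LinearMap.ker_eq_bot.2
        (algebraicIndependent_iff_injective_aeval.1 hy.1)))
  let v : (ι →₀ ℕ) → B := fun d => MvPolynomial.aeval z (MvPolynomial.monomial d (1 : A))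
  let L : TensorProduct A (ResidueField A) B →ₗ[ResidueField A] T :=
    TensorProduct.AlgebraTensorModule.lift
      ((LinearMap.ringLmapEquivSelf (ResidueField A) (ResidueField A) (B →ₗ[A] T)).symm π.toLinearMap)
  have hL : ∀ b, L (1 ⊗ₜ b) = π b := fun b => by simp [L]
  have hv : LinearIndependent (ResidueField A)
      (TensorProduct.mk A (ResidueField A) B 1 ∘ v) := by
    refine LinearIndependent.of_comp L ?_
    convert hmon using 1
    funext d
    simp only [Function.comp_apply, TensorProduct.mk_apply, hL, v, MvPolynomial.aeval_monomial,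
      map_one, one_mul, Finsupp.prod, map_prod, map_pow, hz]
  have hind := Module.IsLocalRing.linearIndependent_of_flat v hv
  have hz' : AlgebraicIndependent A z := by
    rw [algebraicIndependent_iff_injective_aeval]
    have h : (MvPolynomial.aeval z).toLinearMap = (MvPolynomial.basisMonomials ι A).constr A v :=
      (MvPolynomial.basisMonomials ι A).ext fun d => by
        rw [Module.Basis.constr_basis, MvPolynomial.coe_basisMonomials]
        rfl
    show Function.Injective (MvPolynomial.aeval z).toLinearMap
    rw [h]
    intro p q hpq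
    simp only [Module.Basis.constr_apply] at hpq
    exact (MvPolynomial.basisMonomials ι A).repr.injective (hind.finsuppLinearCombination_injective hpq)
  rw [← hy.cardinalMk_eq_trdeg]
  exact hz'.cardinalMk_le_trdeg

section Params

variable {A B : Type u} [CommRing A] [CommRing B] [IsLocalRing A] [IsLocalRing B] [Algebra A B]
  [IsLocalHom (algebraMap A B)] [Algebra.EssFiniteType A B] {ι : Type u} (x : ι → B)

/-- If `x` cuts out the closed point in the closed fibre and generates the residue field up to
algebraic extensions, then `B` is quasi-finite over `A[x]`. -/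
theorem quasiFinite_of_params
    (h1 : ∀ P : Ideal B, P.IsPrime → (maximalIdeal A).map (algebraMap A B) ≤ P →
      (∀ i, x i ∈ maximalIdeal B → x i ∈ P) → P = maximalIdeal B)
    (h2 : ∀ c : ResidueField B,
      IsAlgebraic (Algebra.adjoin (ResidueField A) (Set.range fun i => residue B (x i))) c) :
    letI := (MvPolynomial.aeval (R := A) x).toRingHom.toAlgebra
    Algebra.QuasiFinite (MvPolynomial ι A) B := by
  letI := (MvPolynomial.aeval (R := A) x).toRingHom.toAlgebra
  haveI : IsScalarTower A (MvPolynomial ι A) B :=
    IsScalarTower.of_algebraMap_eq fun a => ((MvPolynomial.aeval x).commutes a).symm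
  let p : Ideal (MvPolynomial ι A) := (maximalIdeal B).comap (algebraMap (MvPolynomial ι A) B)
  let R' := Localization.AtPrime p
  let φ : R' →+* B := IsLocalization.lift (M := p.primeCompl) (g := algebraMap (MvPolynomial ι A) B)
    fun c => not_not.1 c.2
  letI := φ.toAlgebra
  haveI : IsScalarTower (MvPolynomial ι A) R' B :=
    IsScalarTower.of_algebraMap_eq fun c => (IsLocalization.lift_eq _ c).symm
  haveI : IsScalarTower A R' B := IsScalarTower.of_algebraMap_eq fun a => by
    rw [IsScalarTower.algebraMap_apply A (MvPolynomial ι A) B,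
      IsScalarTower.algebraMap_apply A (MvPolynomial ι A) R', ← IsScalarTower.algebraMap_apply _ R' B]
  haveI : Algebra.EssFiniteType R' B := Algebra.EssFiniteType.of_comp A R' B
  haveI : IsLocalHom (algebraMap R' B) := by
    refine ⟨fun c hc => ?_⟩
    obtain ⟨r, s, rfl⟩ := IsLocalization.exists_mk'_eq p.primeCompl c
    have : r ∉ p := fun hr => by
      have h0 : algebraMap R' B (IsLocalization.mk' R' r s) * algebraMap (MvPolynomial ι A) B s =
          algebraMap (MvPolynomial ι A) B r := by
        rw [IsScalarTower.algebraMap_apply (MvPolynomial ι A) R' B, ← map_mul, IsLocalization.mk'_spec,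
          ← IsScalarTower.algebraMap_apply]
      exact (mem_maximalIdeal _).1 (show algebraMap _ B r ∈ maximalIdeal B from hr)
        (h0 ▸ hc.mul (not_not.1 s.2))
    exact (IsLocalization.AtPrime.isUnit_mk'_iff (S := R') p r s).2 this
  let θ := algebraMap (ResidueField R') (ResidueField B)
  have hθ : ∀ f : MvPolynomial ι A, θ (residue R' (algebraMap _ R' f)) =
      residue B (algebraMap _ B f) := fun f => by
    rw [IsScalarTower.algebraMap_apply (MvPolynomial ι A) R' B]
    rfl
  haveI : Algebra.IsAlgebraic (ResidueField R') (ResidueField B) := ⟨fun c => by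
    obtain ⟨P, hP0, hP⟩ := h2 c
    have hlift : P.map (algebraMap _ (ResidueField B)) ∈ Polynomial.lifts θ := by
      refine (Polynomial.lifts_iff_coeff_lifts _).2 fun n => ?_
      rw [Polynomial.coeff_map]
      suffices ∀ s ∈ Algebra.adjoin (ResidueField A) (Set.range fun i => residue B (x i)),
          s ∈ Set.range θ from this _ (P.coeff n).2
      intro s hs
      induction hs using Algebra.adjoin_induction with
      | mem s hs =>
        obtain ⟨i, rfl⟩ := hs
        exact ⟨residue R' (algebraMap _ R' (MvPolynomial.X i)), (hθ _).trans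
          (congrArg (residue B) (MvPolynomial.aeval_X x i))⟩
      | algebraMap a =>
        obtain ⟨a, rfl⟩ := residue_surjective a
        refine ⟨residue R' (algebraMap _ R' (MvPolynomial.C a)), (hθ _).trans ?_⟩
        exact congrArg (residue B) ((MvPolynomial.aeval x).commutes a)
      | add s t _ _ hs ht =>
        obtain ⟨a, rfl⟩ := hs; obtain ⟨b, rfl⟩ := ht; exact ⟨a + b, map_add _ _ _⟩
      | mul s t _ _ hs ht =>
        obtain ⟨a, rfl⟩ := hs; obtain ⟨b, rfl⟩ := ht; exact ⟨a * b, map_mul _ _ _⟩
    obtain ⟨Q, hQ⟩ := hlift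
    have hQ' : Q.map θ = P.map (algebraMap _ (ResidueField B)) := hQ
    refine ⟨Q, fun h0 => hP0 ?_, ?_⟩
    · rw [h0, Polynomial.map_zero, eq_comm] at hQ'
      exact (Polynomial.map_eq_zero_iff Subtype.val_injective).1 hQ'
    · rw [Polynomial.aeval_def, Polynomial.eval₂_eq_eval_map, hQ', ← Polynomial.eval₂_eq_eval_map]
      exact hP⟩
  haveI : Algebra.EssFiniteType R' (ResidueField B) :=
    inferInstanceAs (Algebra.EssFiniteType R' (B ⧸ maximalIdeal B))
  haveI : Algebra.EssFiniteType (ResidueField R') (ResidueField B) :=
    Algebra.EssFiniteType.of_comp R' (ResidueField R') (ResidueField B)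
  haveI : Module.Finite (ResidueField R') (ResidueField B) :=
    Algebra.finite_of_essFiniteType_of_isAlgebraic
  haveI : Algebra.QuasiFinite R' B := by
    refine Groth.FlatMor2.QuasiFiniteQuot.quasiFinite_of_isolated fun P hP hPm => ?_
    have hPp : P.comap (algebraMap (MvPolynomial ι A) B) = p := by
      rw [IsScalarTower.algebraMap_eq (MvPolynomial ι A) R' B, ← Ideal.comap_comap, hPm]
      exact IsLocalization.AtPrime.under_maximalIdeal R' p
    refine h1 P hP ?_ fun i hi => ?_
    · rw [Ideal.map_le_iff_le_comap]
      intro a ha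
      have : MvPolynomial.C a ∈ p := by
        show MvPolynomial.aeval x (MvPolynomial.C a) ∈ maximalIdeal B
        rw [MvPolynomial.aeval_C]
        rwa [← Ideal.mem_comap, maximalIdeal_comap]
      rw [← hPp] at this
      show algebraMap A B a ∈ P
      rw [← MvPolynomial.aeval_C x a]
      exact this
    · have : MvPolynomial.X i ∈ p := by
        show MvPolynomial.aeval x (MvPolynomial.X i) ∈ maximalIdeal B
        rwa [MvPolynomial.aeval_X]
      rw [← hPp] at this
      have h3 : MvPolynomial.aeval x (MvPolynomial.X i) ∈ P := this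
      rwa [MvPolynomial.aeval_X] at h3
  exact Algebra.QuasiFinite.trans (MvPolynomial ι A) R' B

omit [IsLocalRing A] [IsLocalRing B] [IsLocalHom (algebraMap A B)] [Algebra.EssFiniteType A B] in
theorem isAlgebraic_adjoin_of_quasiFinite [IsDomain B]
    (h : letI := (MvPolynomial.aeval (R := A) x).toRingHom.toAlgebra
      Algebra.QuasiFinite (MvPolynomial ι A) B) :
    Algebra.IsAlgebraic (Algebra.adjoin A (Set.range x)) B := by
  letI := (MvPolynomial.aeval (R := A) x).toRingHom.toAlgebra
  haveI := h
  let S := Algebra.adjoin A (Set.range x)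
  let f : MvPolynomial ι A →+* S := (MvPolynomial.aeval x).toRingHom.codRestrict S fun p => by
    show MvPolynomial.aeval x p ∈ S
    rw [show S = _ from Algebra.adjoin_range_eq_range_aeval A x]
    exact ⟨p, rfl⟩
  letI := f.toAlgebra
  haveI : IsScalarTower (MvPolynomial ι A) S B := IsScalarTower.of_algebraMap_eq fun p => rfl
  haveI : Algebra.QuasiFinite S B := Algebra.QuasiFinite.of_restrictScalars (MvPolynomial ι A) S B
  let L := FractionRing B
  let K := FractionRing S
  haveI : FaithfulSMul S L := (faithfulSMul_iff_algebraMap_injective _ _).2 <| by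
    rw [IsScalarTower.algebraMap_eq S B L]
    exact (IsFractionRing.injective B L).comp Subtype.val_injective
  letI : Algebra K L := FractionRing.liftAlgebra S L
  haveI : Algebra.QuasiFinite S L := Algebra.QuasiFinite.trans S B L
  haveI : Algebra.QuasiFinite K L := Algebra.QuasiFinite.of_restrictScalars S K L
  haveI : Module.Finite K L := Module.Finite.of_quasiFinite
  haveI : Algebra.IsAlgebraic K L := Algebra.IsAlgebraic.of_finite K L
  have hSL : Algebra.IsAlgebraic S L :=
    (IsFractionRing.comap_isAlgebraic_iff (A := S) (K := K) (C := L)).2 ‹_›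
  exact ⟨fun b => (isAlgebraic_algHom_iff (IsScalarTower.toAlgHom S B L)
    (IsFractionRing.injective B L)).1 (hSL.isAlgebraic _)⟩

end Params

end Groth.FlatMor2.TrdegFibre
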