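import Groth.Agent.FlatMor2.QuasiFiniteQuot
import Groth.Agent.PropsBasic2.Reduced
import Mathlib.AlgebraicGeometry.Fiber
import Mathlib.AlgebraicGeometry.Morphisms.QuasiFinite
import Mathlib.AlgebraicGeometry.Noetherian

/-!
# Closed subschemes quasi-finite at a point closed in its fibre
-/

universe u

open CategoryTheory CategoryTheory.Limits AlgebraicGeometry TopologicalSpace IsLocalRing

set_option linter.style.haveILetI false

namespace Groth.FlatMor2.QuasiFinitePoint

/-- The residue field of a point closed in its fibre is finite over that of its image. -/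
theorem finite_residueFieldMap {X S : Scheme.{u}} (f : X ⟶ S) [LocallyOfFiniteType f] (x : X)
    (hcl : IsClosed (Subtype.val ⁻¹' {x} : Set ↑(f ⁻¹' {f x}))) : (f.residueFieldMap x).hom.Finite := by
  let l : Spec (X.residueField x) ⟶ f.fiber (f x) :=
    pullback.lift (X.fromSpecResidueField x) (Spec.map (f.residueFieldMap x))
      (Scheme.Hom.SpecMap_residueFieldMap_fromSpecResidueField f x).symm
  haveI : IsPreimmersion (l ≫ f.fiberι (f x)) := by
    rw [show l ≫ f.fiberι (f x) = X.fromSpecResidueField x from pullback.lift_fst _ _ _]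
    infer_instance
  haveI : IsPreimmersion l := IsPreimmersion.of_comp l (f.fiberι (f x))
  haveI : IsClosedImmersion l := by
    refine .of_isPreimmersion l ?_
    have h : Set.range l = f.fiberHomeo (f x) ⁻¹' (Subtype.val ⁻¹' {x}) := by
      ext p
      simp only [Set.mem_preimage, Set.mem_singleton_iff, Scheme.Hom.fiberHomeo_apply]
      constructor
      · rintro ⟨q, rfl⟩
        rw [← Scheme.Hom.comp_apply, show l ≫ f.fiberι (f x) = X.fromSpecResidueField x from pullback.lift_fst _ _ _]
        exact Scheme.fromSpecResidueField_apply x q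
      · intro hp
        refine ⟨closedPoint (X.residueField x), (f.fiberι (f x)).isEmbedding.injective ?_⟩
        rw [hp, ← Scheme.Hom.comp_apply,
          show l ≫ f.fiberι (f x) = X.fromSpecResidueField x from pullback.lift_fst _ _ _]
        exact Scheme.fromSpecResidueField_apply x _
    rw [h]
    exact hcl.preimage (f.fiberHomeo (f x)).continuous
  haveI : LocallyOfFiniteType (f.fiberToSpecResidueField (f x)) :=
    MorphismProperty.pullback_snd _ _ inferInstance
  have hl : LocallyOfFiniteType (Spec.map (f.residueFieldMap x)) := by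
    rw [show Spec.map (f.residueFieldMap x) = l ≫ f.fiberToSpecResidueField (f x) from
      (pullback.lift_snd _ _ _).symm]
    infer_instance
  rw [HasRingHomProperty.Spec_iff (P := @LocallyOfFiniteType)] at hl
  algebraize [(f.residueFieldMap x).hom]
  exact finite_of_finite_type_of_isJacobsonRing _ _

/-- A closed point without proper generalisation is open. -/
theorem isOpen_singleton {F : Scheme.{u}} [IsLocallyNoetherian F] (p : F)
    (hcl : IsClosed ({p} : Set F)) (hgen : ∀ q, q ⤳ p → q = p) : IsOpen ({p} : Set F) := by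
  obtain ⟨_, ⟨U, hU, rfl⟩, hpU, -⟩ := F.isBasis_affineOpens.exists_subset_of_mem_open (Set.mem_univ p) isOpen_univ
  haveI : IsNoetherianRing Γ(F, U) := IsLocallyNoetherian.component_noetherian ⟨U, hU⟩
  haveI : NoetherianSpace (U : Set F) := noetherianSpace_of_isAffineOpen U hU
  haveI : QuasiSober (U : Set F) := U.2.isOpenEmbedding_subtypeVal.quasiSober
  let p' : (U : Set F) := ⟨p, hpU⟩
  have hcl' : IsClosed ({p'} : Set (U : Set F)) := by
    have h : ({p'} : Set (U : Set F)) = Subtype.val ⁻¹' {p} :=
      Set.ext fun q => ⟨fun h => congrArg Subtype.val h, fun h => Subtype.ext h⟩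
    rw [h]
    exact hcl.preimage continuous_subtype_val
  have hopen : IsOpen ({p'} : Set (U : Set F)) := by
    have hfin : {C ∈ irreducibleComponents (U : Set F) | p' ∉ C}.Finite :=
      NoetherianSpace.finite_irreducibleComponents.subset fun C h => h.1
    have h : ({p'} : Set (U : Set F)) = (⋃ C ∈ {C ∈ irreducibleComponents (U : Set F) | p' ∉ C}, C)ᶜ := by
      ext q
      simp only [Set.mem_singleton_iff, Set.mem_compl_iff, Set.mem_iUnion, exists_prop, not_exists, not_and]
      constructor
      · rintro rfl C hC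
        exact hC.2
      · intro hq
        let C := irreducibleComponent q
        have hC : C ∈ irreducibleComponents (U : Set F) := irreducibleComponent_mem_irreducibleComponents q
        have hpC : p' ∈ C := by_contra fun hn => hq C ⟨hC, hn⟩ mem_irreducibleComponent
        obtain ⟨η, hη⟩ := QuasiSober.sober isIrreducible_irreducibleComponent isClosed_irreducibleComponent (S := C)
        have hηp : (η : F) = p := hgen _ ((hη.specializes hpC).map continuous_subtype_val)
        have hqη : η ⤳ q := hη.specializes mem_irreducibleComponent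
        have hηp' : η = p' := Subtype.ext hηp
        exact Set.mem_singleton_iff.1 ((hηp' ▸ hqη).mem_closed hcl' rfl)
    rw [h]
    exact (hfin.isClosed_biUnion fun C hC => isClosed_of_mem_irreducibleComponents C hC.1).isOpen_compl
  have := U.2.isOpenEmbedding_subtypeVal.isOpenMap _ hopen
  simpa [p'] using this

/-- Milestone form. -/
theorem exists_closed_subscheme {X S : Scheme.{u}} (f : X ⟶ S) [LocallyOfFiniteType f]
    [IsLocallyNoetherian S] (x : X) (hcl : IsClosed (Subtype.val ⁻¹' {x} : Set ↑(f ⁻¹' {f x})))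
    (U : X.Opens) (hx' : ∃ x' : X, x' ∈ U ∧ x' ⤳ x ∧ f x' ≠ f x) :
    ∃ (I : X.IdealSheafData) (z₀ x₀ : ↑I.subscheme), I.subschemeι x₀ = x ∧ (I.subschemeι ≫ f).QuasiFiniteAt x₀ ∧
      I.subschemeι z₀ ∈ U ∧ I.subschemeι z₀ ⤳ x ∧ f (I.subschemeι z₀) ≠ f x := by
  let A := S.presheaf.stalk (f x)
  let B := X.presheaf.stalk x
  letI : Algebra A B := (f.stalkMap x).hom.toAlgebra
  haveI : Algebra.EssFiniteType A B := LocallyOfFiniteType.stalkMap f x
  haveI : IsLocalHom (algebraMap A B) := inferInstanceAs (IsLocalHom (f.stalkMap x).hom)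
  haveI : Module.Finite (ResidueField A) (ResidueField B) := by
    rw [← RingHom.finite_algebraMap]
    have h := finite_residueFieldMap f x hcl
    have e : (f.residueFieldMap x).hom =
        (algebraMap (ResidueField A) (ResidueField B) : S.residueField (f x) →+* X.residueField x) := by
      refine RingHom.ext fun a => ?_
      obtain ⟨a, rfl⟩ := residue_surjective (R := A) a
      rfl
    rw [e] at h
    exact h
  let j : PrimeSpectrum B → X := fun q => X.fromSpecStalk x q
  have hj : ∀ q, f (j q) = S.fromSpecStalk (f x) (PrimeSpectrum.comap (algebraMap A B) q) := fun q => by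
    change (X.fromSpecStalk x ≫ f) q = _
    rw [← Scheme.SpecMap_stalkMap_fromSpecStalk]
    rfl
  have hclosedA : S.fromSpecStalk (f x) (closedPoint A) = f x := Scheme.fromSpecStalk_closedPoint
  have hkey : ∀ q : PrimeSpectrum B, f (j q) = f x ↔ q.asIdeal.comap (algebraMap A B) = maximalIdeal A := by
    intro q
    rw [hj]
    constructor
    · intro h
      exact congrArg PrimeSpectrum.asIdeal
        ((S.fromSpecStalk (f x)).isEmbedding.injective (h.trans hclosedA.symm))
    · intro h
      exact (congrArg (S.fromSpecStalk (f x)) (PrimeSpectrum.ext h)).trans hclosedA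
  have hrange : ∀ y : X, y ⤳ x → ∃ q, j q = y := fun y hy => by
    have h : y ∈ Set.range (X.fromSpecStalk x) := Scheme.range_fromSpecStalk.ge hy
    exact h
  have hspec : ∀ q, j q ⤳ x := fun q => Scheme.range_fromSpecStalk.le ⟨q, rfl⟩
  obtain ⟨x', hxU, hxx, hxne⟩ := hx'
  obtain ⟨q', rfl⟩ := hrange x' hxx
  obtain ⟨q, hqU, hqA, hqf⟩ := Groth.FlatMor2.QuasiFiniteQuot.exists_prime (A := A) (B := B)
    (j ⁻¹' U) (U.2.preimage (X.fromSpecStalk x).continuous) ⟨q', hxU, fun h => hxne ((hkey q').2 h)⟩
  let Z : Closeds X := ⟨closure {j q}, isClosed_closure⟩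
  let I := Scheme.IdealSheafData.vanishingIdeal Z
  have hZ : Set.range I.subschemeι = closure {j q} :=
    Groth.PropsBasic2.range_vanishingIdeal_subschemeι Z
  obtain ⟨z₀, hz₀⟩ := hZ.ge (subset_closure rfl : j q ∈ closure {j q})
  obtain ⟨x₀, hx₀⟩ := hZ.ge ((hspec q).mem_closure)
  refine ⟨I, z₀, x₀, hx₀, ?_, hz₀ ▸ hqU, hz₀ ▸ hspec q, by rw [hz₀]; exact fun h => hqA ((hkey q).1 h)⟩
  rw [Scheme.Hom.quasiFiniteAt_iff_isOpen_singleton_asFiber]
  let g := I.subschemeι ≫ f
  haveI : LocallyOfFiniteType g := inferInstanceAs (LocallyOfFiniteType (I.subschemeι ≫ f))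
  haveI : LocallyOfFiniteType (g.fiberToSpecResidueField (g x₀)) :=
    MorphismProperty.pullback_snd _ _ inferInstance
  haveI : IsLocallyNoetherian (g.fiber (g x₀)) :=
    LocallyOfFiniteType.isLocallyNoetherian (g.fiberToSpecResidueField (g x₀))
  have hgx : g x₀ = f x := by rw [Scheme.Hom.comp_apply, hx₀]
  have hι : ∀ p : g.fiber (g x₀), f (I.subschemeι (g.fiberι (g x₀) p)) = f x := fun p => by
    have h : g.fiberι (g x₀) p ∈ g ⁻¹' {g x₀} := (g.range_fiberι (g x₀)).le ⟨p, rfl⟩
    exact (Scheme.Hom.comp_apply I.subschemeι f _).symm.trans ((Set.mem_singleton_iff.1 h).trans hgx)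
  have hp₀ : g.fiberι (g x₀) (g.asFiber x₀) = x₀ := Scheme.Hom.fiberι_asFiber g x₀
  have hinj : Function.Injective fun p => I.subschemeι (g.fiberι (g x₀) p) :=
    I.subschemeι.isEmbedding.injective.comp (g.fiberι (g x₀)).isEmbedding.injective
  have hcont : Continuous fun p => I.subschemeι (g.fiberι (g x₀) p) :=
    I.subschemeι.continuous.comp (g.fiberι (g x₀)).continuous
  refine isOpen_singleton _ ?_ ?_
  · obtain ⟨T, hT, hTeq⟩ := isClosed_induced_iff.1 hcl
    convert hT.preimage hcont using 1
    ext p
    have h : (⟨_, hι p⟩ : ↑(f ⁻¹' {f x})).1 ∈ T ↔ _ := Set.ext_iff.1 hTeq ⟨_, hι p⟩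
    rw [Set.mem_singleton_iff, Set.mem_preimage, h]
    constructor
    · rintro rfl
      change I.subschemeι _ = x
      rw [hp₀, hx₀]
    · intro hp
      exact hinj (hp.trans ((congrArg I.subschemeι hp₀).trans hx₀).symm)
  · intro p hp
    have hpx : I.subschemeι (g.fiberι (g x₀) p) ⤳ x := by
      have h := hp.map hcont
      rwa [hp₀, hx₀] at h
    obtain ⟨P, hP⟩ := hrange _ hpx
    have hqP : q.asIdeal ≤ P.asIdeal := by
      have h : j q ⤳ j P := by
        rw [hP, specializes_iff_mem_closure]
        exact hZ.le ⟨_, rfl⟩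
      exact (PrimeSpectrum.le_iff_specializes q P).2
        ((X.fromSpecStalk x).isEmbedding.isInducing.specializes_iff.1 h)
    have hPA : P.asIdeal.comap (algebraMap A B) = maximalIdeal A := (hkey P).1 (hP ▸ hι p)
    let φ := Ideal.Quotient.mk q.asIdeal
    have hq_le : q.asIdeal ≤ maximalIdeal B := le_maximalIdeal q.2.ne_top
    have hker : RingHom.ker φ ≤ P.asIdeal := by rwa [Ideal.mk_ker]
    haveI hP' : (P.asIdeal.map φ).IsPrime :=
      Ideal.map_isPrime_of_surjective Ideal.Quotient.mk_surjective hker
    haveI hm' : ((maximalIdeal B).map φ).IsPrime :=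
      Ideal.map_isPrime_of_surjective Ideal.Quotient.mk_surjective (by rwa [Ideal.mk_ker])
    have hPc : (P.asIdeal.map φ).comap φ = P.asIdeal := by
      rw [Ideal.comap_map_of_surjective φ Ideal.Quotient.mk_surjective, ← RingHom.ker_eq_comap_bot, sup_eq_left]
      exact hker
    have hmc : ((maximalIdeal B).map φ).comap φ = maximalIdeal B := by
      rw [Ideal.comap_map_of_surjective φ Ideal.Quotient.mk_surjective, ← RingHom.ker_eq_comap_bot, sup_eq_left,
        Ideal.mk_ker]
      exact hq_le
    have heq : P.asIdeal.map φ = (maximalIdeal B).map φ :=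
      Algebra.QuasiFinite.eq_of_le_of_under_eq (R := A) _ _ (Ideal.map_mono (le_maximalIdeal P.2.ne_top)) (by
        simp only [Ideal.under, IsScalarTower.algebraMap_eq A B (B ⧸ q.asIdeal), ← Ideal.comap_comap]
        change (Ideal.comap φ _).comap (algebraMap A B) = (Ideal.comap φ _).comap (algebraMap A B)
        rw [hPc, hmc, hPA, maximalIdeal_comap])
    have hPm : P.asIdeal = maximalIdeal B := by rw [← hPc, heq, hmc]
    have hjP : j P = x :=
      (congrArg (X.fromSpecStalk x) (PrimeSpectrum.ext hPm : P = closedPoint B)).trans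
        Scheme.fromSpecStalk_closedPoint
    exact hinj ((hP.symm.trans hjP).trans ((congrArg I.subschemeι hp₀).trans hx₀).symm)

end Groth.FlatMor2.QuasiFinitePoint
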