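import Groth.Agent.Calg2.GDomain
import Mathlib.RingTheory.ZariskisMainTheorem
import Mathlib.RingTheory.EssentialFiniteness
import Mathlib.RingTheory.Spectrum.Prime.Jacobson

/-!
# Quasi-finite quotients of local rings essentially of finite type
-/

universe u

open scoped TensorProduct
open IsLocalRing

set_option linter.style.haveILetI false

namespace Groth.FlatMor2.QuasiFiniteQuot

/-- A local algebra, essentially of finite type, whose closed fibre is a point with finite residue field,
is quasi-finite. -/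
theorem quasiFinite_of_isolated {A D : Type u} [CommRing A] [CommRing D] [IsLocalRing A] [IsLocalRing D]
    [Algebra A D] [IsLocalHom (algebraMap A D)] [Algebra.EssFiniteType A D]
    [Module.Finite (ResidueField A) (ResidueField D)]
    (h : ∀ P : Ideal D, P.IsPrime → P.comap (algebraMap A D) = maximalIdeal A → P = maximalIdeal D) :
    Algebra.QuasiFinite A D := by
  let C := Algebra.EssFiniteType.subalgebra A D
  let M := Algebra.EssFiniteType.submonoid A D
  let m : Ideal C := (maximalIdeal D).comap (algebraMap C D)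
  have hM : M = m.primeCompl := by
    ext c
    change IsUnit (algebraMap C D c) ↔ algebraMap C D c ∉ maximalIdeal D
    simp
  haveI : IsLocalization.AtPrime D m := by
    have : IsLocalization M D := inferInstance
    rwa [hM] at this
  have hunder : m.comap (algebraMap A C) = maximalIdeal A := by
    rw [Ideal.comap_comap, ← IsScalarTower.algebraMap_eq, maximalIdeal_comap]
  have hmax : m.IsMaximal := by
    let p := maximalIdeal A
    haveI : m.LiesOver p := ⟨hunder.symm⟩
    let g : (C ⧸ m) →+* ResidueField D :=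
      Ideal.Quotient.lift m ((residue D).comp (algebraMap C D)) fun x hx =>
        (residue_eq_zero_iff _).2 hx
    have hg : Function.Injective g := by
      refine RingHom.lift_injective_of_ker_le_ideal _ _ ?_
      intro x hx
      exact (residue_eq_zero_iff _).1 hx
    have hint : ((algebraMap (A ⧸ p) (C ⧸ m))).IsIntegral := by
      intro x
      have h1 : IsIntegral (ResidueField A) (g x) := Algebra.IsIntegral.isIntegral _
      obtain ⟨P, hP, hx⟩ := h1
      refine ⟨P, hP, hg ?_⟩
      rw [Polynomial.hom_eval₂, map_zero]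
      refine Eq.trans ?_ hx
      refine congrArg (fun φ => Polynomial.eval₂ φ (g x) P) ?_
      refine Ideal.Quotient.ringHom_ext (RingHom.ext fun a => ?_)
      rfl
    haveI : Algebra.IsIntegral (A ⧸ p) (C ⧸ m) := ⟨hint⟩
    refine Ideal.Quotient.maximal_of_isField _ ?_
    exact isField_of_isIntegral_of_isField' (R := A ⧸ p)
      ((Ideal.Quotient.maximal_ideal_iff_isField_quotient p).1 inferInstance)
  have hqf : Algebra.QuasiFiniteAt A m := by
    haveI : m.IsPrime := hmax.isPrime
    let x : PrimeSpectrum C := ⟨m, inferInstance⟩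
    refine Algebra.QuasiFiniteAt.of_isOpen_singleton_fiber x ?_
    let T := PrimeSpectrum.comap (algebraMap A C) ⁻¹' {PrimeSpectrum.comap (algebraMap A C) x}
    let e := PrimeSpectrum.preimageHomeomorphFiber A C (PrimeSpectrum.comap (algebraMap A C) x)
    rw [← e.isOpen_image, Set.image_singleton]
    haveI : IsNoetherianRing ((PrimeSpectrum.comap (algebraMap A C) x).asIdeal.Fiber C) :=
      Algebra.FiniteType.isNoetherianRing (PrimeSpectrum.comap (algebraMap A C) x).asIdeal.ResidueField _
    haveI : IsJacobsonRing ((PrimeSpectrum.comap (algebraMap A C) x).asIdeal.Fiber C) :=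
      isJacobsonRing_of_finiteType (A := (PrimeSpectrum.comap (algebraMap A C) x).asIdeal.ResidueField)
    refine ((PrimeSpectrum.isOpen_singleton_tfae_of_isNoetherian_of_isJacobsonRing _).out 0 2 rfl rfl).2
      ⟨?_, ?_⟩
    · rw [← Set.image_singleton, e.isClosed_image]
      have : IsClosed ({x} : Set (PrimeSpectrum C)) :=
        (PrimeSpectrum.isClosed_singleton_iff_isMaximal x).2 hmax
      convert this.preimage continuous_subtype_val
      ext y
      exact ⟨fun hy => congrArg Subtype.val hy, fun hy => Subtype.ext hy⟩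
    · intro y z hyz hy
      obtain rfl : y = e ⟨x, rfl⟩ := hy
      obtain ⟨z', rfl⟩ := e.surjective z
      refine congrArg e (Subtype.ext ?_)
      have hspec : z' ⤳ ⟨x, rfl⟩ := e.isInducing.specializes_iff.1 hyz
      have hle : z'.1.asIdeal ≤ m :=
        (PrimeSpectrum.le_iff_specializes z'.1 x).2 ((subtype_specializes_iff _ _).1 hspec)
      have hz : z'.1.asIdeal.comap (algebraMap A C) = maximalIdeal A :=
        (congrArg PrimeSpectrum.asIdeal z'.2).trans hunder
      have hdisj : Disjoint (m.primeCompl : Set C) z'.1.asIdeal :=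
        Set.disjoint_left.2 fun c hc hc' => hc (hle hc')
      let P := z'.1.asIdeal.map (algebraMap C D)
      have hP : P.IsPrime := IsLocalization.isPrime_of_isPrime_disjoint m.primeCompl D _ z'.1.2 hdisj
      have hPc : P.comap (algebraMap C D) = z'.1.asIdeal :=
        IsLocalization.under_map_of_isPrime_disjoint m.primeCompl D z'.1.2 hdisj
      have hPm : P = maximalIdeal D := h P hP (by
        rw [IsScalarTower.algebraMap_eq A C D, ← Ideal.comap_comap, hPc, hz])
      refine PrimeSpectrum.ext ?_
      rw [← hPc, hPm]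
  haveI : m.IsPrime := hmax.isPrime
  exact (Algebra.QuasiFinite.iff_of_algEquiv
    ((IsLocalization.algEquiv m.primeCompl (Localization.AtPrime m) D).restrictScalars A)).1 hqf

/-- Existence of a prime with quasi-finite quotient. -/
theorem exists_prime {A B : Type u} [CommRing A] [CommRing B] [IsLocalRing A] [IsLocalRing B]
    [IsNoetherianRing A] [Algebra A B] [IsLocalHom (algebraMap A B)] [Algebra.EssFiniteType A B]
    [Module.Finite (ResidueField A) (ResidueField B)]
    (V : Set (PrimeSpectrum B)) (hV : IsOpen V)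
    (hne : ∃ q ∈ V, q.asIdeal.comap (algebraMap A B) ≠ maximalIdeal A) :
    ∃ q ∈ V, q.asIdeal.comap (algebraMap A B) ≠ maximalIdeal A ∧ Algebra.QuasiFinite A (B ⧸ q.asIdeal) := by
  haveI : IsNoetherianRing B := Algebra.EssFiniteType.isNoetherianRing A B
  let S : Set (Ideal B) :=
    PrimeSpectrum.asIdeal '' {q | q ∈ V ∧ q.asIdeal.comap (algebraMap A B) ≠ maximalIdeal A}
  obtain ⟨I, ⟨q, ⟨hqV, hqA⟩, rfl⟩, hmax⟩ := set_has_maximal_iff_noetherian.2 ‹_› S
    (let ⟨q, h1, h2⟩ := hne; ⟨_, q, ⟨h1, h2⟩, rfl⟩)
  refine ⟨q, hqV, hqA, ?_⟩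
  obtain ⟨_, ⟨f, rfl⟩, hqf, hfV⟩ :=
    PrimeSpectrum.isTopologicalBasis_basic_opens.exists_subset_of_mem_open hqV hV
  obtain ⟨a, haA, haq⟩ : ∃ a ∈ maximalIdeal A, algebraMap A B a ∉ q.asIdeal := by
    by_contra hcon
    exact hqA (((maximalIdeal.isMaximal A).eq_of_le (q.2.comap _).ne_top
      fun a ha => by_contra fun hn => hcon ⟨a, ha, hn⟩).symm)
  let φ := Ideal.Quotient.mk q.asIdeal
  have hall : ∀ Q : Ideal (B ⧸ q.asIdeal), Q.IsPrime → Q ≠ ⊥ → φ (f * algebraMap A B a) ∈ Q := by
    intro Q hQ hne'
    by_contra hf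
    let P : PrimeSpectrum B := ⟨Q.comap φ, hQ.comap _⟩
    have hle : q.asIdeal ≤ P.asIdeal := fun x hx => by
      change φ x ∈ Q
      rw [Ideal.Quotient.eq_zero_iff_mem.2 hx]
      exact Q.zero_mem
    have hPf : f * algebraMap A B a ∉ P.asIdeal := hf
    have hPA : P.asIdeal.comap (algebraMap A B) ≠ maximalIdeal A := fun heq =>
      hPf (Ideal.mul_mem_left _ f (show a ∈ P.asIdeal.comap (algebraMap A B) from heq ▸ haA))
    have hP : P.asIdeal ∈ S :=
      ⟨P, ⟨hfV fun hf' => hPf (Ideal.mul_mem_right _ _ hf'), hPA⟩, rfl⟩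
    have heq : P.asIdeal = q.asIdeal := (eq_of_le_of_not_lt hle (hmax _ hP)).symm
    apply hne'
    rw [← Ideal.map_comap_of_surjective φ Ideal.Quotient.mk_surjective Q]
    exact (congrArg (Ideal.map φ) heq).trans (Ideal.map_quotient_self _)
  have hf0 : φ (f * algebraMap A B a) ≠ 0 := fun h0 =>
    (q.2.mem_or_mem (Ideal.Quotient.eq_zero_iff_mem.1 h0)).elim hqf haq
  haveI : Finite (PrimeSpectrum (B ⧸ q.asIdeal)) :=
    Groth.Calg2.GDomain.finite_of_forall_mem _ _ hf0 hall
  haveI : Ring.KrullDimLE 1 (B ⧸ q.asIdeal) := Groth.Calg2.GDomain.krullDimLE_one_of_finite _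
  haveI : Nontrivial (B ⧸ q.asIdeal) := Ideal.Quotient.nontrivial_iff.2 q.2.ne_top
  haveI : IsLocalRing (B ⧸ q.asIdeal) := IsLocalRing.of_surjective' φ Ideal.Quotient.mk_surjective
  haveI : IsLocalHom φ := IsLocalHom.of_surjective φ Ideal.Quotient.mk_surjective
  haveI : IsLocalHom (algebraMap A (B ⧸ q.asIdeal)) := by
    rw [IsScalarTower.algebraMap_eq A B (B ⧸ q.asIdeal)]
    exact RingHom.isLocalHom_comp φ (algebraMap A B)
  haveI : Module.Finite (ResidueField A) (ResidueField (B ⧸ q.asIdeal)) := by
    let ψ : ResidueField B →ₗ[ResidueField A] ResidueField (B ⧸ q.asIdeal) :=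
      { toFun := ResidueField.map φ
        map_add' := map_add _
        map_smul' := fun c x => by
          obtain ⟨c, rfl⟩ := residue_surjective c
          rw [Algebra.smul_def, map_mul, RingHom.id_apply, Algebra.smul_def]
          congr 1 }
    refine Module.Finite.of_surjective ψ fun x => ?_
    obtain ⟨x, rfl⟩ := residue_surjective x
    obtain ⟨b, rfl⟩ := Ideal.Quotient.mk_surjective x
    exact ⟨residue B b, rfl⟩
  refine quasiFinite_of_isolated fun P hP hPA => ?_
  have hPbot : P ≠ ⊥ := fun h0 => haq (by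
    have ha : a ∈ P.comap (algebraMap A (B ⧸ q.asIdeal)) := hPA ▸ haA
    rw [h0, Ideal.mem_comap, Ideal.mem_bot, IsScalarTower.algebraMap_apply A B (B ⧸ q.asIdeal)] at ha
    exact Ideal.Quotient.eq_zero_iff_mem.1 ha)
  haveI : IsDomain (B ⧸ q.asIdeal) := (Ideal.Quotient.isDomain_iff_prime _).2 q.2
  exact IsLocalRing.eq_maximalIdeal (Ring.krullDimLE_one_iff_of_noZeroDivisors.mp ‹_› P hPbot hP)

end Groth.FlatMor2.QuasiFiniteQuot
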