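import Groth.Agent.FibreDim.LowerSemicont
import Groth.Agent.FibreDim.DimensionFormula

/-!
# Transcendence degrees of residue fields through local rings
-/

universe u

open CategoryTheory CategoryTheory.Limits AlgebraicGeometry TopologicalSpace Topology

set_option linter.style.haveILetI false

namespace Groth.FlatMor2.StalkTrdeg

variable {T : Scheme.{u}}

theorem specializes_fromSpecStalk (t : T) (P : PrimeSpectrum (T.presheaf.stalk t)) :
    (T.fromSpecStalk t).base P ⤳ t :=
  (Scheme.range_fromSpecStalk (x := t)).le ⟨P, rfl⟩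

/-- The map from a local ring to the residue field of a generization. -/
noncomputable def toResidue {t t' : T} (h : t' ⤳ t) : T.presheaf.stalk t →+* T.residueField t' :=
  (T.presheaf.stalkSpecializes h ≫ T.residue t').hom

theorem ker_toResidue {t t' : T} (h : t' ⤳ t) (P : PrimeSpectrum (T.presheaf.stalk t))
    (hP : (T.fromSpecStalk t).base P = t') : RingHom.ker (toResidue h) = P.asIdeal := by
  have h1 : (Spec.map (T.presheaf.stalkSpecializes h ≫ T.residue t') ≫ T.fromSpecStalk t).base
      (IsLocalRing.closedPoint (T.residueField t')) = t' := by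
    rw [Spec.map_comp, Category.assoc, Scheme.SpecMap_stalkSpecializes_fromSpecStalk]
    exact Scheme.fromSpecResidueField_apply _ _
  rw [Scheme.Hom.comp_apply] at h1
  have h2 := congrArg PrimeSpectrum.asIdeal ((T.fromSpecStalk t).isEmbedding.injective (h1.trans hP.symm))
  refine Eq.trans ?_ h2
  show _ = Ideal.comap _ (IsLocalRing.maximalIdeal (T.residueField t'))
  rw [IsLocalRing.maximalIdeal_eq_bot, ← RingHom.ker_eq_comap_bot]
  rfl

theorem exists_toResidue_eq_div {t t' : T} (h : t' ⤳ t) (w : T.residueField t') :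
    ∃ a b : T.presheaf.stalk t, toResidue h b ≠ 0 ∧ w = toResidue h a / toResidue h b := by
  obtain ⟨V, hV, hsV, -⟩ := exists_isAffineOpen_mem_and_subset (U := ⊤) (Set.mem_univ t)
  have ht'V : t' ∈ V := h.mem_open V.isOpen hsV
  obtain ⟨a, b, hb, rfl⟩ := Groth.Variety2.Dim.exists_evaluation_eq_div hV ht'V w
  have hev : ∀ c, toResidue h (T.presheaf.germ V t hsV c) = T.evaluation V t' ht'V c := fun c => by
    simp only [toResidue, CommRingCat.hom_comp, RingHom.comp_apply]
    rw [TopCat.Presheaf.germ_stalkSpecializes_apply]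
    rfl
  exact ⟨T.presheaf.germ V t hsV a, T.presheaf.germ V t hsV b, by rwa [hev], by rw [hev a, hev b]⟩

variable {X S : Scheme.{u}} (f : X ⟶ S)

theorem toResidue_comp {x x' : X} (h : x' ⤳ x) (a : S.presheaf.stalk (f.base x)) :
    (f.residueFieldMap x').hom (toResidue (h.map f.continuous) a) = toResidue h ((f.stalkMap x).hom a) := by
  have hcomm : (S.presheaf.stalkSpecializes (h.map f.continuous) ≫ S.residue (f.base x')) ≫ f.residueFieldMap x' =
      f.stalkMap x ≫ (X.presheaf.stalkSpecializes h ≫ X.residue x') := by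
    simp only [Category.assoc]
    rw [Scheme.residue_residueFieldMap, ← Scheme.Hom.stalkSpecializes_stalkMap_assoc f x' x h]
  exact congr($(congrArg CommRingCat.Hom.hom hcomm) a)

/-- The transcendence degree of a residue field computed in the local ring at a specialization. -/
theorem relTrdeg_eq_trdeg {x : X} [Algebra (S.presheaf.stalk (f.base x)) (X.presheaf.stalk x)]
    (hf : algebraMap (S.presheaf.stalk (f.base x)) (X.presheaf.stalk x) = (f.stalkMap x).hom)
    (P : PrimeSpectrum (X.presheaf.stalk x)) (p : Ideal (S.presheaf.stalk (f.base x)))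
    (hp : p = P.asIdeal.comap (algebraMap _ _)) [P.asIdeal.LiesOver p] :
    Algebra.trdeg (S.presheaf.stalk (f.base x) ⧸ p) (X.presheaf.stalk x ⧸ P.asIdeal) =
      Groth.Variety2.Dim.relTrdeg f ((X.fromSpecStalk x).base P) := by
  set z := (X.fromSpecStalk x).base P
  have hz : z ⤳ x := specializes_fromSpecStalk x P
  have hw : f.base z ⤳ f.base x := hz.map f.continuous
  let p' : PrimeSpectrum (S.presheaf.stalk (f.base x)) := ⟨p, by rw [hp]; exact P.2.comap _⟩
  have hp' : (S.fromSpecStalk (f.base x)).base p' = f.base z := by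
    show _ = (X.fromSpecStalk x ≫ f).base P
    rw [← Scheme.SpecMap_stalkMap_fromSpecStalk f, Scheme.Hom.comp_apply]
    refine congrArg _ (PrimeSpectrum.ext ?_)
    show p = _
    rw [hp, hf]
    rfl
  haveI : p.IsPrime := p'.2
  let K := S.residueField (f.base z)
  let L := X.residueField z
  let χ : S.presheaf.stalk (f.base x) ⧸ p →+* K :=
    Ideal.Quotient.lift p (toResidue hw) fun a ha => by rw [← RingHom.mem_ker, ker_toResidue hw p' hp']; exact ha
  let ψ : X.presheaf.stalk x ⧸ P.asIdeal →+* L :=
    Ideal.Quotient.lift P.asIdeal (toResidue hz) fun a ha => by rw [← ker_toResidue hz P rfl] at ha; exact ha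
  letI := χ.toAlgebra
  letI := ψ.toAlgebra
  letI : Algebra K L := (f.residueFieldMap z).hom.toAlgebra
  letI : Algebra (S.presheaf.stalk (f.base x) ⧸ p) L := ((algebraMap K L).comp χ).toAlgebra
  haveI : IsScalarTower (S.presheaf.stalk (f.base x) ⧸ p) K L := IsScalarTower.of_algebraMap_eq fun _ => rfl
  haveI : IsScalarTower (S.presheaf.stalk (f.base x) ⧸ p) (X.presheaf.stalk x ⧸ P.asIdeal) L :=
    IsScalarTower.of_algebraMap_eq fun a => by
      obtain ⟨a, rfl⟩ := Ideal.Quotient.mk_surjective a
      show (f.residueFieldMap z).hom (toResidue hw a) =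
        toResidue hz (algebraMap (S.presheaf.stalk (f.base x)) (X.presheaf.stalk x) a)
      rw [hf]
      exact toResidue_comp f hz a
  have hχ : Function.Injective χ :=
    RingHom.lift_injective_of_ker_le_ideal _ _ (ker_toResidue hw p' hp').le
  have hψ : Function.Injective ψ :=
    RingHom.lift_injective_of_ker_le_ideal _ _ (ker_toResidue hz P rfl).le
  haveI : FaithfulSMul (S.presheaf.stalk (f.base x) ⧸ p) K :=
    (faithfulSMul_iff_algebraMap_injective _ _).2 hχ
  haveI : IsFractionRing (S.presheaf.stalk (f.base x) ⧸ p) K := IsFractionRing.of_field _ _ fun w => by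
    obtain ⟨a, b, -, hab⟩ := exists_toResidue_eq_div hw w
    exact ⟨Ideal.Quotient.mk _ a, Ideal.Quotient.mk _ b, hab⟩
  refine Groth.FibreDim.trdeg_eq_of_fractions (D := S.presheaf.stalk (f.base x) ⧸ p)
    (A := X.presheaf.stalk x ⧸ P.asIdeal) (K := K) (B := L) ?_ hψ fun w => ?_
  · refine Ideal.quotientMap_injective' ?_
    exact hp.ge
  · obtain ⟨a, b, hb, rfl⟩ := exists_toResidue_eq_div hz w
    refine ⟨Ideal.Quotient.mk _ a, Ideal.Quotient.mk _ b, fun h0 => hb ?_, ?_⟩
    · rwa [← RingHom.mem_ker, ker_toResidue hz P rfl, ← Ideal.Quotient.eq_zero_iff_mem]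
    · exact div_mul_cancel₀ (toResidue hz a) hb

end Groth.FlatMor2.StalkTrdeg
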