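import Groth.Agent.GenericFree.Basic
import Groth.Agent.RaynaudGruson.RelAssWitness
import Groth.Agent.QCohMod.PullbackQCoh

/-!
# Associated points of the fibres near the generic fibre, finite type case (helper92)

No finite presentation and no Noetherian hypotheses: one element of the ideal of the complement which
is regular on the generic fibre stays regular on nearby fibres by generic freeness.
-/

set_option autoImplicit false
set_option linter.style.haveILetI false
set_option backward.isDefEq.respectTransparency.types false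
universe u

open TensorProduct CategoryTheory AlgebraicGeometry

namespace Groth.RelAssGeneric

/-- An element regular up to torsion stays regular modulo primes outside a proper closed set. -/
theorem exists_regular_mod_prime {D S M : Type u} [CommRing D] [IsDomain D] [CommRing S] [Algebra D S]
    [Algebra.FiniteType D S] [AddCommGroup M] [Module D M] [Module S M] [IsScalarTower D S M] [Module.Finite S M]
    (h : S) (hh : ∀ n : M, h • n = 0 → ∃ a : D, a ≠ 0 ∧ a • n = 0) :
    ∃ g : D, g ≠ 0 ∧ ∀ (q : Ideal D) (n : M), h • n ∈ q • (⊤ : Submodule D M) →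
      ∃ k : ℕ, g ^ k • n ∈ q • (⊤ : Submodule D M) := by
  classical
  haveI : SMulCommClass S D M := SMulCommClass.symm D S M
  let R : Submodule S M := LinearMap.range (LinearMap.lsmul S M h)
  obtain ⟨f₁, hf₁, κ, ψ, hψ, hψs⟩ := Groth.GenericFree.gf_of_finiteType (R := D) S M
  obtain ⟨f₂, hf₂, ι, φ, hφ, hφs⟩ := Groth.GenericFree.gf_of_finiteType (R := D) S (M ⧸ R)
  refine ⟨f₂ * f₁, mul_ne_zero hf₂ hf₁, fun q n hn => ?_⟩
  choose w hw using fun j : ι => Submodule.Quotient.mk_surjective R (φ (Finsupp.single j 1))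
  let L : (ι →₀ D) →ₗ[D] M := Finsupp.linearCombination D w
  have hL : ∀ v, Submodule.Quotient.mk (L v) = φ v := by
    intro v
    induction v using Finsupp.induction_linear with
    | zero => rw [map_zero, map_zero, Submodule.Quotient.mk_zero]
    | add a b ha hb => rw [map_add, map_add, Submodule.Quotient.mk_add, ha, hb]
    | single j c =>
      rw [Finsupp.linearCombination_single, Submodule.Quotient.mk_smul, hw, ← map_smul, Finsupp.smul_single,
        smul_eq_mul, mul_one]
  have key : ∀ y ∈ q • (⊤ : Submodule D M), ∃ (k : ℕ) (v : ι →₀ D) (u : M),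
      u ∈ q • (⊤ : Submodule D M) ∧ L v ∈ q • (⊤ : Submodule D M) ∧ f₂ ^ k • y = L v + h • u := by
    intro y hy
    refine Submodule.smul_induction_on hy (fun c hc m _ => ?_) ?_
    · obtain ⟨k, v, hv⟩ := hφs (Submodule.Quotient.mk m)
      have hmem : f₂ ^ k • m - L v ∈ R := by
        rw [← Submodule.Quotient.eq, hL, hv]
        rfl
      obtain ⟨u, hu⟩ := hmem
      have hu' : f₂ ^ k • m = L v + h • u := (eq_add_of_sub_eq' hu.symm)
      refine ⟨k, c • v, c • u, Submodule.smul_mem_smul hc trivial, ?_, ?_⟩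
      · rw [map_smul]; exact Submodule.smul_mem_smul hc trivial
      · rw [map_smul, smul_comm h c, ← smul_add, ← hu', smul_comm]
    · rintro y z ⟨k, v, u, hu, hv, he⟩ ⟨l, v', u', hu', hv', he'⟩
      refine ⟨k + l, f₂ ^ l • v + f₂ ^ k • v', f₂ ^ l • u + f₂ ^ k • u',
        add_mem (Submodule.smul_mem _ _ hu) (Submodule.smul_mem _ _ hu'), ?_, ?_⟩
      · rw [map_add, map_smul, map_smul]
        exact add_mem (Submodule.smul_mem _ _ hv) (Submodule.smul_mem _ _ hv')
      · rw [smul_add, pow_add, mul_smul, mul_smul, smul_comm (f₂ ^ k) (f₂ ^ l), he, he', map_add, map_smul, map_smul,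
          smul_add (f₂ ^ l), smul_add (f₂ ^ k), smul_add h, smul_comm h (f₂ ^ l), smul_comm h (f₂ ^ k)]
        abel
  obtain ⟨k, v, u, hu, -, he⟩ := key _ hn
  have hv : v = 0 := hφ (by
    rw [map_zero, ← hL v, Submodule.Quotient.mk_eq_zero]
    refine ⟨f₂ ^ k • n - u, ?_⟩
    show h • (f₂ ^ k • n - u) = L v
    rw [smul_sub, smul_comm h (f₂ ^ k), he, add_sub_cancel_right])
  rw [hv, map_zero, zero_add, smul_comm] at he
  have hz : h • (f₂ ^ k • n - u) = 0 := by rw [smul_sub, he, sub_self]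
  obtain ⟨a, ha, haz⟩ := hh _ hz
  obtain ⟨l, x, hx⟩ := hψs (f₂ ^ k • n - u)
  have hx0 : x = 0 := by
    have h1 : ψ (a • x) = 0 := by rw [map_smul, hx, smul_comm, haz, smul_zero]
    exact (smul_eq_zero.1 (hψ (h1.trans (map_zero ψ).symm))).resolve_left ha
  rw [hx0, map_zero, eq_comm, smul_sub, sub_eq_zero] at hx
  refine ⟨k + l, ?_⟩
  have e : (f₂ * f₁) ^ (k + l) • n = (f₂ ^ l * f₁ ^ k) • (f₁ ^ l • u) := by
    rw [← hx, smul_smul, smul_smul, mul_pow, pow_add, pow_add]
    congr 1
    ring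
  rw [e]
  exact Submodule.smul_mem _ _ (Submodule.smul_mem _ _ hu)

variable {A B : Type u} [CommRing A] [CommRing B] [Algebra A B] [Algebra.FiniteType A B]
  (N : Type u) [AddCommGroup N] [Module B N] [Module A N] [IsScalarTower A B N] [Module.Finite B N]
  (p : Ideal A) [p.IsPrime]

attribute [local instance] Algebra.TensorProduct.rightAlgebra

/-- An element of `J` regular on the fibre over `p`, when no associated prime of the fibre contains `J`. -/
theorem exists_regular_fibre (J : Ideal B)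
    (hJ : ∀ (P : Ideal B) [P.IsPrime], P.comap (algebraMap A B) = p →
      (∃ t : N, Groth.RaynaudGruson.FlatFibreAss.IsWitness N p P t) → ¬ J ≤ P) :
    ∃ h ∈ J, ∀ n : N, h • n ∈ p • (⊤ : Submodule A N) → ∃ a : A, a ∉ p ∧ a • n ∈ p • (⊤ : Submodule A N) := by
  classical
  let F := p.Fiber B
  let G := FlatCA.fiberMod p B N
  haveI : IsNoetherianRing F := Algebra.FiniteType.isNoetherianRing p.ResidueField _
  haveI : Module.Finite F G := inferInstanceAs (Module.Finite (p.Fiber B) (p.Fiber B ⊗[B] N))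
  haveI : IsScalarTower B F G := inferInstanceAs (IsScalarTower B (p.Fiber B) (p.Fiber B ⊗[B] N))
  obtain ⟨ρ, hρ⟩ := Calg3.WeakAssTensor.exists_fiberMod_equiv (S := B) N p
  have hfin := associatedPrimes.finite F G
  let T := hfin.toFinset.image fun 𝔓 => 𝔓.comap (algebraMap B F)
  have hT : ∀ P ∈ T, P.IsPrime ∧ ¬ J ≤ P := by
    intro P hP
    obtain ⟨𝔓, h𝔓, rfl⟩ := Finset.mem_image.1 hP
    rw [Set.Finite.mem_toFinset, AssociatedPrimes.mem_iff, isAssociatedPrime_iff] at h𝔓
    obtain ⟨hprime, m, hm⟩ := h𝔓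
    refine ⟨Ideal.comap_isPrime _ _, ?_⟩
    have hP' : (𝔓.comap (algebraMap B F)).comap (algebraMap A B) = p := by
      rw [Ideal.comap_comap, ← IsScalarTower.algebraMap_eq A B F,
        IsScalarTower.algebraMap_eq A p.ResidueField F, ← Ideal.comap_comap,
        Ideal.eq_bot_of_prime (𝔓.comap (algebraMap p.ResidueField F)), ← RingHom.ker_eq_comap_bot,
        Ideal.ker_algebraMap_residueField]
    refine hJ _ hP' ?_
    have hz : ∀ s : B, s • ρ m = 0 ↔ s ∈ 𝔓.comap (algebraMap B F) := fun s => by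
      rw [← hρ, AddEquiv.map_eq_zero_iff, ← algebraMap_smul F s m, Ideal.mem_comap, hm,
        Submodule.mem_colon_singleton, Submodule.mem_bot]
    generalize ρ m = z at hz
    obtain ⟨a, ha, t, ht⟩ : ∃ a : A, a ∉ p ∧ ∃ t : N, algebraMap A B a • z = t ⊗ₜ[A] (1 : p.ResidueField) := by
      clear hz
      induction z with
      | zero => exact ⟨1, p.primeCompl.one_mem, 0, by rw [smul_zero, zero_tmul]⟩
      | add x y hx hy =>
        obtain ⟨a, ha, u, hu⟩ := hx
        obtain ⟨b, hb, v, hv⟩ := hy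
        refine ⟨a * b, Ideal.IsPrime.mul_notMem ‹_› ha hb, b • u + a • v, ?_⟩
        rw [add_tmul, map_mul, smul_add]
        conv_lhs => rw [mul_smul (algebraMap A B a), mul_smul (algebraMap A B a), smul_comm, hu, hv]
        rw [algebraMap_smul, algebraMap_smul, smul_tmul', smul_tmul']
      | tmul n k =>
        obtain ⟨k, rfl⟩ := IsLocalRing.residue_surjective (R := Localization.AtPrime p) k
        obtain ⟨a, s, rfl⟩ := IsLocalization.exists_mk'_eq p.primeCompl k
        refine ⟨s, s.2, a • n, ?_⟩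
        rw [algebraMap_smul, smul_tmul', smul_tmul, smul_tmul (R' := A) a n]
        congr 1
        rw [Algebra.smul_def, Algebra.smul_def, mul_one, IsScalarTower.algebraMap_apply A (Localization.AtPrime p)
          p.ResidueField, IsScalarTower.algebraMap_apply A (Localization.AtPrime p) p.ResidueField]
        show IsLocalRing.residue _ (algebraMap A _ (s : A)) * IsLocalRing.residue _ _ = IsLocalRing.residue _ _
        rw [← map_mul, IsLocalization.mk'_spec']
    have hPa : algebraMap A B a ∉ 𝔓.comap (algebraMap B F) := fun h => ha (by rw [← hP']; exact h)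
    have hz' : ∀ s : B, s • (t ⊗ₜ[A] (1 : p.ResidueField)) = 0 ↔ s ∈ 𝔓.comap (algebraMap B F) := fun s => by
      rw [← ht, ← mul_smul, hz]
      exact ⟨fun h => ((Ideal.comap_isPrime _ _).mem_or_mem h).resolve_right hPa,
        fun h => Ideal.mul_mem_right _ _ h⟩
    refine ⟨t, fun c hc hct => hc ((hz' c).mp ?_), fun r hr => ?_⟩
    · rw [smul_tmul', RaynaudGruson.RelAssWitness.tmul_one_eq_zero_iff N p]
      exact ⟨1, p.primeCompl.one_mem, by
        rw [one_smul]; exact (RaynaudGruson.RelAssWitness.mem_map_smul_iff N p _).mp hct⟩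
    · have h := (hz' r).mpr hr
      rw [smul_tmul', RaynaudGruson.RelAssWitness.tmul_one_eq_zero_iff N p] at h
      obtain ⟨b, hb, hbr⟩ := h
      refine ⟨1, algebraMap A B b, fun h => hb (by rw [← hP']; exact h), ?_⟩
      rw [pow_one, mul_smul, algebraMap_smul, RaynaudGruson.RelAssWitness.mem_map_smul_iff N p]
      exact hbr
  have hns : ¬ (J : Set B) ⊆ ⋃ P ∈ (↑T : Set (Ideal B)), (P : Set B) := by
    rw [Ideal.subset_union_prime ⊤ ⊤ (fun P hP _ _ => (hT P hP).1)]
    rintro ⟨P, hP, hle⟩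
    exact (hT P hP).2 hle
  obtain ⟨h, hhJ, hh⟩ := Set.not_subset.1 hns
  refine ⟨h, hhJ, fun n hn => ?_⟩
  have h0 : h • (n ⊗ₜ[A] (1 : p.ResidueField)) = 0 := by
    rw [smul_tmul', RaynaudGruson.RelAssWitness.tmul_one_eq_zero_iff N p]
    exact ⟨1, p.primeCompl.one_mem, by rw [one_smul]; exact hn⟩
  obtain ⟨m, hm⟩ := ρ.surjective (n ⊗ₜ[A] (1 : p.ResidueField))
  rw [← hm, ← hρ, AddEquiv.map_eq_zero_iff, ← algebraMap_smul F] at h0
  rw [← RaynaudGruson.RelAssWitness.tmul_one_eq_zero_iff N p n, ← hm, AddEquiv.map_eq_zero_iff]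
  by_contra hm0
  have : algebraMap B F h ∈ ⋃ 𝔓 ∈ associatedPrimes F G, (𝔓 : Set F) := by
    rw [biUnion_associatedPrimes_eq_zero_divisors]
    exact ⟨m, hm0, h0⟩
  obtain ⟨𝔓, h𝔓, hh𝔓⟩ := Set.mem_iUnion₂.1 this
  exact hh (Set.mem_biUnion (Finset.mem_coe.2 (Finset.mem_image_of_mem _ (hfin.mem_toFinset.2 h𝔓))) hh𝔓)

/-- Near `p` no associated prime of a fibre contains `J`, if none over `p` does. -/
theorem exists_away (J : Ideal B)
    (hJ : ∀ (P : Ideal B) [P.IsPrime], P.comap (algebraMap A B) = p →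
      (∃ t : N, Groth.RaynaudGruson.FlatFibreAss.IsWitness N p P t) → ¬ J ≤ P) :
    ∃ g : A, g ∉ p ∧ ∀ (q : Ideal A) [q.IsPrime], p ≤ q → g ∉ q → ∀ (P : Ideal B) [P.IsPrime],
      P.comap (algebraMap A B) = q → (∃ t : N, Groth.RaynaudGruson.FlatFibreAss.IsWitness N q P t) → ¬ J ≤ P := by
  classical
  obtain ⟨h, hhJ, hh⟩ := exists_regular_fibre N p J hJ
  let I : Ideal B := p.map (algebraMap A B)
  let S := B ⧸ I
  let D := A ⧸ p
  let M := N ⧸ (I • (⊤ : Submodule B N))
  haveI : IsDomain D := Ideal.Quotient.isDomain p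
  letI : Algebra D S := (Ideal.quotientMap I (algebraMap A B) Ideal.le_comap_map).toAlgebra
  haveI : IsScalarTower A D S := IsScalarTower.of_algebraMap_eq fun r => rfl
  haveI : Algebra.FiniteType D S :=
    haveI : Algebra.FiniteType A S :=
      Algebra.FiniteType.of_surjective (Ideal.Quotient.mkₐ A I) Ideal.Quotient.mk_surjective
    Algebra.FiniteType.of_restrictScalars_finiteType A _ _
  letI : Module D M := Module.compHom M (algebraMap D S)
  haveI : IsScalarTower D S M := .of_algebraMap_smul fun _ _ => rfl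
  haveI : Module.Finite S M := Module.Finite.of_restrictScalars_finite B S M
  let π : N →+ M := (Submodule.mkQ (I • (⊤ : Submodule B N))).toAddMonoidHom
  have hπA : ∀ (a : A) (n : N), π (a • n) = (Ideal.Quotient.mk p a : D) • π n := fun a n => by
    rw [← algebraMap_smul B a n]
    show π (algebraMap A B a • n) = algebraMap D S (Ideal.Quotient.mk p a) • π n
    rfl
  have hπB : ∀ (b : B) (n : N), π (b • n) = (Ideal.Quotient.mk I b : S) • π n := fun b n => rfl
  have hπ0 : ∀ n : N, π n = 0 ↔ n ∈ p • (⊤ : Submodule A N) := fun n => by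
    rw [← RaynaudGruson.RelAssWitness.mem_map_smul_iff (B := B) N p n]
    exact Submodule.Quotient.mk_eq_zero _
  obtain ⟨g, hg, hreg⟩ := exists_regular_mod_prime (D := D) (S := S) (M := M) (Ideal.Quotient.mk I h)
    fun z hz => by
      obtain ⟨n, rfl⟩ := Submodule.Quotient.mk_surjective _ z
      obtain ⟨a, ha, han⟩ := hh n ((hπ0 _).1 ((hπB h n).trans hz))
      exact ⟨Ideal.Quotient.mk p a, fun h0 => ha (Ideal.Quotient.eq_zero_iff_mem.1 h0),
        (hπA a n).symm.trans ((hπ0 _).2 han)⟩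
  obtain ⟨g, rfl⟩ := Ideal.Quotient.mk_surjective g
  refine ⟨g, fun hgp => hg (Ideal.Quotient.eq_zero_iff_mem.2 hgp), fun q _ hpq hgq P _ hPq ⟨t, ht1, ht2⟩ hJP => ?_⟩
  have hgP : ∀ k : ℕ, algebraMap A B g ^ k ∉ P := fun k hk => hgq (by
    rw [← hPq]; exact Ideal.IsPrime.mem_of_pow_mem ‹P.IsPrime› k hk)
  have hstep : ∀ n : N, h • n ∈ q • (⊤ : Submodule A N) → ∃ k : ℕ, g ^ k • n ∈ q • (⊤ : Submodule A N) := by
    intro n hn
    let qD : Ideal D := q.map (Ideal.Quotient.mk p)
    have hfwd : ∀ y ∈ q • (⊤ : Submodule A N), π y ∈ qD • (⊤ : Submodule D M) := by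
      intro y hy
      refine Submodule.smul_induction_on hy (fun c hc m _ => ?_) fun a b ha hb => ?_
      · rw [hπA]; exact Submodule.smul_mem_smul (Ideal.mem_map_of_mem _ hc) trivial
      · rw [map_add]; exact add_mem ha hb
    have hbwd : ∀ y ∈ qD • (⊤ : Submodule D M), ∃ y' ∈ q • (⊤ : Submodule A N), π y' = y := by
      intro y hy
      refine Submodule.smul_induction_on hy (fun c hc m _ => ?_) ?_
      · obtain ⟨c, hc', rfl⟩ := (Ideal.mem_map_iff_of_surjective _ Ideal.Quotient.mk_surjective).1 hc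
        obtain ⟨m, rfl⟩ := Submodule.Quotient.mk_surjective _ m
        exact ⟨c • m, Submodule.smul_mem_smul hc' trivial, hπA c m⟩
      · rintro _ _ ⟨a, ha, rfl⟩ ⟨b, hb, rfl⟩
        exact ⟨a + b, add_mem ha hb, map_add π a b⟩
    obtain ⟨k, hk⟩ := hreg qD (π n) (hπB h n ▸ hfwd _ hn)
    rw [← map_pow, ← hπA] at hk
    obtain ⟨y, hy, hye⟩ := hbwd _ hk
    refine ⟨k, ?_⟩
    have h1 : g ^ k • n - y ∈ q • (⊤ : Submodule A N) :=
      Submodule.smul_mono_left hpq ((hπ0 _).1 (by rw [map_sub, hye, sub_self]))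
    exact (Submodule.sub_mem_iff_left _ hy).1 h1
  have hpow : ∀ (m : ℕ) (n : N), h ^ m • n ∈ q • (⊤ : Submodule A N) →
      ∃ k : ℕ, g ^ k • n ∈ q • (⊤ : Submodule A N) := by
    intro m
    induction m with
    | zero => exact fun n hn => ⟨0, by simpa using hn⟩
    | succ m ih =>
      intro n hn
      rw [pow_succ', mul_smul] at hn
      obtain ⟨k, hk⟩ := hstep _ hn
      rw [smul_comm] at hk
      obtain ⟨l, hl⟩ := ih _ hk
      exact ⟨l + k, by rwa [pow_add, mul_smul]⟩
  obtain ⟨m, c, hc, hcm⟩ := ht2 h (hJP hhJ)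
  rw [RaynaudGruson.RelAssWitness.mem_map_smul_iff N q, mul_comm, mul_smul] at hcm
  obtain ⟨k, hk⟩ := hpow m _ hcm
  refine ht1 (algebraMap A B g ^ k * c) (Ideal.IsPrime.mul_notMem ‹P.IsPrime› (hgP k) hc) ?_
  rw [RaynaudGruson.RelAssWitness.mem_map_smul_iff N q, mul_smul, ← map_pow, algebraMap_smul]
  exact hk

end Groth.RelAssGeneric
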