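import Groth.Prelude.Def_MoreMor
import Groth.Agent.PicAux.Cocycle
import Groth.Agent.PicAux.Pullback
import Groth.Agent.PicAux.Tensor
import Mathlib.Dynamics.Newton

/-!
`n`-torsion invertible modules lift along thickenings when `n` is invertible.
-/

universe u

open AlgebraicGeometry CategoryTheory TopologicalSpace
open Groth.PicAux

namespace Groth.FlatMor2

set_option linter.style.haveILetI false

theorem existsUnique_root_lift {A B : Type*} [CommRing A] [CommRing B] (ρ : A →+* B)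
    (hsurj : Function.Surjective ρ) (hnil : ∀ a, ρ a = 0 → IsNilpotent a) (n : ℕ) (_hn : 0 < n)
    (hnB : IsUnit (n : B)) (v : A) (u : B) (hu : IsUnit u) (h : u ^ n = ρ v) :
    ∃! U : A, U ^ n = v ∧ ρ U = u := by
  have hunit : ∀ a, IsUnit (ρ a) → IsUnit a := by
    intro a ha
    obtain ⟨b, hb⟩ := hsurj ↑ha.unit⁻¹
    have h1 : IsNilpotent (a * b - 1) := hnil _ (by rw [map_sub, map_mul, hb, map_one,
      IsUnit.mul_val_inv, sub_self])
    have h2 := h1.isUnit_add_one
    rw [sub_add_cancel] at h2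
    exact isUnit_of_mul_isUnit_left h2
  obtain ⟨u₀, hu₀⟩ := hsurj u
  let P : Polynomial A := Polynomial.X ^ n - Polynomial.C v
  have haev : ∀ r : A, Polynomial.aeval r P = r ^ n - v := fun r => by simp [P]
  have h1 : IsNilpotent (Polynomial.aeval u₀ P) :=
    hnil _ (by rw [haev, map_sub, map_pow, hu₀, h, sub_self])
  have h2 : IsUnit (Polynomial.aeval u₀ (Polynomial.derivative P)) := by
    have : Polynomial.aeval u₀ (Polynomial.derivative P) = (n : A) * u₀ ^ (n - 1) := by
      simp [P, Polynomial.derivative_X_pow]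
    rw [this]
    refine hunit _ ?_
    rw [map_mul, map_natCast, map_pow, hu₀]
    exact hnB.mul (hu.pow _)
  obtain ⟨r, ⟨hr1, hr2⟩, hruniq⟩ := Polynomial.existsUnique_nilpotent_sub_and_aeval_eq_zero h1 h2
  rw [haev, sub_eq_zero] at hr2
  have hρr : ρ r = u := by
    -- `ρ r` and `u` are roots of `X ^ n - ρ v` differing by a nilpotent
    obtain ⟨r', -, huniq⟩ := Polynomial.existsUnique_nilpotent_sub_and_aeval_eq_zero
      (P := Polynomial.X ^ n - Polynomial.C (ρ v)) (x := u) (by simp [h])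
      (by simpa [Polynomial.derivative_X_pow] using hnB.mul (hu.pow _))
    have e1 := huniq u ⟨by simp, by simp [h]⟩
    have e2 := huniq (ρ r) ⟨by
      have := hr1.map ρ
      rwa [map_sub, hu₀] at this, by simp [← map_pow, hr2]⟩
    rw [e1, e2]
  refine ⟨r, ⟨hr2, hρr⟩, fun U hU => hruniq U ⟨?_, by rw [haev, hU.1, sub_self]⟩⟩
  exact hnil _ (by rw [map_sub, hu₀, hU.2, sub_self])

section

variable {X X' : Scheme.{u}} (i : X ⟶ X')

theorem app_resX {U V : X'.Opens} (h : V ≤ U) (a : Γ(X', U)) :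
    i.app V (resX X' h a) = resX X (i.preimage_mono h) (i.app U a) :=
  congr($(i.naturality (homOfLE h).op) a)

theorem isUnit_natCast_section {n : ℕ} (hu : IsUnit (n : Γ(X, ⊤))) (W : X.Opens) :
    IsUnit (n : Γ(X, W)) := by
  simpa using hu.map (resX X (le_top : W ≤ ⊤))

variable [IsClosedImmersion i] [Surjective i]

theorem isNilpotent_of_app_eq_zero {U : X'.Opens} (hU : IsAffineOpen U) (a : Γ(X', U))
    (ha : i.app U a = 0) : IsNilpotent a := by
  rw [nilpotent_iff_mem_prime]
  intro P hP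
  by_contra haP
  have hy : hU.fromSpec ⟨P, hP⟩ ∈ X'.basicOpen a := by
    rw [← Scheme.Hom.mem_preimage, hU.fromSpec_preimage_basicOpen]
    exact haP
  obtain ⟨x, hx⟩ := i.surjective (hU.fromSpec ⟨P, hP⟩)
  have : x ∈ i ⁻¹ᵁ X'.basicOpen a := by
    rw [Scheme.Hom.mem_preimage, hx]
    exact hy
  rw [Scheme.preimage_basicOpen, ha, Scheme.basicOpen_zero] at this
  exact this

theorem existsUnique_section_root {n : ℕ} (hn : 0 < n) (hu : IsUnit (n : Γ(X, ⊤))) (V : X'.Opens)
    (v : Γ(X', V)) (u : Γ(X, i ⁻¹ᵁ V)) (huu : IsUnit u) (h : u ^ n = i.app V v) :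
    ∃! U : Γ(X', V), U ^ n = v ∧ i.app V U = u := by
  let ι := {W : X'.Opens // IsAffineOpen W ∧ W ≤ V}
  have hcov : V ≤ ⨆ W : ι, (W.1 : X'.Opens) := by
    intro y hy
    obtain ⟨_, ⟨W, hW, rfl⟩, hyW, hWV⟩ := X'.isBasis_affineOpens.exists_subset_of_mem_open hy V.2
    exact Opens.mem_iSup.2 ⟨⟨W, hW, hWV⟩, hyW⟩
  have key : ∀ W : ι, ∃! U : Γ(X', W.1), U ^ n = resX X' W.2.2 v ∧
      i.app W.1 U = resX X (i.preimage_mono W.2.2) u := fun W =>
    existsUnique_root_lift (i.app W.1).hom (i.app_surjective W.1 W.2.1)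
      (fun a ha => isNilpotent_of_app_eq_zero i W.2.1 a ha) n hn (isUnit_natCast_section hu _) _ _
      (huu.map _) (by rw [← map_pow, h]; exact (app_resX i W.2.2 v).symm)
  choose U hU hUuniq using key
  -- two roots on an open agree
  have hsame : ∀ (T : X'.Opens) (hT : T ≤ V) (a b : Γ(X', T)),
      a ^ n = resX X' hT v → i.app T a = resX X (i.preimage_mono hT) u →
      b ^ n = resX X' hT v → i.app T b = resX X (i.preimage_mono hT) u → a = b := by
    intro T hT a b ha ha' hb hb'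
    let κ := {W : X'.Opens // IsAffineOpen W ∧ W ≤ T}
    refine resX_ext (fun W : κ => W.1) (fun W => W.2.2) ?_ fun W => ?_
    · intro y hy
      obtain ⟨_, ⟨W, hW, rfl⟩, hyW, hWT⟩ :=
        X'.isBasis_affineOpens.exists_subset_of_mem_open hy T.2
      exact Opens.mem_iSup.2 ⟨⟨W, hW, hWT⟩, hyW⟩
    · have hWV : W.1 ≤ V := W.2.2.trans hT
      have e : ∀ c : Γ(X', T), c ^ n = resX X' hT v → i.app T c = resX X (i.preimage_mono hT) u →
          resX X' W.2.2 c = U ⟨W.1, W.2.1, hWV⟩ := fun c hc hc' =>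
        hUuniq ⟨W.1, W.2.1, hWV⟩ _ ⟨by rw [← map_pow, hc, resX_resX],
          by rw [app_resX, hc', resX_resX]⟩
      rw [e a ha ha', e b hb hb']
  obtain ⟨R, hR, -⟩ := resX_glue (fun W : ι => W.1) (fun W => W.2.2) hcov U fun W W' =>
    hsame _ (inf_le_left.trans W.2.2) _ _
      (by rw [← map_pow, (hU W).1, resX_resX]) (by rw [app_resX, (hU W).2, resX_resX])
      (by rw [← map_pow, (hU W').1, resX_resX]) (by rw [app_resX, (hU W').2, resX_resX])
  have hRn : R ^ n = v := resX_ext (fun W : ι => W.1) (fun W => W.2.2) hcov fun W => by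
    rw [map_pow, hR, (hU W).1]
  have hRu : i.app V R = u := by
    refine resX_ext (fun W : ι => i ⁻¹ᵁ W.1) (fun W => i.preimage_mono W.2.2) ?_ fun W => ?_
    · intro x hx
      obtain ⟨W, hW⟩ := Opens.mem_iSup.1 (hcov (show i x ∈ V from hx))
      exact Opens.mem_iSup.2 ⟨W, hW⟩
    · rw [← app_resX i W.2.2, hR, (hU W).2]
  refine ⟨R, ⟨hRn, hRu⟩, fun S hS => hsame V le_rfl _ _ ?_ ?_ ?_ ?_⟩ <;>
    simp [hS.1, hS.2, hRn, hRu]

theorem isUnit_of_app {U : X'.Opens} (hU : IsAffineOpen U) (a : Γ(X', U))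
    (ha : IsUnit (i.app U a)) : IsUnit a := by
  obtain ⟨b, hb⟩ := i.app_surjective U hU (↑ha.unit⁻¹ : Γ(X, i ⁻¹ᵁ U))
  have h1 : IsNilpotent (a * b - 1) := isNilpotent_of_app_eq_zero i hU _ (by
    rw [map_sub, map_mul, map_one]
    change i.app U a * (i.app U).hom b - 1 = 0
    rw [show (i.app U).hom b = ↑ha.unit⁻¹ from hb, IsUnit.mul_val_inv, sub_self])
  have h2 := h1.isUnit_add_one
  rw [sub_add_cancel] at h2
  exact isUnit_of_mul_isUnit_left h2

/-- An `n`-torsion invertible module on `X` lifts to one on the thickening `X'`. -/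
theorem exists_torsion_lift {n : ℕ} (hn : 0 < n) (hu : IsUnit (n : Γ(X, ⊤))) (L : X.Modules)
    (hL : PicF.IsInvertible L) (htriv : Nonempty (CohB1.tensorPow L n ≅ Coh.structureModule X)) :
    ∃ L' : X'.Modules, PicF.IsInvertible L' ∧
      Nonempty (CohB1.tensorPow L' n ≅ Coh.structureModule X') ∧
      Nonempty ((Scheme.Modules.pullback i).obj L' ≅ L) := by
  obtain ⟨t, ht⟩ := nonempty_iso_structure_iff.1 htriv
  -- a cover of `X'` by affine opens with generators on the preimages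
  have hloc : ∀ y : X', ∃ (U : X'.Opens) (s : Γ(L, i ⁻¹ᵁ U)), IsAffineOpen U ∧ y ∈ U ∧
      Gen L (i ⁻¹ᵁ U) s := by
    intro y
    obtain ⟨x, rfl⟩ := i.surjective y
    obtain ⟨W, s, hxW, hs⟩ := (isInvertible_iff_exists_gen L).1 hL x
    obtain ⟨O, hO, hOW⟩ :=
      i.isClosedEmbedding.isInducing.isOpen_iff.1 W.2
    have hxO : i x ∈ O := by
      have : x ∈ i ⁻¹' O := by rw [hOW]; exact hxW
      exact this
    obtain ⟨_, ⟨U, hU, rfl⟩, hxU, hUO⟩ := X'.isBasis_affineOpens.exists_subset_of_mem_open hxO hO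
    have hle : i ⁻¹ᵁ U ≤ W := by
      intro z hz
      have : z ∈ i ⁻¹' O := hUO hz
      rwa [hOW] at this
    exact ⟨U, _, hU, hxU, hs.res hle⟩
  choose U s hUaff hyU hs using hloc
  have hU : iSup U = ⊤ := top_le_iff.1 fun y _ => Opens.mem_iSup.2 ⟨y, hyU y⟩
  -- transition functions and the trivialization
  choose c hc using fun a => (ht.res (le_top : i ⁻¹ᵁ U a ≤ ⊤)).exists_unit ((hs a).pow n)
  choose C hC using fun a => i.app_surjective (U a) (hUaff a) (c a : Γ(X, i ⁻¹ᵁ U a))
  have hCu : ∀ a, IsUnit (C a) := fun a =>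
    isUnit_of_app i (hUaff a) _ ((hC a).symm ▸ (c a).isUnit)
  have hl : ∀ a b, i ⁻¹ᵁ (U a ⊓ U b) ≤ i ⁻¹ᵁ U a := fun a b => i.preimage_mono inf_le_left
  have hr : ∀ a b, i ⁻¹ᵁ (U a ⊓ U b) ≤ i ⁻¹ᵁ U b := fun a b => i.preimage_mono inf_le_right
  choose η hη using fun a b => ((hs b).res (hr a b)).exists_unit ((hs a).res (hl a b))
  have hcη : ∀ a b, resX X (hl a b) (c a) = (η a b : Γ(X, _)) ^ n * resX X (hr a b) (c b) := by
    intro a b
    refine ht.smul_inj (le_top : i ⁻¹ᵁ (U a ⊓ U b) ≤ ⊤) ?_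
    have ha := congrArg (res _ (hl a b)) (hc a)
    have hb := congrArg (res _ (hr a b)) (hc b)
    simp only [res_powSec, res_smul, res_res] at ha hb
    rw [mul_smul, ← hb, ← powSec_smul, ← hη, ← ha]
  let v : ∀ a b, Γ(X', U a ⊓ U b) := fun a b =>
    resX X' (inf_le_left : U a ⊓ U b ≤ U a) (C a) *
      (((hCu b).map (resX X' (inf_le_right : U a ⊓ U b ≤ U b))).unit⁻¹ : Units _).val
  have hv : ∀ a b, v a b * resX X' inf_le_right (C b) = resX X' inf_le_left (C a) := by
    intro a b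
    rw [mul_assoc, IsUnit.val_inv_mul, mul_one]
  have hiv : ∀ a b, (η a b : Γ(X, _)) ^ n = i.app _ (v a b) := by
    intro a b
    have h1 := congrArg (fun z => i.app _ z) (hv a b)
    simp only [map_mul, app_resX, hC] at h1
    rw [hcη a b] at h1
    exact ((((c b).isUnit.map (resX X (hr a b))).mul_left_inj).1 h1).symm
  choose E hE hEuniq using fun a b =>
    existsUnique_section_root i hn hu (U a ⊓ U b) (v a b) _ (η a b).isUnit (hiv a b)
  have hEu : ∀ a b, IsUnit (E a b) := by
    intro a b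
    refine (isUnit_pow_iff hn.ne').1 ?_
    rw [(hE a b).1]
    exact ((hCu a).map _).mul (Units.isUnit _)
  have hEC : ∀ a b, E a b ^ n * resX X' inf_le_right (C b) = resX X' inf_le_left (C a) :=
    fun a b => (hE a b).1.symm ▸ hv a b
  -- the cocycle condition
  have hcocycle : ∀ a b d,
      resX X' (inf_le_inf_right (U d) inf_le_left : U a ⊓ U b ⊓ U d ≤ U a ⊓ U d) (E a d) =
        resX X' (inf_le_left : U a ⊓ U b ⊓ U d ≤ U a ⊓ U b) (E a b) *
          resX X' (inf_le_inf_right (U d) inf_le_right : U a ⊓ U b ⊓ U d ≤ U b ⊓ U d) (E b d) := by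
    intro a b d
    set T := U a ⊓ U b ⊓ U d
    have hab : T ≤ U a ⊓ U b := inf_le_left
    have had : T ≤ U a ⊓ U d := inf_le_inf_right _ inf_le_left
    have hbd : T ≤ U b ⊓ U d := inf_le_inf_right _ inf_le_right
    have hw : IsUnit (resX X (i.preimage_mono had) (η a d : Γ(X, _))) := (η a d).isUnit.map _
    refine (existsUnique_section_root i hn hu T (resX X' had (v a d)) _ hw
      (by rw [← map_pow, hiv, ← app_resX])).unique ⟨?_, ?_⟩ ⟨?_, ?_⟩
    · rw [← map_pow, (hE a d).1]
    · rw [app_resX, (hE a d).2]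
    · refine ((hCu d).map (resX X' (inf_le_right : T ≤ U d))).mul_left_inj.1 ?_
      have e1 := congrArg (resX X' hab) (hEC a b)
      have e2 := congrArg (resX X' hbd) (hEC b d)
      have e3 := congrArg (resX X' had) (hv a d)
      simp only [map_mul, map_pow, resX_resX] at e1 e2 e3
      rw [e3, mul_pow, mul_assoc, e2, e1]
    · rw [map_mul, app_resX, app_resX, (hE a b).2, (hE b d).2]
      have e1 := congrArg (res L (i.preimage_mono hab)) (hη a b)
      have e2 := congrArg (res L (i.preimage_mono hbd)) (hη b d)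
      have e3 := congrArg (res L (i.preimage_mono had)) (hη a d)
      simp only [res_smul, res_res] at e1 e2 e3
      refine (hs d).smul_inj (i.preimage_mono (inf_le_right : T ≤ U d)) ?_
      rw [mul_smul, ← e2, ← e1, ← e3]
  obtain ⟨L', s', hs', hL', hrel⟩ :=
    exists_module_of_cocycle U (fun a b => E a b) hU hEu hcocycle
  refine ⟨L', hL', ?_, ?_⟩
  · obtain ⟨e, -⟩ := exists_iso_of_gen hU (fun a => C a • oneSec X' (U a))
      (fun a => (gen_oneSec _).smul_unit (hCu a)) (fun a => powSec (s' a) n)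
      (fun a => (hs' a).pow n) fun a b r hr' => by
        have h1 := congrArg toFun hr'
        simp only [res_smul, res_oneSec, toFun_smul, toFun_oneSec, mul_one] at h1
        have h2 : r = E a b ^ n :=
          ((hCu b).map (resX X' (inf_le_right : U a ⊓ U b ≤ U b))).mul_left_inj.1
            (h1.symm.trans (hEC a b).symm)
        subst h2
        rw [res_powSec, res_powSec, ← powSec_smul, hrel a b]
    exact ⟨e.symm⟩
  · have hU2 : (⨆ a, i ⁻¹ᵁ U a) = ⊤ := top_le_iff.1 fun x _ => Opens.mem_iSup.2 ⟨i x, hyU _⟩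
    obtain ⟨e, -⟩ := exists_iso_of_gen hU2 (fun a => pullSec i L' (s' a))
      (fun a => (hs' a).pull i) s hs fun a b r hr' => by
        have h1 := congrArg (pullSec i L') (hrel a b)
        rw [pullSec_smul, ← res_pullSec, ← res_pullSec, (hE a b).2] at h1
        have h2 : r = (η a b).val :=
          ((hs' b).pull i).smul_inj (hr a b) (hr'.symm.trans h1)
        subst h2
        exact hη a b
    exact ⟨e⟩

end

end Groth.FlatMor2
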