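import Groth.Agent.FlatMor2.StalkTrdeg
import Groth.Agent.FlatMor2.DimTrdeg

/-!
# Locally principal subschemes with empty generic fibre are vertical
-/

universe u

open CategoryTheory CategoryTheory.Limits AlgebraicGeometry TopologicalSpace Topology IsLocalRing

set_option linter.style.haveILetI false
set_option synthInstance.maxHeartbeats 400000

namespace Groth.FlatMor2.VerticalDivisor

section Alg

open Groth.FlatMor2.DimTrdeg

variable {A B : Type u} [CommRing A] [CommRing B] [IsLocalRing A] [IsLocalRing B] [Algebra A B]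
  [IsLocalHom (algebraMap A B)] [Algebra.EssFiniteType A B] [IsDomain A] [IsDomain B] [FaithfulSMul A B]

/-- If no quotient of the closed fibre has larger transcendence degree than the algebra itself, then
an element not vanishing on any component of the closed fibre is horizontal. -/
theorem injective_to_quotient_of_le (g : B) (hg : g ∈ maximalIdeal B)
    (hmin : ∀ q ∈ ((maximalIdeal A).map (algebraMap A B)).minimalPrimes, g ∉ q)
    (hle : ∀ Q : Ideal (closedFibre A B), Q.IsPrime →
      Algebra.trdeg (ResidueField A) (closedFibre A B ⧸ Q) ≤ Algebra.trdeg A B) :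
    Function.Injective (algebraMap A (B ⧸ Ideal.span {g})) := by
  obtain ⟨d, hd'⟩ := ENat.ne_top_iff_exists.1
    (Ideal.height_ne_top_of_isPrime (I := maximalIdeal (closedFibre A B)))
  have hd : ringKrullDim (closedFibre A B) = d := by
    rw [← maximalIdeal_height_eq_ringKrullDim, ← hd']; rfl
  obtain ⟨Q, hQ, hge⟩ := exists_prime_le_trdeg (A := A) (B := B) d hd
  replace hge := hge.trans (hle Q hQ)
  obtain ⟨e, he⟩ := Cardinal.lt_aleph0.1
    ((le_self_add.trans hge).trans_lt (trdeg_lt_aleph0 A B))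
  refine injective_to_quotient g hg hmin d e hd he (le_antisymm ?_ ?_)
  · obtain ⟨s, hs, hcard⟩ :=
      (maximalIdeal (closedFibre A B)).exists_finset_card_eq_height_of_isNoetherianRing
    choose u hu using fun c : s => Ideal.Quotient.mk_surjective (c : closedFibre A B)
    obtain ⟨ι, x, hι, -, hqf⟩ := exists_params (A := A) (B := B) s hs u hu
    have : s.card = d := by rw [← hd'] at hcard; exact_mod_cast hcard
    refine (trdeg_le_mk x hqf).trans ?_
    rw [hι, he, this, Nat.cast_add]
  · rw [he] at hge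
    rw [Nat.cast_add, add_comm]
    exact hge

end Alg

variable {X S : Scheme.{u}} (f : X ⟶ S)

theorem exists_component [IrreducibleSpace ↑S] [IrreducibleSpace ↑X] [IsDominant f] [LocallyOfFiniteType f]
    (s : S) (hdim : topologicalKrullDim ↑(f.fiber s) ≤ topologicalKrullDim ↑(f.fiber (genericPoint ↑S)))
    (Z : X.IdealSheafData)
    (hZ : ∀ x : X, ∃ (U : X.Opens) (hU : IsAffineOpen U) (g : Γ(X, U)),
      x ∈ U ∧ Z.ideal ⟨U, hU⟩ = Ideal.span {g})
    (hη : ∀ x ∈ (Z.support : Set ↑X), f.base x ≠ genericPoint ↑S)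
    (x : ↑(f.base ⁻¹' {s})) (hx : (x : ↑X) ∈ (Z.support : Set ↑X)) :
    ∃ C ∈ irreducibleComponents ↑(f.base ⁻¹' {s}), x ∈ C ∧ Subtype.val '' C ⊆ (Z.support : Set ↑X) := by
  obtain ⟨x, hxs⟩ := x
  obtain rfl : f.base x = s := hxs
  obtain ⟨U, hU, g, hxU, hg⟩ := hZ x
  have hsupp : ∀ (z : X) (hz : z ∈ U), (z ∈ (Z.support : Set X) ↔ ¬ IsUnit (X.presheaf.germ U z hz g)) := by
    intro z hz
    rw [SetLike.mem_coe, Scheme.IdealSheafData.mem_support_iff_of_mem (U := ⟨U, hU⟩) hz, hg,
      Scheme.zeroLocus_span, Scheme.mem_zeroLocus_iff]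
    simp [Scheme.mem_basicOpen X g z hz]
  -- points of `Spec O_x`
  let pt : PrimeSpectrum (X.presheaf.stalk x) → X := (X.fromSpecStalk x).base
  have hptU : ∀ P, pt P ∈ U := fun P =>
    (Groth.FlatMor2.StalkTrdeg.specializes_fromSpecStalk x P).mem_open U.isOpen hxU
  let gx := X.presheaf.germ U x hxU g
  have hpt : ∀ P : PrimeSpectrum (X.presheaf.stalk x), pt P ∈ (Z.support : Set X) ↔ gx ∈ P.asIdeal := by
    intro P
    have h := Groth.FlatMor2.StalkTrdeg.specializes_fromSpecStalk x P
    rw [hsupp _ (hptU P), ← Groth.FlatMor2.StalkTrdeg.ker_toResidue h P rfl, RingHom.mem_ker]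
    simp only [Groth.FlatMor2.StalkTrdeg.toResidue, CommRingCat.hom_comp, RingHom.comp_apply, gx]
    rw [TopCat.Presheaf.germ_stalkSpecializes_apply]
    exact Iff.trans (not_congr (IsLocalRing.residue_ne_zero_iff_isUnit _).symm) not_not
  letI : Algebra (S.presheaf.stalk (f.base x)) (X.presheaf.stalk x) := (f.stalkMap x).hom.toAlgebra
  haveI : Algebra.EssFiniteType (S.presheaf.stalk (f.base x)) (X.presheaf.stalk x) :=
    LocallyOfFiniteType.stalkMap f x
  obtain ⟨P₀, hP₀⟩ : genericPoint ↑X ∈ Set.range pt :=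
    (Scheme.range_fromSpecStalk (x := x)).ge (genericPoint_specializes _)
  have hle₀ : ∀ P : PrimeSpectrum (X.presheaf.stalk x), P₀.asIdeal ≤ P.asIdeal := fun P =>
    (PrimeSpectrum.le_iff_specializes P₀ P).2 ((X.fromSpecStalk x).isEmbedding.isInducing.specializes_iff.1
      (by rw [show (X.fromSpecStalk x).base P₀ = genericPoint ↑X from hP₀]; exact genericPoint_specializes _))
  have hfgen : f.base (genericPoint ↑X) = genericPoint ↑S := by
    refine (isGenericPoint_def.2 ?_).eq (genericPoint_spec ↑S)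
    rw [← f.denseRange.closure_range, ← Set.image_univ,
      ← (genericPoint_spec ↑X).def, closure_image_closure f.continuous, Set.image_singleton]
  let p₀ : Ideal (S.presheaf.stalk (f.base x)) := P₀.asIdeal.comap (algebraMap _ _)
  haveI : p₀.IsPrime := Ideal.comap_isPrime _ _
  haveI : P₀.asIdeal.LiesOver p₀ := ⟨rfl⟩
  let A := S.presheaf.stalk (f.base x) ⧸ p₀
  let B := X.presheaf.stalk x ⧸ P₀.asIdeal
  haveI : FaithfulSMul A B := (faithfulSMul_iff_algebraMap_injective _ _).2
    (Ideal.quotientMap_injective' le_rfl)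
  haveI : Nontrivial A := Ideal.Quotient.nontrivial_iff.2 (Ideal.IsPrime.ne_top inferInstance)
  haveI : Nontrivial B := Ideal.Quotient.nontrivial_iff.2 P₀.2.ne_top
  haveI : IsLocalRing A := IsLocalRing.of_surjective' (Ideal.Quotient.mk p₀) Ideal.Quotient.mk_surjective
  haveI : IsLocalRing B := IsLocalRing.of_surjective' (Ideal.Quotient.mk P₀.asIdeal) Ideal.Quotient.mk_surjective
  let qA := Ideal.Quotient.mk p₀
  let qB := Ideal.Quotient.mk P₀.asIdeal
  haveI : IsLocalHom qA := IsLocalHom.of_surjective qA Ideal.Quotient.mk_surjective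
  haveI : IsLocalHom qB := IsLocalHom.of_surjective qB Ideal.Quotient.mk_surjective
  haveI : IsLocalHom (algebraMap A B) := ⟨fun a ha => by
    obtain ⟨a, rfl⟩ := Ideal.Quotient.mk_surjective a
    have h1 : IsUnit ((f.stalkMap x).hom a) := isUnit_of_map_unit qB _ ha
    exact (isUnit_of_map_unit (f.stalkMap x).hom _ h1).map qA⟩
  haveI : Algebra.EssFiniteType (S.presheaf.stalk (f.base x)) B := inferInstance
  haveI : Algebra.EssFiniteType A B := Algebra.EssFiniteType.of_comp (S.presheaf.stalk (f.base x)) A B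
  have hker : ∀ (P : PrimeSpectrum (X.presheaf.stalk x)),
      f.base (pt P) = f.base x ↔ maximalIdeal _ ≤ P.asIdeal.comap (f.stalkMap x).hom := by
    intro P
    have he : f.base (pt P) = (S.fromSpecStalk (f.base x)).base (PrimeSpectrum.comap (f.stalkMap x).hom P) := by
      show (X.fromSpecStalk x ≫ f).base P = _
      rw [← Scheme.SpecMap_stalkMap_fromSpecStalk f, Scheme.Hom.comp_apply]
      rfl
    rw [he]
    constructor
    · intro h
      have h' := (S.fromSpecStalk (f.base x)).isEmbedding.injective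
        (h.trans Scheme.fromSpecStalk_closedPoint.symm)
      exact (congrArg PrimeSpectrum.asIdeal h').ge
    · intro h
      have h' : PrimeSpectrum.comap (f.stalkMap x).hom P = closedPoint _ :=
        PrimeSpectrum.ext (((maximalIdeal.isMaximal _).eq_of_le
          (Ideal.IsPrime.ne_top inferInstance) h).symm)
      rw [h']
      exact Scheme.fromSpecStalk_closedPoint
  by_contra hcon
  push Not at hcon
  have hmin : ∀ q ∈ ((maximalIdeal A).map (algebraMap A B)).minimalPrimes, qB gx ∉ q := by
    intro q hq hgq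
    haveI := hq.1.1
    let P : PrimeSpectrum (X.presheaf.stalk x) := ⟨q.comap qB, inferInstance⟩
    have hmP : maximalIdeal _ ≤ P.asIdeal.comap (f.stalkMap x).hom := fun a ha =>
      hq.1.2 (Ideal.mem_map_of_mem (algebraMap A B) (show qA a ∈ maximalIdeal A from by
        rwa [← Ideal.mem_comap, maximalIdeal_comap qA]))
    let w : ↑(f.base ⁻¹' {f.base x}) := ⟨pt P, (hker P).2 hmP⟩
    haveI : QuasiSober ↑(f.base ⁻¹' {f.base x}) :=
      (f.fiberHomeo (f.base x)).symm.isClosedEmbedding.quasiSober
    let C := irreducibleComponent w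
    have hC : IsClosed C := isClosed_irreducibleComponent
    obtain ⟨v, hv⟩ := QuasiSober.sober (isIrreducible_irreducibleComponent (x := w)) hC
    have hvw : v ⤳ w := hv.specializes mem_irreducibleComponent
    have hwx : (w : X) ⤳ x := Groth.FlatMor2.StalkTrdeg.specializes_fromSpecStalk x P
    obtain ⟨R, hR⟩ : (v : X) ∈ Set.range pt :=
      (Scheme.range_fromSpecStalk (x := x)).ge ((hvw.map continuous_subtype_val).trans hwx)
    have hRP : R.asIdeal ≤ P.asIdeal :=
      (PrimeSpectrum.le_iff_specializes R P).2 ((X.fromSpecStalk x).isEmbedding.isInducing.specializes_iff.1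
        (by
          have h1 := hvw.map continuous_subtype_val
          rw [← hR] at h1
          exact h1))
    have hRm : maximalIdeal _ ≤ R.asIdeal.comap (f.stalkMap x).hom := (hker R).1 (by rw [hR]; exact v.2)
    haveI : (R.asIdeal.map qB).IsPrime := Ideal.map_isPrime_of_surjective Ideal.Quotient.mk_surjective
      (by rw [Ideal.mk_ker]; exact hle₀ R)
    have hle1 : (maximalIdeal A).map (algebraMap A B) ≤ R.asIdeal.map qB := by
      rw [Ideal.map_le_iff_le_comap]
      intro a ha
      obtain ⟨a, rfl⟩ := Ideal.Quotient.mk_surjective a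
      rw [← Ideal.mem_comap, maximalIdeal_comap qA] at ha
      exact Ideal.mem_map_of_mem qB (hRm ha)
    have hle2 : R.asIdeal.map qB ≤ q := Ideal.map_le_iff_le_comap.2 hRP
    have hPR : P.asIdeal ≤ R.asIdeal := by
      refine (Ideal.comap_mono (hq.2 ⟨inferInstance, hle1⟩ hle2)).trans ?_
      rw [Ideal.comap_map_of_surjective _ Ideal.Quotient.mk_surjective, ← RingHom.ker_eq_comap_bot,
        Ideal.mk_ker, sup_of_le_left (hle₀ R)]
    have hvP : (v : X) = pt P := by
      rw [← hR, show R = P from PrimeSpectrum.ext (le_antisymm hRP hPR)]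
    refine (hcon C (irreducibleComponent_mem_irreducibleComponents w) ?_) ?_
    · show _ ∈ irreducibleComponent w
      rw [← isGenericPoint_def.1 hv, ← specializes_iff_mem_closure, subtype_specializes_iff]
      exact (hvw.map continuous_subtype_val).trans hwx
    · rintro _ ⟨c, hc, rfl⟩
      have h1 : (v : X) ∈ (Z.support : Set X) := by rw [hvP, hpt]; exact hgq
      exact ((hv.specializes hc).map continuous_subtype_val).mem_closed Z.support.isClosed h1
  have hgB : qB gx ∈ maximalIdeal B := by
    rw [← Ideal.mem_comap, maximalIdeal_comap qB]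
    exact (hsupp x hxU).1 hx
  have hAB : Algebra.trdeg A B = Groth.Variety2.Dim.relTrdeg f (genericPoint ↑X) := by
    rw [← hP₀]
    exact Groth.FlatMor2.StalkTrdeg.relTrdeg_eq_trdeg f rfl P₀ p₀ rfl
  have hdimη : topologicalKrullDim ↑(f.fiber (genericPoint ↑S)) ≤
      ((Order.height (f.asFiber (genericPoint ↑X)) : ℕ∞) : WithBot ℕ∞) := by
    rw [← hfgen, Groth.Variety2.Dim.dim_eq_iSup_height]
    refine iSup_le fun w => WithBot.coe_le_coe.2 (Order.height_mono ?_)
    refine Scheme.le_iff_specializes.2 ((f.fiberι _).isEmbedding.isInducing.specializes_iff.1 ?_)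
    rw [f.fiberι_asFiber]
    exact genericPoint_specializes _
  have hle : ∀ Q : Ideal (Groth.FlatMor2.DimTrdeg.closedFibre A B), Q.IsPrime →
      Algebra.trdeg (ResidueField A) (Groth.FlatMor2.DimTrdeg.closedFibre A B ⧸ Q) ≤ Algebra.trdeg A B := by
    intro Q hQ
    let qT := Ideal.Quotient.mk ((maximalIdeal A).map (algebraMap A B))
    let π : X.presheaf.stalk x →+* Groth.FlatMor2.DimTrdeg.closedFibre A B ⧸ Q :=
      (Ideal.Quotient.mk Q).comp (qT.comp qB)
    have hπ : Function.Surjective π :=
      Ideal.Quotient.mk_surjective.comp (Ideal.Quotient.mk_surjective.comp Ideal.Quotient.mk_surjective)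
    let P : PrimeSpectrum (X.presheaf.stalk x) := ⟨RingHom.ker π, RingHom.ker_isPrime π⟩
    have hmP : maximalIdeal _ ≤ P.asIdeal.comap (f.stalkMap x).hom := fun a ha => by
      show (Ideal.Quotient.mk Q) (qT (algebraMap A B (qA a))) = 0
      rw [show qT (algebraMap A B (qA a)) = 0 from Ideal.Quotient.eq_zero_iff_mem.2
        (Ideal.mem_map_of_mem _ (by rwa [← Ideal.mem_comap, maximalIdeal_comap qA])), map_zero]
    have hcomap : maximalIdeal _ = P.asIdeal.comap (algebraMap (S.presheaf.stalk (f.base x)) _) :=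
      (maximalIdeal.isMaximal _).eq_of_le (P.2.comap _).ne_top hmP
    haveI : P.asIdeal.LiesOver (maximalIdeal (S.presheaf.stalk (f.base x))) := ⟨hcomap⟩
    have h1 := Groth.FlatMor2.StalkTrdeg.relTrdeg_eq_trdeg f rfl P _ hcomap
    have h2 : Algebra.trdeg (ResidueField A) (Groth.FlatMor2.DimTrdeg.closedFibre A B ⧸ Q) ≤
        Algebra.trdeg (S.presheaf.stalk (f.base x) ⧸ maximalIdeal (S.presheaf.stalk (f.base x))) (X.presheaf.stalk x ⧸ P.asIdeal) := by
      let k := S.presheaf.stalk (f.base x) ⧸ maximalIdeal (S.presheaf.stalk (f.base x))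
      let e : (X.presheaf.stalk x ⧸ P.asIdeal) ≃+* (Groth.FlatMor2.DimTrdeg.closedFibre A B ⧸ Q) :=
        RingHom.quotientKerEquivOfSurjective hπ
      let σ : k →+* ResidueField A := ResidueField.map qA
      have hσ : Function.Surjective σ := by
        intro c
        obtain ⟨c, rfl⟩ := residue_surjective c
        obtain ⟨a, rfl⟩ := Ideal.Quotient.mk_surjective c
        exact ⟨residue _ a, rfl⟩
      letI := σ.toAlgebra
      letI : Algebra k (Groth.FlatMor2.DimTrdeg.closedFibre A B ⧸ Q) :=
        ((algebraMap (ResidueField A) _).comp σ).toAlgebra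
      haveI : IsScalarTower k (ResidueField A) (Groth.FlatMor2.DimTrdeg.closedFibre A B ⧸ Q) :=
        IsScalarTower.of_algebraMap_eq (R := k) (S := ResidueField A)
          (A := Groth.FlatMor2.DimTrdeg.closedFibre A B ⧸ Q) fun _ => rfl
      letI : Field k := Ideal.Quotient.field _
      have he : ∀ c : k, e (algebraMap k (X.presheaf.stalk x ⧸ P.asIdeal) c) =
          algebraMap k (Groth.FlatMor2.DimTrdeg.closedFibre A B ⧸ Q) c := by
        intro c
        obtain ⟨a, rfl⟩ := Ideal.Quotient.mk_surjective c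
        rfl
      let e' : (X.presheaf.stalk x ⧸ P.asIdeal) ≃ₐ[k] (Groth.FlatMor2.DimTrdeg.closedFibre A B ⧸ Q) :=
        AlgEquiv.ofRingEquiv (f := e) he
      rw [e'.trdeg_eq]
      haveI : Algebra.IsAlgebraic k (ResidueField A) := ⟨fun c => by
        obtain ⟨d, rfl⟩ := hσ c
        exact isAlgebraic_algebraMap (R := k) (A := ResidueField A) d⟩
      haveI : FaithfulSMul k (ResidueField A) :=
        (faithfulSMul_iff_algebraMap_injective _ _).2 σ.injective
      have h0 := trdeg_add_eq k (ResidueField A) (A := Groth.FlatMor2.DimTrdeg.closedFibre A B ⧸ Q)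
      rw [trdeg_eq_zero, zero_add] at h0
      exact h0.le
    refine h2.trans ?_
    rw [h1, hAB]
    set z := (X.fromSpecStalk x).base P
    have hz : f.base z = f.base x := (hker P).2 hmP
    obtain ⟨n, hn, hn'⟩ := Groth.FibreDim.exists_relTrdeg_eq_height f z
    obtain ⟨m, hm, hm'⟩ := Groth.FibreDim.exists_relTrdeg_eq_height f (genericPoint ↑X)
    rw [hn, hm, Nat.cast_le]
    have : ((Order.height (f.asFiber z) : ℕ∞) : WithBot ℕ∞) ≤
        ((Order.height (f.asFiber (genericPoint ↑X)) : ℕ∞) : WithBot ℕ∞) := by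
      refine le_trans ?_ (hdim.trans hdimη)
      rw [← hz, Groth.Variety2.Dim.dim_eq_iSup_height]
      exact le_iSup (fun w => ((Order.height w : ℕ∞) : WithBot ℕ∞)) (f.asFiber z)
    rw [hn', hm', WithBot.coe_le_coe, Nat.cast_le] at this
    exact this
  have hinj := injective_to_quotient_of_le (A := A) (B := B) (qB gx) hgB hmin hle
  obtain ⟨q, hq, hgq, hqA⟩ := Ideal.exists_comap_eq_of_mem_minimalPrimes (I := Ideal.span {qB gx})
    (algebraMap A B) ⊥ (by
      have h0 : (Ideal.span {qB gx}).comap (algebraMap A B) = ⊥ := le_bot_iff.1 fun a ha => hinj (by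
        rw [map_zero, IsScalarTower.algebraMap_apply A B (B ⧸ Ideal.span {qB gx})]
        exact Ideal.Quotient.eq_zero_iff_mem.2 ha)
      rw [h0]
      exact ⟨⟨Ideal.isPrime_bot, le_rfl⟩, fun _ _ _ => bot_le⟩)
  let P : PrimeSpectrum (X.presheaf.stalk x) := ⟨q.comap qB, inferInstance⟩
  refine hη (pt P) ((hpt P).2 (hgq (Ideal.subset_span rfl))) ?_
  rw [← hfgen, ← hP₀]
  show (X.fromSpecStalk x ≫ f).base P = (X.fromSpecStalk x ≫ f).base P₀
  rw [← Scheme.SpecMap_stalkMap_fromSpecStalk f, Scheme.Hom.comp_apply, Scheme.Hom.comp_apply]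
  refine congrArg _ (PrimeSpectrum.ext ?_)
  ext a
  show qA a ∈ q.comap (algebraMap A B) ↔ a ∈ p₀
  rw [hqA]
  exact Ideal.Quotient.eq_zero_iff_mem

end Groth.FlatMor2.VerticalDivisor
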